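import Groth.Agent.L25.Observable.Semi
import Mathlib.LinearAlgebra.Determinant
import Mathlib.LinearAlgebra.Matrix.NonsingularInverse

/-!
# Modules of an observable subgroup extend to the group
-/

set_option autoImplicit false
set_option backward.isDefEq.respectTransparency.types false
set_option maxHeartbeats 800000

universe u

open CategoryTheory CategoryTheory.Limits MonoidalCategory CartesianMonoidalCategory MonObj AlgebraicGeometry
open scoped TensorProduct
open WithConv

noncomputable section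

namespace Groth.L25.Observable

open Groth.L08.Chevalley

variable {k : Type u} [Field k] {G H : Over (Spec (CommRingCat.of k))} [GrpObj G]
  {A : Type u} [CommRing A] [HopfAlgebra k A] (ψ : G ⟶ Sp k A) [IsMonHom ψ]

/-- linearly independent functions have a nonzero determinant at some points -/
theorem exists_pts_det_ne_zero [IsIso ψ] [IsAlgClosed k] [_root_.IsReduced A] [Algebra.FiniteType k A]
    {d : ℕ} (v : Fin d → A) (hv : LinearIndependent k v) :
    ∃ y : Fin d → (VecGrp.pt k k ⟶ G), (Matrix.of fun m l => (ev ψ (y m)).ofConv (v l)).det ≠ 0 := by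
  classical
  let row : (VecGrp.pt k k ⟶ G) → Fin d → k := fun y l => (ev ψ y).ofConv (v l)
  have hspan : Submodule.span k (Set.range row) = ⊤ := by
    rw [← Subspace.dualAnnihilator_inj, Submodule.dualAnnihilator_top, eq_bot_iff]
    intro φ hφ
    rw [Submodule.mem_dualAnnihilator] at hφ
    have h0 : ∑ l, φ (Pi.single l 1) • v l = 0 := eq_of_forall_ev ψ fun y => by
      rw [map_zero, map_sum]
      have h1 := hφ (row y) (Submodule.subset_span ⟨y, rfl⟩)
      rw [pi_eq_sum_univ' (row y), map_sum] at h1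
      refine Eq.trans (Finset.sum_congr rfl fun l _ => ?_) h1
      rw [map_smul, map_smul, smul_eq_mul, smul_eq_mul, mul_comm]
    have h2 := Fintype.linearIndependent_iff.1 hv _ h0
    refine LinearMap.pi_ext' fun l => LinearMap.ext_ring ?_
    simpa using h2 l
  obtain ⟨b, hb, hbs, hli⟩ := exists_linearIndependent k (Set.range row)
  rw [hspan] at hbs
  let B : Module.Basis b k (Fin d → k) := Module.Basis.mk hli (by rw [Subtype.range_coe, hbs])
  let e := B.indexEquiv (Pi.basisFun k (Fin d))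
  choose y hy using fun m => hb (e.symm m).2
  refine ⟨y, ?_⟩
  have hM : (Matrix.of fun m l => (ev ψ (y m)).ofConv (v l)) = Matrix.of fun m => ((e.symm m : b) : Fin d → k) := by
    ext m l
    exact congrFun (hy m) l
  rw [hM]
  have := (Matrix.linearIndependent_rows_iff_isUnit (A := Matrix.of fun m => ((e.symm m : b) : Fin d → k))).1
    (hli.comp _ e.symm.injective)
  exact ((Matrix.isUnit_iff_isUnit_det _).1 this).ne_zero

/-- the coefficient functions of a module -/
theorem exists_modfun [IsIso ψ] [IsAlgClosed k] [IsAffine G.left] [_root_.IsReduced A] [Algebra.FiniteType k A] {V : Type u} [AddCommGroup V] [Module k V]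
    (σ : VecGrp.GMod G V) (φ : V →ₗ[k] k) :
    ∃ c : V →ₗ[k] A, ∀ (x : VecGrp.pt k k ⟶ G) (v : V),
      (ev ψ x).ofConv (c v) = φ (TensorProduct.lid k V (σ.ρ k x ((1 : k) ⊗ₜ[k] v))) := by
  obtain ⟨alg, gen, _, -, hfac⟩ := exists_gen G
  letI := alg
  let F : V →ₗ[k] Γ(G.left, ⊤) := (TensorProduct.rid k Γ(G.left, ⊤)).toLinearMap.restrictScalars k ∘ₗ
    (φ.lTensor Γ(G.left, ⊤)) ∘ₗ ((σ.ρ _ gen).toLinearMap.restrictScalars k) ∘ₗ
      TensorProduct.mk k Γ(G.left, ⊤) V 1
  choose c hc using fun v => fn_surjective ψ (F v)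
  have hval : ∀ (x : VecGrp.pt k k ⟶ G) (v : V),
      (ev ψ x).ofConv (c v) = φ (TensorProduct.lid k V (σ.ρ k x ((1 : k) ⊗ₜ[k] v))) := by
    intro x v
    obtain ⟨f, h1, h2⟩ := hfac k x
    rw [← val_fn, hc, ← h2, ← h1]
    have key : ∀ z : Γ(G.left, ⊤) ⊗[k] V, f (TensorProduct.rid k _ (φ.lTensor Γ(G.left, ⊤) z)) =
        φ (TensorProduct.lid k V (VecGrp.Wmap f z)) := by
      intro z
      induction z using TensorProduct.induction_on with
      | zero => simp
      | add x y hx hy => simp only [map_add, hx, hy]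
      | tmul a w => simp [VecGrp.Wmap, mul_comm]
    refine (key _).trans ?_
    show φ (TensorProduct.lid k V (VecGrp.Wmap f (σ.ρ _ gen ((1 : Γ(G.left, ⊤)) ⊗ₜ[k] v)))) = _
    rw [σ.naturality]
    simp [VecGrp.Wmap]
  refine ⟨{ toFun := c, map_add' := fun v w => ?_, map_smul' := fun r v => ?_ }, hval⟩
  · refine eq_of_forall_ev ψ fun x => ?_
    simp only [map_add, hval, TensorProduct.tmul_add]
  · refine eq_of_forall_ev ψ fun x => ?_
    simp only [RingHom.id_apply, map_smul, hval, TensorProduct.tmul_smul]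

/-- a subgroup module with an equivariant family of maps into the functions extends -/
theorem extendsAlong_of_maps [IsIso ψ] [IsAlgClosed k] [_root_.IsReduced A] [Algebra.FiniteType k A]
    [GrpObj H] [IsAffine H.left] [Smooth H.hom] (i : H ⟶ G) {V : Type u} [AddCommGroup V] [Module k V]
    [Module.Finite k V] (σ : VecGrp.GMod H V) {κ : Type} [Fintype κ] [DecidableEq κ] (Φ : κ → V →ₗ[k] A)
    (hinj : ∀ v, (∀ r, Φ r v = 0) → v = 0)
    (heq : ∀ r (x : VecGrp.pt k k ⟶ G) (h : VecGrp.pt k k ⟶ H) (v : V),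
      (ev ψ x).ofConv (Φ r (TensorProduct.lid k V (σ.ρ k h ((1 : k) ⊗ₜ[k] v)))) =
        (ev ψ (x * (h ≫ i))).ofConv (Φ r v)) :
    σ.ExtendsAlong i := by
  classical
  let bV := Module.finBasis k V
  obtain ⟨d, b, a, ha, hΔ, hli, hb⟩ :=
    exists_comatrix (k := k) (Finset.univ.image fun p : κ × _ => Φ p.1 (bV p.2))
  let L₀ := Fintype.linearCombination k b
  obtain ⟨e, he⟩ := L₀.exists_leftInverse_of_injective (LinearMap.ker_eq_bot.2 hli.fintypeLinearCombination_injective)
  have hspan : ∀ r v, L₀ (e (Φ r v)) = Φ r v := by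
    intro r v
    suffices h : (L₀ ∘ₗ e) ∘ₗ Φ r = Φ r from LinearMap.congr_fun h v
    refine bV.ext fun l => ?_
    obtain ⟨x, hx⟩ := hb _ (Finset.mem_image_of_mem _ (Finset.mem_univ (r, l)))
    show L₀ (e (Φ r (bV l))) = Φ r (bV l)
    rw [show Φ r (bV l) = L₀ x from hx, show e (L₀ x) = x from LinearMap.congr_fun he x]
  let a' : κ × Fin d → κ × Fin d → A := fun p q => if p.1 = q.1 then a p.2 q.2 else 0
  have ha' : IsComatrix (k := k) a' := isComatrix_block (σ := κ) ha
  obtain ⟨m₀, hm₀, -⟩ := ComodGMod.exists_gmod (R := k) (A := A) (coactOf (k := k) a') (comodOf a' ha').coassoc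
    (comodOf a' ha').counit_comp
  let m : VecGrp.GMod G (κ × Fin d → k) := ⟨fun B _ _ => (m₀.ρ B).comp
    { toFun := fun g => g ≫ ψ
      map_one' := MonObj.one_comp ψ
      map_mul' := fun g g' => MonObj.mul_comp g g' ψ }, fun f g x => by
      show VecGrp.Wmap f (m₀.ρ _ (g ≫ ψ) x) = m₀.ρ _ ((VecGrp.ptMap f ≫ g) ≫ ψ) _
      rw [m₀.naturality, Category.assoc]⟩
  let W₀ := fun x : κ × Fin d → k => fun g : VecGrp.pt k k ⟶ G => fun p : κ × Fin d =>
    ∑ j, x (p.1, j) • (ev ψ g).ofConv (a p.2 j)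
  have hm : ∀ (g : VecGrp.pt k k ⟶ G) (x : κ × Fin d → k),
      m.ρ k g ((1 : k) ⊗ₜ[k] x) = (1 : k) ⊗ₜ[k] W₀ x g := by
    intro g x
    show m₀.ρ k (g ≫ ψ) _ = _
    rw [hm₀, ComodGMod.T_apply, ← TensorProduct.comm_tmul k (κ × Fin d → k) k (W₀ x g) 1,
      (TensorProduct.comm k (κ × Fin d → k) k).injective.eq_iff, eq_iff_coord]
    intro p
    rw [coord_coactOf]
    show ∑ q : κ × Fin d, x q • (ev ψ g).ofConv (a' p q) = _
    rw [Fintype.sum_prod_type, Finset.sum_eq_single_of_mem p.1 (Finset.mem_univ _)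
      (fun t _ ht => Finset.sum_eq_zero fun l _ => by simp [a', Ne.symm ht])]
    simp [a', W₀]
  let φ : V →ₗ[k] (κ × Fin d → k) := LinearMap.pi fun p => LinearMap.proj p.2 ∘ₗ e ∘ₗ Φ p.1
  have hrel : ∀ (h : VecGrp.pt k k ⟶ H) (v : V),
      φ (TensorProduct.lid k V (σ.ρ k h ((1 : k) ⊗ₜ[k] v))) = W₀ (φ v) (h ≫ i) := by
    intro h v
    funext p
    have h0 : L₀ (fun l => W₀ (φ v) (h ≫ i) (p.1, l)) =
        Φ p.1 (TensorProduct.lid k V (σ.ρ k h ((1 : k) ⊗ₜ[k] v))) := by
      refine eq_of_forall_ev ψ fun y => ?_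
      rw [heq, ← hspan p.1 v, ev_mul]
      simp only [L₀, Fintype.linearCombination_apply, map_sum, map_smul, AlgHom.convMul_apply, hΔ,
        Algebra.TensorProduct.lift_tmul, smul_eq_mul, W₀, φ, LinearMap.pi_apply, LinearMap.comp_apply,
        LinearMap.proj_apply, Finset.mul_sum, Finset.sum_mul]
      rw [Finset.sum_comm]
      refine Finset.sum_congr rfl fun i _ => Finset.sum_congr rfl fun j _ => ?_
      ring
    show e (Φ p.1 _) p.2 = _
    rw [← h0, show e (L₀ _) = _ from LinearMap.congr_fun he _]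
    rfl
  refine ⟨κ × Fin d → k, inferInstance, inferInstance, inferInstance, m, φ,
    (injective_iff_map_eq_zero φ).2 fun v hv => hinj v fun r => ?_, ?_⟩
  · rw [← hspan r v, show e (Φ r v) = fun l => φ v (r, l) from rfl, hv]
    exact map_zero L₀
  intro B _ _ h z
  induction z using TensorProduct.induction_on with
  | zero => simp
  | add p q hp hq => simp only [map_add, hp, hq]
  | tmul c v =>
    rw [show c ⊗ₜ[k] v = c • ((1 : B) ⊗ₜ[k] v) by rw [TensorProduct.smul_tmul', smul_eq_mul, _root_.mul_one]]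
    simp only [map_smul]
    congr 1
    obtain ⟨alg, gen, _, hgen, hfac⟩ := exists_gen H
    letI := alg
    have h0 : φ.baseChange Γ(H.left, ⊤) (σ.ρ _ gen ((1 : Γ(H.left, ⊤)) ⊗ₜ[k] v)) =
        m.ρ _ (gen ≫ i) (φ.baseChange _ ((1 : Γ(H.left, ⊤)) ⊗ₜ[k] v)) := by
      let eb := Pi.basisFun k (κ × Fin d)
      refine (eb.baseChange Γ(H.left, ⊤)).repr.injective (Finsupp.ext fun j => hgen _ _ ?_)
      congr 1
      refine eq_of_forall_val fun γ => ?_
      obtain ⟨f, hf, hval⟩ := hfac k γ
      rw [← hval, ← hval]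
      have key : ∀ z : Γ(H.left, ⊤) ⊗[k] (κ × Fin d → k), f ((eb.baseChange Γ(H.left, ⊤)).repr z j) =
          (eb.baseChange k).repr (VecGrp.Wmap f z) j := by
        intro z
        induction z using TensorProduct.induction_on with
        | zero => simp
        | add x y hx hy => simp only [map_add, Finsupp.add_apply, hx, hy]
        | tmul c w => simp [VecGrp.Wmap, mul_comm]
      have key2 : ∀ z : Γ(H.left, ⊤) ⊗[k] V, VecGrp.Wmap f (φ.baseChange _ z) = φ.baseChange k (VecGrp.Wmap f z) := by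
        intro z
        induction z using TensorProduct.induction_on with
        | zero => simp
        | add x y hx hy => simp only [map_add, hx, hy]
        | tmul c w => simp [VecGrp.Wmap]
      rw [key, key, key2, σ.naturality, hf, m.naturality, ← Category.assoc, hf, key2,
        show VecGrp.Wmap f ((1 : Γ(H.left, ⊤)) ⊗ₜ[k] v) = (1 : k) ⊗ₜ[k] v by simp [VecGrp.Wmap],
        LinearMap.baseChange_tmul, hm, ← hrel]
      generalize σ.ρ k γ ((1 : k) ⊗ₜ[k] v) = z
      congr 1
      induction z using TensorProduct.induction_on with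
      | zero => simp
      | add x y hx hy => simp only [map_add, hx, hy, TensorProduct.tmul_add]
      | tmul c w => simp [TensorProduct.smul_tmul']
    obtain ⟨f, hf, -⟩ := hfac B h
    have key2 : ∀ z : Γ(H.left, ⊤) ⊗[k] V, VecGrp.Wmap f (φ.baseChange _ z) = φ.baseChange B (VecGrp.Wmap f z) := by
      intro z
      induction z using TensorProduct.induction_on with
      | zero => simp
      | add x y hx hy => simp only [map_add, hx, hy]
      | tmul c w => simp [VecGrp.Wmap]
    have h1 := congrArg (VecGrp.Wmap f) h0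
    rw [key2, σ.naturality, hf, m.naturality, ← Category.assoc, hf, key2,
      show VecGrp.Wmap f ((1 : Γ(H.left, ⊤)) ⊗ₜ[k] v) = (1 : B) ⊗ₜ[k] v by simp [VecGrp.Wmap]] at h1
    exact h1

end Groth.L25.Observable
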