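import Groth.Agent.L25.Observable.Basic
import Groth.Agent.L25.ConnIrred

/-!
# Right translation of functions and connected groups
-/

set_option autoImplicit false
set_option backward.isDefEq.respectTransparency.types false

universe u

open CategoryTheory CategoryTheory.Limits MonoidalCategory CartesianMonoidalCategory MonObj AlgebraicGeometry
open scoped TensorProduct
open WithConv

noncomputable section

namespace Groth.L25.Observable

variable {k : Type u} [Field k] {G : Over (Spec (CommRingCat.of k))}
  {A : Type u} [CommRing A] [HopfAlgebra k A]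

/-- right translation of a function by a rational point -/
def Rt (g : A →ₐ[k] k) : A →ₐ[k] A :=
  ((Algebra.TensorProduct.rid k k A).toAlgHom.comp (Algebra.TensorProduct.map (AlgHom.id k A) g)).comp
    (Bialgebra.comulAlgHom k A)

theorem apply_Rt (x g : WithConv (A →ₐ[k] k)) (a : A) :
    x.ofConv (Rt g.ofConv a) = (x * g).ofConv a := by
  rw [AlgHom.convMul_apply, Rt, AlgHom.comp_apply, AlgHom.comp_apply, Bialgebra.comulAlgHom_apply]
  generalize Coalgebra.comul (R := k) a = z
  induction z using TensorProduct.induction_on with
  | zero => simp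
  | add p q hp hq => simp only [map_add, hp, hq]
  | tmul p q => simp [mul_comm]

variable (ψ : G ⟶ Sp k A)

theorem fn_injective [IsIso ψ] : Function.Injective (fn ψ) := fun a a' e => by
  haveI : IsIso ψ.left := inferInstanceAs (IsIso ((Over.forget _).map ψ))
  exact (ConcreteCategory.bijective_of_isIso (Scheme.ΓSpecIso (CommRingCat.of A)).inv).1
    ((ConcreteCategory.bijective_of_isIso ((Scheme.Γ).map ψ.left.op)).1 e)

theorem fn_mul (a a' : A) : fn ψ (a * a') = fn ψ a * fn ψ a' := by
  unfold fn
  exact (congrArg _ (map_mul (Scheme.ΓSpecIso (CommRingCat.of A)).inv.hom a a')).trans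
    (map_mul ψ.left.appTop.hom _ _)

theorem fn_zero : fn ψ 0 = 0 := by
  unfold fn
  exact (congrArg _ (map_zero (Scheme.ΓSpecIso (CommRingCat.of A)).inv.hom)).trans
    (map_zero ψ.left.appTop.hom)

theorem isDomain [IsIso ψ] [GrpObj G] [Smooth G.hom] [ConnectedSpace G.left] : IsDomain A := by
  have hiso : IsIso ψ.left := inferInstanceAs (IsIso ((Over.forget _).map ψ))
  haveI : IrreducibleSpace G.left := ConnIrred.irreducibleSpace G
  haveI : AlgebraicGeometry.IsReduced G.left := Groth.Agent.AV.isReduced_of_smooth_field G.hom
  haveI : IsIntegral G.left := isIntegral_of_irreducibleSpace_of_isReduced _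
  haveI : IsIntegral (Spec (CommRingCat.of A)) := @IsIntegral.of_isIso _ _ inferInstance ψ.left hiso
  exact (affine_isIntegral_iff (CommRingCat.of A)).1 inferInstance

/-- two elements agreeing at all rational points are equal -/
theorem eq_of_forall_ev [IsAlgClosed k] [IsIso ψ] [_root_.IsReduced A] [Algebra.FiniteType k A] {a a' : A}
    (h : ∀ x : VecGrp.pt k k ⟶ G, (ev ψ x).ofConv a = (ev ψ x).ofConv a') : a = a' :=
  eq_of_sub_eq_zero (GeomIrred.eq_zero_of_forall_algHom (k := k) _ fun φ => by
    obtain ⟨x, hx⟩ := ev_surjective ψ (toConv φ)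
    have := h x
    rw [hx] at this
    rw [map_sub, sub_eq_zero]
    exact this)

end Groth.L25.Observable
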