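import Groth.Agent.L25.Observable.AlgAction
import Groth.Agent.L25.Observable.Extend
import Groth.Agent.L25.Observable.Translate
import Groth.Agent.L25.ComodGMod
import Groth.Agent.L08.Flag
import Groth.Agent.L25.Locus.FixedConn
import Groth.Agent.L25.MonoClosed.Main
import Groth.Agent.L25.SplitSub.Image
import Groth.Agent.L25.Bridge.Spec
import Groth.Agent.L01.Unip.SepTrig
import Groth.Agent.S3266
import Groth.Agent.S7967
import Groth.Agent.S4128
import Groth.Agent.S5422
import Mathlib.LinearAlgebra.FreeModule.PID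

/-!
# Fixed vectors of connected solvable groups without subtori
-/

set_option autoImplicit false
set_option backward.isDefEq.respectTransparency.types false
set_option maxHeartbeats 1000000
set_option linter.style.haveILetI false

universe u

open CategoryTheory CategoryTheory.Limits MonoidalCategory CartesianMonoidalCategory MonObj AlgebraicGeometry
open scoped TensorProduct
open WithConv

noncomputable section

namespace Groth.L25.Observable

variable {k : Type u} [Field k] [IsAlgClosed k]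

/-- over an algebraically closed field the geometric point is an isomorphism -/
theorem isIso_geomPt (s : ↥(Spec (CommRingCat.of k))) : IsIso (Red.geomPt s) := by
  let K := AlgebraicClosure ((Spec (CommRingCat.of k)).residueField s)
  obtain ⟨ψ, hψ⟩ : ∃ ψ : CommRingCat.of k ⟶ (Spec (CommRingCat.of k)).residueField s,
      Spec.map ψ = (Spec (CommRingCat.of k)).fromSpecResidueField s :=
    ⟨Spec.preimage _, Spec.map_preimage _⟩
  have hψf : ψ.hom.Finite := by
    haveI : IsPreimmersion (Spec.map ψ) := hψ.symm ▸ inferInstance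
    haveI hc : IsClosedImmersion (Spec.map ψ) := .of_isPreimmersion _ (by
      haveI : Subsingleton ↥(Spec (CommRingCat.of k)) := inferInstanceAs (Subsingleton (PrimeSpectrum k))
      exact isClosed_discrete _)
    exact (IsFinite.SpecMap_iff (f := ψ)).1 inferInstance
  let φ := ψ ≫ CommRingCat.ofHom (algebraMap ((Spec (CommRingCat.of k)).residueField s) K)
  have hφ : Spec.map φ = Red.geomPt s := by rw [Spec.map_comp, hψ]; rfl
  letI : Algebra k ((Spec (CommRingCat.of k)).residueField s) := ψ.hom.toAlgebra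
  have hφK : φ.hom = algebraMap k K := by
    rw [IsScalarTower.algebraMap_eq k ((Spec (CommRingCat.of k)).residueField s) K]
    rfl
  haveI : Module.Finite k ((Spec (CommRingCat.of k)).residueField s) := hψf
  haveI : Algebra.IsAlgebraic k K :=
    Algebra.IsAlgebraic.trans k ((Spec (CommRingCat.of k)).residueField s) K
  have hb : Function.Bijective φ.hom := hφK ▸ IsAlgClosed.algebraMap_bijective_of_isIntegral (k := k) (K := K)
  haveI : IsIso φ := (ConcreteCategory.isIso_iff_bijective φ).2 hb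
  rw [← hφ]; infer_instance

omit [IsAlgClosed k] in
/-- connectedness and absence of subtori descend along an isomorphism of bases -/
theorem connected_noSubtorus_of_bc {K : Type u} [Field K] (pt : Spec (CommRingCat.of K) ⟶ Spec (CommRingCat.of k))
    [IsIso pt] (U : Over (Spec (CommRingCat.of k))) [GrpObj U] (hc : ConnectedSpace (Red.bc pt U).left)
    (hn : Red.HasNoSubtorus K (Red.bc pt U)) : ConnectedSpace U.left ∧ Red.HasNoSubtorus k U := by
  refine ⟨?_, fun T _ j _ _ hT => ?_⟩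
  · haveI : ConnectedSpace ↥(pullback U.hom pt) := hc
    exact (Scheme.homeoOfIso (asIso (pullback.fst U.hom pt))).surjective.connectedSpace (Homeomorph.continuous _)
  · haveI := Groth.L25.MonoClosed.isMonHom_pullbackMap pt j
    have h1 : IsIso (pullback.snd T.hom pt) :=
      hn (Red.bc pt T) ((Over.pullback pt).map j) (Groth.L25.Locus.isTorus_bc hT pt)
    show IsIso T.hom
    rw [show T.hom = inv (pullback.fst T.hom pt) ≫ pullback.snd T.hom pt ≫ pt by
      rw [← pullback.condition, IsIso.inv_hom_id_assoc]]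
    infer_instance

/-- connectedness and absence of subtori descend from the geometric fibre -/
theorem connected_noSubtorus_of_geomFibre (U : Over (Spec (CommRingCat.of k))) [GrpObj U]
    (h : ∀ s : ↥(Spec (CommRingCat.of k)), ConnectedSpace (Red.geomFibre s U).left ∧
      Red.HasNoSubtorus (AlgebraicClosure ((Spec (CommRingCat.of k)).residueField s)) (Red.geomFibre s U)) :
    ConnectedSpace U.left ∧ Red.HasNoSubtorus k U := by
  obtain ⟨s⟩ : Nonempty ↥(Spec (CommRingCat.of k)) := ⟨IsLocalRing.closedPoint k⟩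
  haveI := isIso_geomPt (k := k) s
  exact connected_noSubtorus_of_bc (Red.geomPt s) U (h s).1 (h s).2

theorem isTorus_P (r : ℕ) :
    Red.IsTorus (Bridge.P k (MonoidAlgebra k (Multiplicative (Fin r → ℤ)))) := by
  let S := Spec (CommRingCat.of k)
  have hDS : Red.IsTorus (Red.DS S (Fin r → ℤ)) :=
    ⟨S, 𝟙 S, inferInstance, inferInstance, fun V hV => ⟨V, hV.isCompact, by simp⟩,
      fun s => ⟨⊤, trivial, r, ⟨Grp.mkIso' (SplitSub.bcDS _)⟩⟩⟩
  obtain ⟨S', f, h1, h2, h3, h4⟩ := hDS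
  refine ⟨S', f, h1, h2, h3, fun s => ?_⟩
  obtain ⟨U, hU, n, ⟨d⟩⟩ := h4 s
  exact ⟨U, hU, n, ⟨((Over.pullback (U.ι ≫ f)).mapGrp.mapIso (Bridge.dsIso k (Fin r → ℤ))).symm ≪≫ d⟩⟩

/-- a connected solvable group without subtori is unipotent -/
theorem isUnipotent_of_solvable_noSubtorus {U : Over (Spec (CommRingCat.of k))} [GrpObj U] [Smooth U.hom]
    [ConnectedSpace U.left] {A : Type u} [CommRing A] [HopfAlgebra k A] [Algebra.FiniteType k A]
    [_root_.IsReduced A] (ψ : U ⟶ Sp k A) [IsMonHom ψ] [IsIso ψ] [Group.IsSolvable (VecGrp.pt k k ⟶ U)]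
    (hU : Red.HasNoSubtorus k U) : HopfRep.IsUnipotent k A := by
  classical
  haveI : IsDomain A := isDomain ψ
  let Φ : (VecGrp.pt k k ⟶ U) →* WithConv (A →ₐ[k] k) :=
    { toFun := ev ψ, map_one' := ev_one ψ, map_mul' := ev_mul ψ }
  haveI : Group.IsSolvable (WithConv (A →ₐ[k] k)) := Group.isSolvable_of_surjective (f := Φ) (ev_surjective ψ)
  obtain ⟨B, iB1, iB2, ψB, J, iJ, hψB, hdiag, hJ, hu⟩ :=
    (Groth.Agent.S7967.result k A).1 (Groth.Agent.S3266.result k A fun e he => IsIdempotentElem.iff_eq_zero_or_one.1 he)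
  have hd : SGA3b.IsDiag k B := Groth.L01.SepTrig.isDiag_of_isDiagonalizable hdiag
  obtain ⟨r, hr⟩ := Groth.Agent.S4128.result k A B hd ψB hψB J hJ hu
  haveI : Algebra.FiniteType k B := Groth.L01.SepTrig.finiteType_of_injective ψB hψB
  obtain ⟨M, _, ⟨e⟩⟩ := hd
  haveI : Group.FG M := MonoidAlgebra.finiteType_iff_group_fg.1
    (Algebra.FiniteType.equiv (inferInstance : Algebra.FiniteType k B) e.toAlgEquiv)
  haveI : IsDomain (MonoidAlgebra k M) :=
    Function.Injective.isDomain (((ψB : B →ₐ[k] A).comp (e.symm : MonoidAlgebra k M →ₐ[k] B)))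
      (hψB.comp e.symm.injective)
  have htf : ∀ x : M, IsOfFinOrder x → x = 1 := by
    intro x hx
    by_contra hne
    have hm := hx.orderOf_pos
    have h0 : (MonoidAlgebra.of k M x - 1) * (∑ l ∈ Finset.range (orderOf x), MonoidAlgebra.of k M x ^ l) = 0 := by
      rw [mul_geom_sum, ← map_pow, pow_orderOf_eq_one, map_one, sub_self]
    rcases mul_eq_zero.1 h0 with h | h
    · exact hne (MonoidAlgebra.of_injective ((sub_eq_zero.1 h).trans (map_one _).symm))
    · have h1 := congrArg (fun z : MonoidAlgebra k M => z.coeff 1) h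
      simp only [MonoidAlgebra.of_apply, MonoidAlgebra.single_pow, one_pow, MonoidAlgebra.coeff_sum, Finset.sum_apply', MonoidAlgebra.coeff_single,
        MonoidAlgebra.coeff_zero, Finsupp.coe_zero, Pi.zero_apply] at h1
      rw [Finset.sum_eq_single_of_mem 0 (Finset.mem_range.2 hm)] at h1
      · simp at h1
      · intro l hl hl0
        rw [Finsupp.single_apply, if_neg]
        intro h2
        exact Nat.not_dvd_of_pos_of_lt (Nat.pos_of_ne_zero hl0) (Finset.mem_range.1 hl) (orderOf_dvd_of_pow_eq_one h2)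
  haveI : AddGroup.FG (Additive M) := inferInstance
  haveI : Module.Finite ℤ (Additive M) := Module.Finite.iff_addGroup_fg.2 inferInstance
  haveI : Module.IsTorsionFree ℤ (Additive M) := by
    refine Module.IsTorsionFree.mk fun n hn a b hab => ?_
    have h1 : n • (a - b) = 0 := by rw [smul_sub]; exact sub_eq_zero.2 hab
    have h2 : IsOfFinAddOrder (a - b) := isOfFinAddOrder_iff_zsmul_eq_zero.2 ⟨n, hn.ne_zero, h1⟩
    have h3 := htf (a - b).toMul (isOfFinAddOrder_ofMul_iff.1 h2)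
    exact sub_eq_zero.1 (show a - b = Additive.ofMul 1 by rw [← h3]; rfl)
  let b := Module.Free.chooseBasis ℤ (Additive M)
  let n := Fintype.card (Module.Free.ChooseBasisIndex ℤ (Additive M))
  let b' : Module.Basis (Fin n) ℤ (Additive M) := b.reindex (Fintype.equivFin _)
  let eM : M ≃* Multiplicative (Fin n → ℤ) :=
    { toFun := fun x => Multiplicative.ofAdd (b'.equivFun (Additive.ofMul x))
      invFun := fun y => Additive.toMul (b'.equivFun.symm (Multiplicative.toAdd y))
      left_inv := fun x => congrArg Additive.toMul (b'.equivFun.symm_apply_apply (Additive.ofMul x))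
      right_inv := fun y => congrArg Multiplicative.ofAdd (b'.equivFun.apply_symm_apply (Multiplicative.toAdd y))
      map_mul' := fun x y => congrArg Multiplicative.ofAdd (map_add b'.equivFun (Additive.ofMul x) (Additive.ofMul y)) }
  let e' : B ≃ₐc[k] MonoidAlgebra k (Multiplicative (Fin n → ℤ)) := e.trans (MonoidAlgebra.domCongrBialgEquiv k k eM)
  let q : A →ₐc[k] MonoidAlgebra k (Multiplicative (Fin n → ℤ)) :=
    (e' : B →ₐc[k] MonoidAlgebra k (Multiplicative (Fin n → ℤ))).comp r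
  have hq : Function.Surjective q := fun z => ⟨ψB (e'.symm z), by
    show e' (r (ψB (e'.symm z))) = z
    rw [show r (ψB (e'.symm z)) = e'.symm z from congrArg (fun f : B →ₐc[k] B => f (e'.symm z)) hr, e'.apply_symm_apply]⟩
  let iP : Grp.mk (Bridge.P k (MonoidAlgebra k (Multiplicative (Fin n → ℤ)))) ⟶ Grp.mk (Bridge.P k A) :=
    (hopfSpec (CommRingCat.of k)).map (CommHopfAlgCat.ofHom q).op
  haveI : IsMonHom iP.hom.hom := iP.hom.isMonHom_hom
  haveI : IsClosedImmersion iP.hom.hom.left := IsClosedImmersion.spec_of_surjective _ hq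
  haveI : Mono iP.hom.hom := Over.mono_of_mono_left _
  haveI : IsMonHom (asIso ψ).hom := inferInstanceAs (IsMonHom ψ)
  haveI : IsMonHom (inv ψ) := inferInstanceAs (IsMonHom (asIso ψ).inv)
  have htriv : IsIso (Bridge.P k (MonoidAlgebra k (Multiplicative (Fin n → ℤ)))).hom :=
    hU _ (iP.hom.hom ≫ (inv ψ : Sp k A ⟶ U)) (isTorus_P _)
  change IsIso (Spec.map (CommRingCat.ofHom (algebraMap k (MonoidAlgebra k (Multiplicative (Fin n → ℤ)))))) at htriv
  let φ' := CommRingCat.ofHom (algebraMap k (MonoidAlgebra k (Multiplicative (Fin n → ℤ))))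
  haveI : IsIso (Scheme.Spec.map φ'.op) := htriv
  haveI : IsIso φ'.op := isIso_of_fully_faithful Scheme.Spec _
  haveI : IsIso φ' := isIso_of_op φ'
  have hb := ConcreteCategory.bijective_of_isIso φ'
  have hB : ∀ x : B, ∃ c : k, algebraMap k B c = x := fun x => by
    obtain ⟨c, hc⟩ := hb.2 (e' x)
    exact ⟨c, e'.injective ((AlgHomClass.commutes e' c).trans hc)⟩
  have hbot : J = ⊥ := by
    rw [hJ, eq_bot_iff, Ideal.map_le_iff_le_comap]
    intro x hx
    obtain ⟨c, rfl⟩ := hB x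
    have hc : c = 0 := (Bialgebra.counit_algebraMap c).symm.trans hx
    simp [hc]
  let q₀ : A →ₐc[k] A ⧸ J := Bialgebra.Quotient.mkBialgHom (R := k) J
  have hq₀ : Function.Injective q₀ := fun a c hac => by
    have := Ideal.Quotient.eq.1 (show Ideal.Quotient.mk J a = Ideal.Quotient.mk J c from hac)
    rw [hbot, Ideal.mem_bot] at this
    exact sub_eq_zero.1 this
  haveI : Algebra.FiniteType k (A ⧸ J) :=
    Algebra.FiniteType.of_surjective (Ideal.Quotient.mkₐ k J) Ideal.Quotient.mk_surjective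
  exact (Groth.Agent.S5422.result k (A ⧸ J)).2.1 A q₀ hq₀ hu

/-- a unipotent group fixes a vector modulo a smaller invariant subspace -/
theorem exists_fixed_mod {A : Type u} [CommRing A] [HopfAlgebra k A] (hU : HopfRep.IsUnipotent k A) {V : Type u}
    [AddCommGroup V] [Module k V] [HopfRep.Comod k A V] (M W : Submodule k V)
    (hM : HopfRep.IsSubcomod (k := k) (A := A) M) (hW : HopfRep.IsSubcomod (k := k) (A := A) W) (hne : ¬ W ≤ M) :
    ∃ v ∈ W, v ∉ M ∧ ∀ φ : A →ₗ[k] k, Groth.L08.fAct V φ v - φ 1 • v ∈ M := by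
  classical
  obtain ⟨w, hw, hwM⟩ := SetLike.not_le_iff_exists.1 hne
  obtain ⟨C, hC, hwC, hCs⟩ := Groth.L08.exists_finite_subcomod (k := k) (A := A) w
  let cQ := ComodSub.Comod.quot ‹HopfRep.Comod k A V› M hM
  letI := cQ
  let W' : Submodule k (V ⧸ M) := (W ⊓ C).map M.mkQ
  have hW' : HopfRep.IsSubcomod (k := k) (A := A) W' := by
    refine Groth.L08.isSubcomod_iff.2 fun φ x hx => ?_
    obtain ⟨y, hy, rfl⟩ := hx
    rw [← Groth.L08.fAct_comm_of_isComodHom (ComodSub.isComodHom_mkQ _ M hM)]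
    exact ⟨_, Groth.L08.isSubcomod_iff.1 (Groth.L08.isSubcomod_inf hW hCs) φ y hy, rfl⟩
  haveI : FiniteDimensional k C := hC
  haveI : Module.Finite k ↥(W ⊓ C : Submodule k V) := Submodule.finiteDimensional_of_le inf_le_right
  letI cW := ComodSub.Comod.restr cQ W' hW'
  haveI : Module.Finite k W' := Module.Finite.map _ _
  haveI : Nontrivial W' := ⟨⟨⟨M.mkQ w, w, ⟨hw, hwC⟩, rfl⟩, 0, fun h => hwM
    ((Submodule.Quotient.mk_eq_zero M).1 (congrArg Subtype.val h))⟩⟩
  obtain ⟨q, hq, hq0⟩ := Submodule.exists_mem_ne_zero_of_ne_bot (hU W' inferInstance inferInstance)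
  obtain ⟨v, hv, hvq⟩ := q.2
  refine ⟨v, hv.1, fun h => hq0 (Subtype.ext ?_), fun φ => ?_⟩
  · rw [← hvq]; exact (Submodule.Quotient.mk_eq_zero M).2 h
  · rw [← Submodule.Quotient.mk_eq_zero, ← Submodule.mkQ_apply, map_sub, map_smul,
      Groth.L08.fAct_comm_of_isComodHom (ComodSub.isComodHom_mkQ _ M hM), hvq]
    have h1 := congrArg W'.subtype (Groth.L08.mem_fixedPts_iff_fAct.1 hq φ)
    rw [Groth.L08.fAct_comm_of_isComodHom (ComodSub.isComodHom_subtype _ W' hW'), map_smul] at h1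
    rw [sub_eq_zero]
    exact h1

variable {G U : Over (Spec (CommRingCat.of k))} [GrpObj G] [GrpObj U]

/-- the action of a rational point -/
def ptAct {V : Type u} [AddCommGroup V] [Module k V] (ρ : VecGrp.GMod G V) (g : VecGrp.pt k k ⟶ G) : V →ₗ[k] V :=
  (TensorProduct.lid k V).toLinearMap ∘ₗ (ρ.ρ k g).toLinearMap ∘ₗ TensorProduct.mk k k V 1

theorem ptAct_spec {V : Type u} [AddCommGroup V] [Module k V] (ρ : VecGrp.GMod G V) (g : VecGrp.pt k k ⟶ G) (v : V) :
    ρ.ρ k g ((1 : k) ⊗ₜ[k] v) = (1 : k) ⊗ₜ[k] ptAct ρ g v :=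
  ((TensorProduct.lid k V).symm_apply_apply _).symm

theorem ptAct_mul {V : Type u} [AddCommGroup V] [Module k V] (ρ : VecGrp.GMod G V) (g h : VecGrp.pt k k ⟶ G) (v : V) :
    ptAct ρ (g * h) v = ptAct ρ g (ptAct ρ h v) := by
  show TensorProduct.lid k V (ρ.ρ k (g * h) _) = TensorProduct.lid k V (ρ.ρ k g _)
  rw [map_mul, LinearEquiv.mul_apply]
  exact congrArg _ (congrArg _ (ptAct_spec ρ h v))

theorem ptAct_one {V : Type u} [AddCommGroup V] [Module k V] (ρ : VecGrp.GMod G V) (v : V) :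
    ptAct ρ 1 v = v := by
  show TensorProduct.lid k V (ρ.ρ k 1 _) = v
  rw [map_one]; simp

theorem ptAct_map_mul {R : Type u} [CommRing R] [Algebra k R] (ρ : VecGrp.GMod G R) (hρ : ρ.IsMult)
    (g : VecGrp.pt k k ⟶ G) (x y : R) : ptAct ρ g (x * y) = ptAct ρ g x * ptAct ρ g y := by
  have e : (1 : k) ⊗ₜ[k] ptAct ρ g (x * y) = (1 : k) ⊗ₜ[k] (ptAct ρ g x * ptAct ρ g y) := by
    rw [← ptAct_spec, ← _root_.one_mul (1 : k), ← Algebra.TensorProduct.tmul_mul_tmul, (hρ k g).1, ptAct_spec,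
      ptAct_spec, Algebra.TensorProduct.tmul_mul_tmul]
  simpa using congrArg (TensorProduct.lid k R) e

/-- an invariant subspace not inside a smaller one has a vector fixed modulo it -/
theorem exists_fixed_mod_pts [IsAffine U.left] [Smooth U.hom] [ConnectedSpace U.left]
    [Group.IsSolvable (VecGrp.pt k k ⟶ U)] (hU : Red.HasNoSubtorus k U) (i : U ⟶ G) [IsMonHom i]
    {V : Type u} [AddCommGroup V] [Module k V] (ρ : VecGrp.GMod G V) (M W : Submodule k V)
    (hM : ∀ g : VecGrp.pt k k ⟶ U, ∀ v ∈ M, ptAct ρ (g ≫ i) v ∈ M)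
    (hW : ∀ g : VecGrp.pt k k ⟶ U, ∀ v ∈ W, ptAct ρ (g ≫ i) v ∈ W) (hne : ¬ W ≤ M) :
    (∃ v ∈ W, v ∉ M ∧ ∀ g : VecGrp.pt k k ⟶ U, ptAct ρ (g ≫ i) v - v ∈ M) ∧
      ∀ v ∈ W, ∃ C : Submodule k V, Module.Finite k C ∧ v ∈ C ∧ C ≤ W ∧
        ∀ g : VecGrp.pt k k ⟶ U, ∀ x ∈ C, ptAct ρ (g ≫ i) x ∈ C := by
  classical
  obtain ⟨A, _, _, ψ, _, _, _, _⟩ := exists_chart U
  have hu := isUnipotent_of_solvable_noSubtorus ψ hU
  haveI : IsMonHom (asIso ψ).hom := inferInstanceAs (IsMonHom ψ)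
  haveI : IsMonHom (inv ψ) := inferInstanceAs (IsMonHom (asIso ψ).inv)
  let m : VecGrp.GMod ((Spec (CommRingCat.of A)).asOver (Spec (CommRingCat.of k))) V :=
    { ρ := fun B _ _ => MonoidHom.mk' (fun g => ρ.ρ B ((g ≫ inv ψ) ≫ i)) fun g g' => by
        rw [MonObj.mul_comp, MonObj.mul_comp, map_mul]
      naturality := fun φ g x => by
        show VecGrp.Wmap φ (ρ.ρ _ ((g ≫ inv ψ) ≫ i) x) = ρ.ρ _ (((VecGrp.ptMap φ ≫ g) ≫ inv ψ) ≫ i) _
        rw [Category.assoc, Category.assoc, Category.assoc]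
        exact ρ.naturality φ _ x }
  obtain ⟨δ, ⟨⟨h₁, h₂⟩, hδ⟩, -⟩ := Groth.L25.ComodGMod.exists_coact m
  letI cV : HopfRep.Comod k A V := ⟨δ, h₁, h₂⟩
  have hpt : ∀ (g : VecGrp.pt k k ⟶ U) (v : V),
      ptAct ρ (g ≫ i) v = Groth.L08.fAct V (ev ψ g).ofConv.toLinearMap v := by
    intro g v
    have h := hδ k (g ≫ ψ) v
    rw [Groth.L25.ComodGMod.T_apply] at h
    have h' : m.ρ k (g ≫ ψ) ((1 : k) ⊗ₜ[k] v) = ρ.ρ k (((g ≫ ψ) ≫ inv ψ) ≫ i) ((1 : k) ⊗ₜ[k] v) := rfl
    rw [h', Category.assoc g ψ, IsIso.hom_inv_id, Category.comp_id, ptAct_spec] at h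
    have h2 := congrArg (TensorProduct.lid k V) h
    rw [TensorProduct.lid_tmul, one_smul] at h2
    rw [h2, Groth.L08.fAct_apply]
    show _ = (TensorProduct.rid k V) ((ev ψ g).ofConv.toLinearMap.lTensor V (δ v))
    have e : Groth.L25.ComodGMod.hom (g ≫ ψ) = ev ψ g := rfl
    rw [e]
    generalize δ v = z
    induction z using TensorProduct.induction_on with
    | zero => simp
    | add p q hp hq => simp only [map_add, hp, hq]
    | tmul p q => simp
  have hsub : ∀ S : Submodule k V, (∀ g : VecGrp.pt k k ⟶ U, ∀ v ∈ S, ptAct ρ (g ≫ i) v ∈ S) →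
      HopfRep.IsSubcomod (k := k) (A := A) S := by
    intro S hS
    refine Groth.L08.isSubcomod_iff.2 fun φ v hv => ?_
    by_contra hn
    obtain ⟨θ, hθ1, hθ2⟩ := Submodule.exists_dual_map_eq_bot_of_notMem (p := S) hn inferInstance
    refine hθ1 ?_
    rw [← Groth.L08.apply_cf (A := A), show Groth.L08.cf (A := A) θ v = 0 from eq_of_forall_ev ψ fun g => ?_, map_zero]
    rw [map_zero]
    show (ev ψ g).ofConv.toLinearMap (Groth.L08.cf (A := A) θ v) = 0
    rw [Groth.L08.apply_cf, ← hpt]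
    exact (Submodule.eq_bot_iff _).1 hθ2 _ ⟨_, hS g v hv, rfl⟩
  refine ⟨?_, fun v hv => ?_⟩
  · obtain ⟨v, hv, hvM, hv'⟩ := exists_fixed_mod hu M W (hsub M hM) (hsub W hW) hne
    refine ⟨v, hv, hvM, fun g => ?_⟩
    have h := hv' (ev ψ g).ofConv.toLinearMap
    rw [← hpt, show (ev ψ g).ofConv.toLinearMap 1 = 1 from map_one (ev ψ g).ofConv, one_smul] at h
    exact h
  · obtain ⟨C, hC, hvC, hCs⟩ := Groth.L08.exists_finite_subcomod (k := k) (A := A) v
    haveI : FiniteDimensional k C := hC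
    refine ⟨W ⊓ C, Submodule.finiteDimensional_of_le inf_le_right, ⟨hv, hvC⟩, inf_le_left, fun g x hx => ?_⟩
    rw [hpt]
    exact ⟨Groth.L08.isSubcomod_iff.1 (hsub W hW) _ x hx.1, Groth.L08.isSubcomod_iff.1 hCs _ x hx.2⟩

/-- every nonzero invariant subspace contains a nonzero fixed vector -/
theorem exists_fixed_ne_zero [IsAffine U.left] [Smooth U.hom] [ConnectedSpace U.left]
    [Group.IsSolvable (VecGrp.pt k k ⟶ U)] (hU : Red.HasNoSubtorus k U) (i : U ⟶ G) [IsMonHom i]
    {V : Type u} [AddCommGroup V] [Module k V] (ρ : VecGrp.GMod G V) (W : Submodule k V)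
    (hW : ∀ g : VecGrp.pt k k ⟶ U, ∀ v ∈ W, ptAct ρ (g ≫ i) v ∈ W) (hne : W ≠ ⊥) :
    ∃ v ∈ W, v ≠ 0 ∧ v ∈ ρ.fixedUnder i := by
  obtain ⟨⟨v, hv, hv0, hfix⟩, -⟩ := exists_fixed_mod_pts hU i ρ ⊥ W
    (fun g v hv => by rw [(Submodule.mem_bot k).1 hv, map_zero]; exact zero_mem _) hW
    fun h => hne (le_bot_iff.1 h)
  refine ⟨v, hv, fun h => hv0 ((Submodule.mem_bot k).2 h), mem_fixedUnder_of_pts' i ρ v fun g => ?_⟩
  rw [ptAct_spec, sub_eq_zero.1 ((Submodule.mem_bot k).1 (hfix g))]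

/-- the unipotent radical of a solvable group is connected, solvable and has no subtori -/
theorem props_of_unipotentRadical {P : Over (Spec (CommRingCat.of k))} [GrpObj P] (hP : Red.IsSolvableGrp P)
    (v : U ⟶ P) (h : Par.IsUnipotentRadical v) :
    ConnectedSpace U.left ∧ Red.HasNoSubtorus k U ∧ Group.IsSolvable (VecGrp.pt k k ⟶ U) := by
  haveI := h.1
  haveI := h.2.1
  obtain ⟨h1, h2⟩ := connected_noSubtorus_of_geomFibre U h.2.2.2.2.2.1
  refine ⟨h1, h2, ?_⟩
  obtain ⟨n, hn⟩ := hP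
  haveI : Group.IsSolvable (VecGrp.pt k k ⟶ P) := ⟨⟨n, hn _⟩⟩
  haveI : Mono v := Over.mono_of_mono_left v
  exact Group.isSolvable_of_isSolvable_injective (f := MonoidHom.mk' (fun g : VecGrp.pt k k ⟶ U => g ≫ v)
    fun g g' => MonObj.mul_comp g g' v) fun g g' e => (cancel_mono v).1 e

end Groth.L25.Observable
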