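import Groth.Agent.L25.ComodGMod
import Groth.Agent.L25.Bridge.Lift
import Groth.Agent.L25.GeomIrred
import Groth.Agent.L26.AV.SmoothField
import Groth.Prelude.Def_W4bk4grossh111Obs

/-!
# Affine groups over an algebraically closed field: functions, rational points, translations
-/

set_option autoImplicit false
set_option backward.isDefEq.respectTransparency.types false

universe u

open CategoryTheory CategoryTheory.Limits MonoidalCategory CartesianMonoidalCategory MonObj AlgebraicGeometry
open scoped TensorProduct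
open WithConv

noncomputable section

namespace Groth.L25.Observable

variable {k : Type u} [Field k]

/-- `Spec A` over `k` -/
abbrev Sp (k A : Type u) [Field k] [CommRing A] [Algebra k A] : Over (Spec (CommRingCat.of k)) :=
  (Spec (CommRingCat.of A)).asOver (Spec (CommRingCat.of k))

/-- the value of a global function at an affine point -/
def val {X : Over (Spec (CommRingCat.of k))} {B : Type u} [CommRing B] [Algebra k B]
    (γ : VecGrp.pt k B ⟶ X) (f : Γ(X.left, ⊤)) : B :=
  (Scheme.ΓSpecIso (CommRingCat.of B)).hom (γ.left.appTop f)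

variable {X Y : Over (Spec (CommRingCat.of k))}

theorem val_comp {B : Type u} [CommRing B] [Algebra k B] (γ : VecGrp.pt k B ⟶ X) (q : X ⟶ Y)
    (f : Γ(Y.left, ⊤)) : val (γ ≫ q) f = val γ (q.left.appTop f) :=
  rfl

theorem val_add {B : Type u} [CommRing B] [Algebra k B] (γ : VecGrp.pt k B ⟶ X) (f f' : Γ(X.left, ⊤)) :
    val γ (f + f') = val γ f + val γ f' :=
  (congrArg _ (map_add γ.left.appTop.hom f f')).trans (map_add _ _ _)

theorem val_mul {B : Type u} [CommRing B] [Algebra k B] (γ : VecGrp.pt k B ⟶ X) (f f' : Γ(X.left, ⊤)) :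
    val γ (f * f') = val γ f * val γ f' :=
  (congrArg _ (map_mul γ.left.appTop.hom f f')).trans (map_mul _ _ _)

theorem val_one {B : Type u} [CommRing B] [Algebra k B] (γ : VecGrp.pt k B ⟶ X) :
    val γ (1 : Γ(X.left, ⊤)) = 1 :=
  (congrArg _ (map_one γ.left.appTop.hom)).trans (map_one _)

theorem val_ptMap {B B' : Type u} [CommRing B] [Algebra k B] [CommRing B'] [Algebra k B'] (φ : B →ₐ[k] B')
    (γ : VecGrp.pt k B ⟶ X) (f : Γ(X.left, ⊤)) : val (VecGrp.ptMap φ ≫ γ) f = φ (val γ f) := by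
  have h := congr($(Scheme.ΓSpecIso_naturality (CommRingCat.ofHom φ.toRingHom)) (γ.left.appTop f))
  exact h

/-- the universal point of an affine scheme -/
theorem exists_gen (X : Over (Spec (CommRingCat.of k))) [IsAffine X.left] :
    ∃ (_ : Algebra k Γ(X.left, ⊤)) (gen : VecGrp.pt k Γ(X.left, ⊤) ⟶ X), IsIso gen.left ∧
      (∀ f f' : Γ(X.left, ⊤), val gen f = val gen f' → f = f') ∧
      ∀ (B : Type u) [CommRing B] [Algebra k B] (γ : VecGrp.pt k B ⟶ X),
        ∃ φ : Γ(X.left, ⊤) →ₐ[k] B, VecGrp.ptMap φ ≫ gen = γ ∧ ∀ f, φ f = val γ f := by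
  let a : CommRingCat.of k ⟶ Γ(X.left, ⊤) := (Scheme.ΓSpecIso (CommRingCat.of k)).inv ≫ X.hom.appTop
  letI : Algebra k Γ(X.left, ⊤) := a.hom.toAlgebra
  have ha : Spec.map a = X.left.isoSpec.inv ≫ X.hom := by
    rw [Iso.eq_inv_comp, Spec.map_comp, Scheme.isoSpec_hom_naturality_assoc, Scheme.isoSpec_Spec_hom]
    simp [← Spec.map_comp]
  have hw : X.left.isoSpec.inv ≫ X.hom = (VecGrp.pt k Γ(X.left, ⊤)).hom := ha.symm
  refine ⟨this, Over.homMk X.left.isoSpec.inv hw, inferInstanceAs (IsIso X.left.isoSpec.inv), fun f f' e => ?_,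
    fun B _ _ γ => ?_⟩
  · have e1 := (ConcreteCategory.bijective_of_isIso (Scheme.ΓSpecIso (CommRingCat.of Γ(X.left, ⊤))).hom).1 e
    exact (ConcreteCategory.bijective_of_isIso ((Scheme.Γ).map X.left.isoSpec.inv.op)).1 e1
  let t : Γ(X.left, ⊤) ⟶ CommRingCat.of B := γ.left.appTop ≫ (Scheme.ΓSpecIso (CommRingCat.of B)).hom
  have hγ : Spec.map t ≫ X.left.isoSpec.inv = γ.left := by
    rw [Iso.comp_inv_eq, Spec.map_comp, ← Scheme.isoSpec_hom_naturality, Scheme.isoSpec_Spec_hom]
  have ht : a ≫ t = CommRingCat.ofHom (algebraMap k B) := Spec.map_injective (by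
    rw [Spec.map_comp, ha, ← Category.assoc, hγ]
    exact Over.w γ)
  exact ⟨AlgHom.mk t.hom fun r => congr($(ht).hom r), Over.OverMorphism.ext hγ, fun f => rfl⟩

/-- functions on a smooth affine scheme are determined by their values at rational points -/
theorem eq_of_forall_val [IsAlgClosed k] [IsAffine X.left] [Smooth X.hom] {f f' : Γ(X.left, ⊤)}
    (h : ∀ γ : VecGrp.pt k k ⟶ X, val γ f = val γ f') : f = f' := by
  obtain ⟨_, gen, _, hgen, -⟩ := exists_gen X
  haveI : AlgebraicGeometry.IsReduced X.left := Groth.Agent.AV.isReduced_of_smooth_field X.hom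
  haveI : _root_.IsReduced Γ(X.left, ⊤) := IsReduced.component_reduced ⊤
  haveI : Algebra.FiniteType k Γ(X.left, ⊤) := by
    have hft : LocallyOfFiniteType (VecGrp.pt k Γ(X.left, ⊤)).hom := by rw [← Over.w gen]; infer_instance
    change LocallyOfFiniteType (Spec.map (CommRingCat.ofHom (algebraMap k Γ(X.left, ⊤)))) at hft
    rwa [HasRingHomProperty.Spec_iff (P := @LocallyOfFiniteType), CommRingCat.hom_ofHom,
      RingHom.finiteType_algebraMap] at hft
  refine hgen _ _ (eq_of_sub_eq_zero (GeomIrred.eq_zero_of_forall_algHom (k := k) _ fun φ => ?_))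
  rw [map_sub, sub_eq_zero, ← val_ptMap, ← val_ptMap]
  exact h _

/-- the only rational point of the base -/
theorem pt_endo (t : VecGrp.pt k k ⟶ VecGrp.pt k k) : t = 𝟙 _ := by
  refine Over.OverMorphism.ext ?_
  have e : (VecGrp.pt k k).hom = 𝟙 (Spec (CommRingCat.of k)) := Spec.map_id (CommRingCat.of k)
  have w := Over.w t
  rw [e] at w
  exact (Category.comp_id _).symm.trans w

variable {G : Over (Spec (CommRingCat.of k))}
variable {A : Type u} [CommRing A] [HopfAlgebra k A] (ψ : G ⟶ Sp k A)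

/-- the global function of an element of the coordinate ring -/
def fn (a : A) : Γ(G.left, ⊤) := ψ.left.appTop ((Scheme.ΓSpecIso (CommRingCat.of A)).inv a)

theorem fn_surjective [IsIso ψ] : Function.Surjective (fn ψ) := fun f => by
  haveI : IsIso ψ.left := inferInstanceAs (IsIso ((Over.forget _).map ψ))
  obtain ⟨b, hb⟩ := (ConcreteCategory.bijective_of_isIso ((Scheme.Γ).map ψ.left.op)).2 f
  obtain ⟨a, ha⟩ := (ConcreteCategory.bijective_of_isIso (Scheme.ΓSpecIso (CommRingCat.of A)).inv).2 b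
  refine ⟨a, ?_⟩
  show ψ.left.appTop _ = f
  rw [← hb, ← ha]
  rfl

/-- the algebra homomorphism of a point -/
def ev {B : Type u} [CommRing B] [Algebra k B] (γ : VecGrp.pt k B ⟶ G) : WithConv (A →ₐ[k] B) :=
  ComodGMod.hom (γ ≫ ψ)

theorem val_fn {B : Type u} [CommRing B] [Algebra k B] (γ : VecGrp.pt k B ⟶ G) (a : A) :
    val γ (fn ψ a) = (ev ψ γ).ofConv a := by
  obtain ⟨g, hg⟩ := (Spec.mapMulEquiv (R := k) (S := A) (T := B)).surjective (γ ≫ ψ)
  have e : ev ψ γ = g := by
    show Spec.mapMulEquiv.symm (γ ≫ ψ) = g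
    rw [MulEquiv.symm_apply_eq]; exact hg.symm
  rw [e]
  refine (val_comp γ ψ _).symm.trans ((congrArg (fun c => val c _) hg.symm).trans ?_)
  have h := congr($(Scheme.ΓSpecIso_naturality (CommRingCat.ofHom g.ofConv.toRingHom))
    ((Scheme.ΓSpecIso (CommRingCat.of A)).inv a))
  exact h.trans (congrArg _ congr($((Scheme.ΓSpecIso (CommRingCat.of A)).inv_hom_id) a))

theorem ev_injective [Mono ψ] {B : Type u} [CommRing B] [Algebra k B] :
    Function.Injective (ev ψ : (VecGrp.pt k B ⟶ G) → WithConv (A →ₐ[k] B)) := fun γ γ' e =>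
  (cancel_mono ψ).1 (Spec.mapMulEquiv.symm.injective e)

theorem ev_surjective [IsIso ψ] {B : Type u} [CommRing B] [Algebra k B] :
    Function.Surjective (ev ψ : (VecGrp.pt k B ⟶ G) → WithConv (A →ₐ[k] B)) := fun g =>
  ⟨Spec.mapMulEquiv g ≫ inv ψ, by
    show Spec.mapMulEquiv.symm ((_ ≫ inv ψ) ≫ ψ) = g
    rw [MulEquiv.symm_apply_eq, Category.assoc, IsIso.inv_hom_id]
    exact Category.comp_id _⟩

section Grp

variable [GrpObj G] [IsMonHom ψ]

theorem ev_mul {B : Type u} [CommRing B] [Algebra k B] (γ γ' : VecGrp.pt k B ⟶ G) :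
    ev ψ (γ * γ') = ev ψ γ * ev ψ γ' := by
  rw [ev, MonObj.mul_comp]; exact map_mul _ _ _

theorem ev_one {B : Type u} [CommRing B] [Algebra k B] : ev ψ (1 : VecGrp.pt k B ⟶ G) = 1 := by
  rw [ev, MonObj.one_comp]; exact map_one _

/-- invariance of a function under right translation by a subgroup, on rational points -/
theorem isRTransInv_iff [IsAlgClosed k] [IsAffine G.left] [Smooth G.hom] {H : Over (Spec (CommRingCat.of k))}
    [IsAffine H.left] [Smooth H.hom] (i : H ⟶ G) (a : A) :
    AGF.IsRTransInv i (fn ψ a) ↔ ∀ (x : VecGrp.pt k k ⟶ G) (h : VecGrp.pt k k ⟶ H),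
      (ev ψ (x * (h ≫ i))).ofConv a = (ev ψ x).ofConv a := by
  haveI : IsAffine (G ⊗ H).left := inferInstanceAs (IsAffine (pullback G.hom H.hom))
  haveI : Smooth (G ⊗ H).hom := inferInstanceAs (Smooth (pullback.fst G.hom H.hom ≫ G.hom))
  have e : ∀ (q : VecGrp.pt k k ⟶ G ⊗ H),
      val q (((G ◁ i) ≫ μ[G]).left.appTop (fn ψ a)) =
        (ev ψ ((q ≫ fst G H) * ((q ≫ snd G H) ≫ i))).ofConv a ∧
      val q ((fst G H).left.appTop (fn ψ a)) = (ev ψ (q ≫ fst G H)).ofConv a := fun q => by
    refine ⟨?_, by rw [← val_fn]; rfl⟩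
    rw [← val_fn, ← val_comp]
    congr 1
    rw [Hom.mul_def, ← Category.assoc]; congr 1; ext <;> simp
  constructor
  · intro hf x h
    have h1 := congrArg (val (lift x h)) hf
    rw [(e _).1, (e _).2, lift_fst, lift_snd] at h1
    exact h1
  · intro hall
    refine eq_of_forall_val fun q => ?_
    rw [(e q).1, (e q).2]
    exact hall _ _

/-- invariance of a function under right translation by a rational point, on rational points -/
theorem isRTransInv_pt_iff [IsAlgClosed k] [IsAffine G.left] [Smooth G.hom] (g : VecGrp.pt k k ⟶ G) (a : A) :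
    AGF.IsRTransInv g (fn ψ a) ↔ ∀ x : VecGrp.pt k k ⟶ G, (ev ψ (x * g)).ofConv a = (ev ψ x).ofConv a := by
  haveI : IsAffine (VecGrp.pt k k).left := inferInstanceAs (IsAffine (Spec (CommRingCat.of k)))
  haveI : Smooth (VecGrp.pt k k).hom := by
    rw [show (VecGrp.pt k k).hom = 𝟙 (Spec (CommRingCat.of k)) from Spec.map_id (CommRingCat.of k)]
    exact inferInstanceAs (Smooth (𝟙 (Spec (CommRingCat.of k))))
  rw [isRTransInv_iff ψ g a]
  refine forall_congr' fun x => ⟨fun h => ?_, fun h t => ?_⟩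
  · simpa [Category.id_comp] using h (𝟙 _)
  · rw [pt_endo t, Category.id_comp]; exact h

end Grp

/-- the coordinate ring of a smooth affine group -/
theorem exists_chart (G : Over (Spec (CommRingCat.of k))) [GrpObj G] [IsAffine G.left] [Smooth G.hom] :
    ∃ (A : Type u) (_ : CommRing A) (_ : HopfAlgebra k A) (ψ : G ⟶ Sp k A),
      Algebra.FiniteType k A ∧ _root_.IsReduced A ∧ IsMonHom ψ ∧ IsIso ψ := by
  obtain ⟨A, _, _, ⟨eG⟩⟩ := Groth.L25.Bridge.exists_hopf G
  let φ : Sp k A ⟶ G := eG.inv.hom.hom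
  let ψ : G ⟶ Sp k A := eG.hom.hom.hom
  have h1 : φ ≫ ψ = 𝟙 _ := congrArg (fun f => f.hom.hom) eG.inv_hom_id
  have h2 : ψ ≫ φ = 𝟙 G := congrArg (fun f => f.hom.hom) eG.hom_inv_id
  haveI : IsIso φ := ⟨ψ, h1, h2⟩
  haveI : IsIso ψ := ⟨φ, h2, h1⟩
  haveI : IsIso φ.left := inferInstanceAs (IsIso ((Over.forget _).map φ))
  haveI hft : LocallyOfFiniteType (Sp k A).hom := by rw [← Over.w φ]; infer_instance
  haveI hs : Smooth (Sp k A).hom := by rw [← Over.w φ]; infer_instance
  refine ⟨A, inferInstance, inferInstance, ψ, ?_, ?_, eG.hom.hom.isMonHom_hom, inferInstance⟩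
  · change LocallyOfFiniteType (Spec.map (CommRingCat.ofHom (algebraMap k A))) at hft
    rwa [HasRingHomProperty.Spec_iff (P := @LocallyOfFiniteType), CommRingCat.hom_ofHom,
      RingHom.finiteType_algebraMap] at hft
  · haveI : AlgebraicGeometry.IsReduced (Spec (CommRingCat.of A)) :=
      @Groth.Agent.AV.isReduced_of_smooth_field k _ _ (Sp k A).hom hs
    exact (affine_isReduced_iff (CommRingCat.of A)).1 inferInstance

section Translate

/-- left translation of a function by a rational point -/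
def L (x : A →ₐ[k] k) : A →ₗ[k] A :=
  (TensorProduct.lid k A).toLinearMap ∘ₗ x.toLinearMap.rTensor A ∘ₗ Coalgebra.comul

theorem apply_L (x : A →ₐ[k] k) {B : Type u} [CommRing B] [Algebra k B] (g : A →ₐ[k] B) (a : A) :
    g (L x a) = (toConv ((Algebra.ofId k B).comp x) * toConv g).ofConv a := by
  rw [AlgHom.convMul_apply, L, LinearMap.comp_apply, LinearMap.comp_apply]
  show g ((TensorProduct.lid k A) (x.toLinearMap.rTensor A _)) = _
  generalize Coalgebra.comul (R := k) a = z
  induction z using TensorProduct.induction_on with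
  | zero => simp
  | add p q hp hq => simp only [map_add, hp, hq]
  | tmul p q => simp [Algebra.smul_def]

theorem apply_L_pt (x g : WithConv (A →ₐ[k] k)) (a : A) :
    g.ofConv (L x.ofConv a) = (x * g).ofConv a := by
  rw [apply_L]
  congr 3

/-- the left translates of an element span a finite-dimensional space -/
theorem exists_finite_translates (a : A) :
    ∃ U : Submodule k A, Module.Finite k U ∧ ∀ x : A →ₐ[k] k, L x a ∈ U := by
  classical
  obtain ⟨S, hS⟩ := TensorProduct.exists_finset (Coalgebra.comul (R := k) a)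
  refine ⟨Submodule.span k ↑(S.image Prod.snd), FiniteDimensional.span_finset k _, fun x => ?_⟩
  rw [L, LinearMap.comp_apply, LinearMap.comp_apply, hS, map_sum, map_sum]
  refine sum_mem fun p hp => ?_
  rw [LinearMap.rTensor_tmul]
  exact Submodule.smul_mem _ _ (Submodule.subset_span (Finset.mem_image_of_mem _ hp))

end Translate

end Groth.L25.Observable
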