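import Groth.Agent.L25.Observable.Translate
import Groth.Prelude.Def_W4bk4grossh1223Act
import Mathlib.RingTheory.Flat.Basic

/-!
# The regular module of a group, restricted to a subgroup
-/

set_option autoImplicit false
set_option backward.isDefEq.respectTransparency.types false
set_option maxHeartbeats 800000

universe u

open CategoryTheory CategoryTheory.Limits MonoidalCategory CartesianMonoidalCategory MonObj AlgebraicGeometry
open scoped TensorProduct
open WithConv

noncomputable section

namespace Groth.L25.Observable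

variable {k : Type u} [Field k] {A : Type u} [CommRing A] [HopfAlgebra k A]

/-- left translation as an algebra map -/
def Lt (g : A →ₐ[k] k) : A →ₐ[k] A :=
  ((Algebra.TensorProduct.lid k A).toAlgHom.comp (Algebra.TensorProduct.map g (AlgHom.id k A))).comp
    (Bialgebra.comulAlgHom k A)

theorem apply_Lt (g x : WithConv (A →ₐ[k] k)) (a : A) : x.ofConv (Lt g.ofConv a) = (g * x).ofConv a := by
  rw [AlgHom.convMul_apply, Lt, AlgHom.comp_apply, AlgHom.comp_apply, Bialgebra.comulAlgHom_apply]
  generalize Coalgebra.comul (R := k) a = z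
  induction z using TensorProduct.induction_on with
  | zero => simp
  | add p q hp hq => simp only [map_add, hp, hq]
  | tmul p q => simp

variable {G H : Over (Spec (CommRingCat.of k))} [GrpObj G] [GrpObj H] (ψ : G ⟶ Sp k A) [IsMonHom ψ]
  (i : H ⟶ G) [IsMonHom i]

/-- right translation on functions, as a module over a subgroup, acts by algebra automorphisms -/
theorem exists_regular :
    ∃ m : VecGrp.GMod H A, m.IsMult ∧ (∀ (h : VecGrp.pt k k ⟶ H) (a : A),
      m.ρ k h ((1 : k) ⊗ₜ[k] a) = (1 : k) ⊗ₜ[k] Rt (ev ψ (h ≫ i)).ofConv a) := by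
  obtain ⟨m₀, hm₀, -⟩ := ComodGMod.exists_gmod (R := k) (A := A) (E := A) Coalgebra.comul
    Coalgebra.coassoc Coalgebra.lTensor_counit_comp_comul
  let m : VecGrp.GMod H A := ⟨fun B _ _ => (m₀.ρ B).comp
    { toFun := fun h => (h ≫ i) ≫ ψ
      map_one' := by rw [MonObj.one_comp, MonObj.one_comp]
      map_mul' := fun g g' => by rw [MonObj.mul_comp, MonObj.mul_comp] }, fun φ g x => by
      show VecGrp.Wmap φ (m₀.ρ _ ((g ≫ i) ≫ ψ) x) = m₀.ρ _ (((VecGrp.ptMap φ ≫ g) ≫ i) ≫ ψ) _
      rw [m₀.naturality, Category.assoc, Category.assoc, Category.assoc]⟩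
  have hT : ∀ (B : Type u) [CommRing B] [Algebra k B] (f : A →ₐ[k] B) (x y : A),
      ComodGMod.T (Coalgebra.comul (R := k)) f (x * y) =
        ComodGMod.T (Coalgebra.comul (R := k)) f x * ComodGMod.T (Coalgebra.comul (R := k)) f y := by
    intro B _ _ f x y
    let Ψ : A →ₐ[k] B ⊗[k] A := ((Algebra.TensorProduct.comm k A B).toAlgHom.comp
      (Algebra.TensorProduct.map (AlgHom.id k A) f)).comp (Bialgebra.comulAlgHom k A)
    have e : ∀ x, ComodGMod.T (Coalgebra.comul (R := k)) f x = Ψ x := fun x => by
      rw [ComodGMod.T_apply]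
      show _ = (Algebra.TensorProduct.comm k A B) (Algebra.TensorProduct.map (AlgHom.id k A) f (Coalgebra.comul x))
      generalize Coalgebra.comul (R := k) x = z
      induction z using TensorProduct.induction_on with
      | zero => simp
      | add p q hp hq => simp only [map_add, hp, hq]
      | tmul p q => simp
    rw [e, e, e, map_mul]
  refine ⟨m, fun B _ _ g => ?_, fun h a => ?_⟩
  · have heq : ∀ z : B ⊗[k] A, m.ρ B g z =
        ComodGMod.L (Coalgebra.comul (R := k)) (ComodGMod.hom ((g ≫ i) ≫ ψ)).ofConv z :=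
      fun z => ComodGMod.eq_L (m₀.ρ B ((g ≫ i) ≫ ψ)) (hm₀ B _) z
    generalize (ComodGMod.hom ((g ≫ i) ≫ ψ)).ofConv = f at heq
    refine ⟨fun x y => ?_, ?_⟩
    · simp only [heq]
      induction x using TensorProduct.induction_on with
      | zero => simp
      | add p q hp hq => simp only [add_mul, map_add, hp, hq]
      | tmul b a =>
        induction y using TensorProduct.induction_on with
        | zero => simp
        | add p q hp hq => simp only [mul_add, map_add, hp, hq]
        | tmul b' a' =>
          rw [Algebra.TensorProduct.tmul_mul_tmul, ComodGMod.L_tmul, ComodGMod.L_tmul, ComodGMod.L_tmul, hT,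
            smul_mul_smul_comm]
    · rw [heq, Algebra.TensorProduct.one_def, ComodGMod.L_one_tmul, ComodGMod.T_apply]
      rw [Bialgebra.comul_one, Algebra.TensorProduct.one_def, LinearMap.lTensor_tmul]
      simp
  · show m₀.ρ k ((h ≫ i) ≫ ψ) _ = _
    rw [hm₀, ComodGMod.T_apply, Rt, AlgHom.comp_apply, AlgHom.comp_apply, Bialgebra.comulAlgHom_apply]
    show _ = (1 : k) ⊗ₜ[k] (Algebra.TensorProduct.rid k k A)
      (Algebra.TensorProduct.map (AlgHom.id k A) (ev ψ (h ≫ i)).ofConv (Coalgebra.comul a))
    show (TensorProduct.comm k A k) ((ev ψ (h ≫ i)).ofConv.toLinearMap.lTensor A (Coalgebra.comul a)) = _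
    generalize Coalgebra.comul (R := k) a = z
    induction z using TensorProduct.induction_on with
    | zero => simp
    | add p q hp hq => simp only [map_add, hp, hq, TensorProduct.tmul_add]
    | tmul p q =>
      simp only [LinearMap.lTensor_tmul, TensorProduct.comm_tmul, Algebra.TensorProduct.map_tmul,
        Algebra.TensorProduct.rid_tmul, AlgHom.id_apply, AlgHom.toLinearMap_apply]
      rw [← TensorProduct.smul_tmul, smul_eq_mul, _root_.mul_one]

/-- the kernel of a map equivariant on rational points is stable -/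
theorem isStable_ker [IsAlgClosed k] [IsAffine H.left] [Smooth H.hom] (m : VecGrp.GMod H A) {A' : Type u}
    [AddCommGroup A'] [Module k A'] (φ : A →ₗ[k] A')
    (hφ : ∀ (h : VecGrp.pt k k ⟶ H) (a : A), φ a = 0 → φ.baseChange k (m.ρ k h ((1 : k) ⊗ₜ[k] a)) = 0) :
    m.IsStable (𝟙 H) (LinearMap.ker φ) := by
  intro B _ _ h x hx
  obtain ⟨alg, gen, _, hgen, hfac⟩ := exists_gen H
  letI := alg
  have key : ∀ {C : Type u} [CommRing C] [Algebra k C] {C' : Type u} [CommRing C'] [Algebra k C'] (f : C →ₐ[k] C')
      (z : C ⊗[k] A), VecGrp.Wmap f (φ.baseChange C z) = φ.baseChange C' (VecGrp.Wmap f z) := by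
    intro C _ _ C' _ _ f z
    induction z using TensorProduct.induction_on with
    | zero => simp
    | add p q hp hq => simp only [map_add, hp, hq]
    | tmul c a => simp [VecGrp.Wmap]
  have h0 : φ.baseChange Γ(H.left, ⊤) (m.ρ _ gen ((1 : Γ(H.left, ⊤)) ⊗ₜ[k] x)) = 0 := by
    let b := Module.Free.chooseBasis k A'
    refine (b.baseChange Γ(H.left, ⊤)).repr.injective (Finsupp.ext fun j => hgen _ _ ?_)
    congr 1
    refine eq_of_forall_val fun γ => ?_
    obtain ⟨f, hf, hval⟩ := hfac k γ
    rw [← hval, ← hval]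
    have key2 : ∀ z : Γ(H.left, ⊤) ⊗[k] A', f ((b.baseChange Γ(H.left, ⊤)).repr z j) =
        (b.baseChange k).repr (VecGrp.Wmap f z) j := by
      intro z
      induction z using TensorProduct.induction_on with
      | zero => simp
      | add p q hp hq => simp only [map_add, Finsupp.add_apply, hp, hq]
      | tmul c w => simp [VecGrp.Wmap, mul_comm]
    rw [key2, key2, key, m.naturality, hf,
      show VecGrp.Wmap f ((1 : Γ(H.left, ⊤)) ⊗ₜ[k] x) = (1 : k) ⊗ₜ[k] x by simp [VecGrp.Wmap], hφ γ x hx]
    simp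
  obtain ⟨f, hf, -⟩ := hfac B h
  have h1 := congrArg (VecGrp.Wmap f) h0
  rw [key, m.naturality, hf, map_zero,
    show VecGrp.Wmap f ((1 : Γ(H.left, ⊤)) ⊗ₜ[k] x) = (1 : B) ⊗ₜ[k] x by simp [VecGrp.Wmap]] at h1
  rw [Category.comp_id]
  generalize m.ρ B h ((1 : B) ⊗ₜ[k] x) = z at h1
  obtain ⟨y, hy⟩ := (Module.Flat.lTensor_exact B φ.exact_subtype_ker_map z).1 h1
  rw [← hy]
  clear hy h1
  induction y using TensorProduct.induction_on with
  | zero => simp
  | add p q hp hq => rw [map_add]; exact add_mem hp hq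
  | tmul b w =>
    rw [LinearMap.lTensor_tmul]
    exact Submodule.tmul_mem_baseChange_of_mem b w.2

end Groth.L25.Observable
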