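import Groth.Agent.S11220
import Groth.Agent.L25.Observable.Translate

/-!
# Semi-invariant functions and transfer of observability
-/

set_option autoImplicit false
set_option backward.isDefEq.respectTransparency.types false
set_option maxHeartbeats 800000

universe u

open CategoryTheory CategoryTheory.Limits MonoidalCategory CartesianMonoidalCategory MonObj GrpObj AlgebraicGeometry
open scoped TensorProduct
open WithConv

noncomputable section

namespace Groth.L25.Observable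

variable {k : Type u} [Field k] {G H : Over (Spec (CommRingCat.of k))} [GrpObj G]
  {A : Type u} [CommRing A] [HopfAlgebra k A] (ψ : G ⟶ Sp k A)

/-- semi-invariance under right translation on rational points -/
def Semi (i : H ⟶ G) (c : (VecGrp.pt k k ⟶ H) → k) (f : A) : Prop :=
  ∀ (x : VecGrp.pt k k ⟶ G) (h : VecGrp.pt k k ⟶ H),
    (ev ψ (x * (h ≫ i))).ofConv f = c h * (ev ψ x).ofConv f

namespace Semi

variable {ψ} {i : H ⟶ G} {c c' : (VecGrp.pt k k ⟶ H) → k} {f f' : A}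

theorem mul (hf : Semi ψ i c f) (hf' : Semi ψ i c' f') : Semi ψ i (fun h => c h * c' h) (f * f') :=
  fun x h => by rw [map_mul, map_mul, hf, hf']; ring

theorem pow (hf : Semi ψ i c f) (n : ℕ) : Semi ψ i (fun h => c h ^ n) (f ^ n) :=
  fun x h => by rw [map_pow, map_pow, hf, mul_pow]

theorem congr (hf : Semi ψ i c f) (e : ∀ h, c h = c' h) : Semi ψ i c' f := fun x h => by rw [hf, e]

variable [IsMonHom ψ] [IsIso ψ]

theorem translate (hf : Semi ψ i c f) (y : VecGrp.pt k k ⟶ G) : Semi ψ i c (L (ev ψ y).ofConv f) :=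
  fun x h => by rw [apply_L_pt, apply_L_pt, ← ev_mul, ← ev_mul, ← _root_.mul_assoc]; exact hf _ h

/-- a nonzero semi-invariant gives one taking the value `1` at the identity -/
theorem exists_normalized [IsAlgClosed k] [_root_.IsReduced A] [Algebra.FiniteType k A] (hf : Semi ψ i c f)
    (h0 : f ≠ 0) : ∃ f' : A, Semi ψ i c f' ∧ (ev ψ (1 : VecGrp.pt k k ⟶ G)).ofConv f' = 1 := by
  obtain ⟨y, hy⟩ : ∃ y : VecGrp.pt k k ⟶ G, (ev ψ y).ofConv f ≠ 0 := by
    by_contra hne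
    push Not at hne
    exact h0 (eq_of_forall_ev ψ fun x => by rw [hne, map_zero])
  refine ⟨((ev ψ y).ofConv f)⁻¹ • L (ev ψ y).ofConv f, fun x h => ?_, ?_⟩
  · rw [map_smul, map_smul, hf.translate y, smul_eq_mul, smul_eq_mul]; ring
  · rw [map_smul, apply_L_pt, ← ev_mul, _root_.mul_one, smul_eq_mul, inv_mul_cancel₀ hy]

end Semi

theorem chiVal_inv_eq [GrpObj H] (χ : H ⟶ Red.Gm (Spec (CommRingCat.of k))) (h : VecGrp.pt k k ⟶ H) :
    VecGrp.chiVal χ h ≠ 0 ∧ VecGrp.chiVal χ⁻¹ h = (VecGrp.chiVal χ h)⁻¹ :=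
  ⟨right_ne_zero_of_mul (by rw [chiVal_inv_mul χ h]; exact one_ne_zero),
    eq_inv_of_mul_eq_one_left (chiVal_inv_mul χ h)⟩

/-- a function multiplicative and nonvanishing on rational points is a character -/
theorem exists_char_of_fun [IsAlgClosed k] [GrpObj H] [IsAffine H.left] [Smooth H.hom] (F : Γ(H.left, ⊤))
    (hone : val (1 : VecGrp.pt k k ⟶ H) F = 1) (hmul : ∀ z z' : VecGrp.pt k k ⟶ H, val (z * z') F = val z F * val z' F) :
    ∃ χ : H ⟶ Red.Gm (Spec (CommRingCat.of k)), IsMonHom χ ∧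
      ∀ z : VecGrp.pt k k ⟶ H, VecGrp.chiVal χ z = val z F := by
  haveI : IsAffine (H ⊗ H).left := inferInstanceAs (IsAffine (pullback H.hom H.hom))
  haveI : Smooth (H ⊗ H).hom := inferInstanceAs (Smooth (pullback.fst H.hom H.hom ≫ H.hom))
  have hu : IsUnit F := by
    refine IsUnit.of_mul_eq_one ((ι[H]).left.appTop F) (eq_of_forall_val fun z => ?_)
    rw [val_mul, ← val_comp z ι[H] F, show z ≫ ι[H] = z⁻¹ from rfl, ← hmul, mul_inv_cancel, hone, val_one]
  let χ : H ⟶ Red.Gm (Spec (CommRingCat.of k)) := GmPts.ptOfUnit hu.unit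
  have hχF : ∀ {T : Over (Spec (CommRingCat.of k))} (t : T ⟶ H),
      (GmPts.unitOfPt (t ≫ χ) : Γ(T.left, ⊤)) = t.left.appTop F := fun t => by
    rw [GmPts.unitOfPt_comp, GmPts.unitOfPt_ptOfUnit]; rfl
  have hmH : μ[H] ≫ χ = (fst H H ≫ χ) * (snd H H ≫ χ) := by
    refine (GmPts.equiv _).injective (Units.ext ?_)
    show (GmPts.unitOfPt (μ[H] ≫ χ) : Γ((H ⊗ H).left, ⊤)) =
      (GmPts.unitOfPt ((fst H H ≫ χ) * (snd H H ≫ χ)) : Γ((H ⊗ H).left, ⊤))
    rw [GmPts.unitOfPt_mul, Units.val_mul, hχF, hχF, hχF]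
    refine eq_of_forall_val fun q => ?_
    have e : q ≫ μ[H] = (q ≫ fst H H) * (q ≫ snd H H) := by
      rw [Hom.mul_def, ← comp_lift, lift_fst_snd, Category.comp_id]
    rw [val_mul, ← val_comp q μ[H] F, ← val_comp q (fst H H) F, ← val_comp q (snd H H) F, e, hmul]
  have hoH : η[H] ≫ χ = η[Red.Gm (Spec (CommRingCat.of k))] := by
    have e1 : (η[H] : 𝟙_ _ ⟶ H) = 1 := by simp [Hom.one_def]
    rw [e1]
    have e2 : lift (1 : 𝟙_ (Over (Spec (CommRingCat.of k))) ⟶ H) 1 ≫ μ[H] = 1 := by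
      rw [← Hom.mul_def, _root_.one_mul]
    have e3 := congrArg (fun m => lift (1 : 𝟙_ (Over (Spec (CommRingCat.of k))) ⟶ H) 1 ≫ m) hmH
    simp only [MonObj.comp_mul, ← Category.assoc, lift_fst, lift_snd] at e3
    rw [e2] at e3
    rw [show η[Red.Gm (Spec (CommRingCat.of k))] = (1 : 𝟙_ _ ⟶ _) by simp [Hom.one_def]]
    have e4 := congrArg GmPts.unitOfPt e3
    rw [GmPts.unitOfPt_mul] at e4
    exact (GmPts.equiv _).injective ((mul_eq_left.1 e4.symm).trans GmPts.unitOfPt_one.symm)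
  exact ⟨χ, ⟨hoH, by rw [hmH, Hom.mul_def, ← lift_map, reassoc_of% (lift_fst_snd (X := H) (Y := H))]⟩,
    fun z => by rw [chiVal_eq, GmPts.unitOfPt_ptOfUnit]; rfl⟩

variable [IsMonHom ψ] [IsIso ψ] [IsAlgClosed k] [_root_.IsReduced A] [Algebra.FiniteType k A] [IsAffine G.left]
  [Smooth G.hom] [GrpObj H] [Smooth H.hom] (i : H ⟶ G) [IsMonHom i] [IsClosedImmersion i.left]

/-- observability in terms of semi-invariant functions -/
theorem observable_iff_semi :
    AGF.IsObservableIn k i ↔ ∀ χ : H ⟶ Red.Gm (Spec (CommRingCat.of k)), IsMonHom χ →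
      ∀ f : A, f ≠ 0 → Semi ψ i (VecGrp.chiVal χ) f → ∃ f' : A, f' ≠ 0 ∧ Semi ψ i (VecGrp.chiVal χ⁻¹) f' := by
  haveI : IsAffine H.left := isAffine_of_isAffineHom i.left
  have hne : ∀ {f : A}, (ev ψ (1 : VecGrp.pt k k ⟶ G)).ofConv f = 1 → f ≠ 0 := fun h e => by
    rw [e, map_zero] at h; exact zero_ne_one h
  refine (Groth.Agent.S11220.result k G H i).trans (forall_congr' fun χ => forall_congr' fun _ => ⟨?_, ?_⟩)
  · intro hocc f hf0 hf
    obtain ⟨V, _, _, _, ρ, v, hv, hρ⟩ := hocc (exists_eigenvector ψ i χ f hf0 hf)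
    obtain ⟨f', hf1, hf'⟩ := exists_fun_of_eigenvector ψ i χ⁻¹ ρ hv hρ
    exact ⟨f', hne hf1, hf'⟩
  · rintro h ⟨V, _, _, _, ρ, v, hv, hρ⟩
    obtain ⟨f, hf1, hf⟩ := exists_fun_of_eigenvector ψ i χ ρ hv hρ
    obtain ⟨f', hf0', hf'⟩ := h f (hne hf1) hf
    exact exists_eigenvector ψ i χ⁻¹ f' hf0' hf'

/-- it suffices that a negative power of every occurring character occurs -/
theorem observable_of_negPow
    (h : ∀ χ : H ⟶ Red.Gm (Spec (CommRingCat.of k)), IsMonHom χ → ∀ f : A, f ≠ 0 → Semi ψ i (VecGrp.chiVal χ) f →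
      ∃ (m : ℕ) (f' : A), 0 < m ∧ f' ≠ 0 ∧ Semi ψ i (fun z => (VecGrp.chiVal χ z)⁻¹ ^ m) f') :
    AGF.IsObservableIn k i := by
  rw [observable_iff_semi ψ i]
  intro χ hχ f hf0 hf
  obtain ⟨f₁, hf₁, hf₁1⟩ := hf.exists_normalized hf0
  obtain ⟨m, f', hm, hf'0, hf'⟩ := h χ hχ f hf0 hf
  obtain ⟨f₂, hf₂, hf₂1⟩ := hf'.exists_normalized hf'0
  refine ⟨f₁ ^ (m - 1) * f₂, fun e => ?_, ((hf₁.pow (m - 1)).mul hf₂).congr fun z => ?_⟩
  · have := congrArg (ev ψ (1 : VecGrp.pt k k ⟶ G)).ofConv e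
    rw [map_mul, map_pow, hf₁1, hf₂1, one_pow, _root_.one_mul, map_zero] at this
    exact one_ne_zero this
  · obtain ⟨hne, e⟩ := chiVal_inv_eq χ z
    rw [e]
    obtain ⟨n, rfl⟩ := Nat.exists_eq_add_of_le' hm
    rw [Nat.add_sub_cancel, pow_succ, ← _root_.mul_assoc, ← mul_pow, mul_inv_cancel₀ hne, one_pow, _root_.one_mul]

end Groth.L25.Observable

namespace Groth.L25.Observable

variable {k : Type u} [Field k]

/-- restriction of functions to a subgroup -/
theorem exists_res {G K : Over (Spec (CommRingCat.of k))} [IsAffine K.left] {A A' : Type u} [CommRing A]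
    [HopfAlgebra k A] [CommRing A'] [HopfAlgebra k A'] (ψ : G ⟶ Sp k A) [IsIso ψ] (ψ' : K ⟶ Sp k A') [IsIso ψ']
    (j : K ⟶ G) [IsClosedImmersion j.left] :
    ∃ π : A →ₐ[k] A', Function.Surjective π ∧ ∀ (γ : VecGrp.pt k k ⟶ K) (a : A),
      (ev ψ' γ).ofConv (π a) = (ev ψ (γ ≫ j)).ofConv a := by
  obtain ⟨γ₀, hγ₀⟩ := ev_surjective ψ' (toConv (AlgHom.id k A'))
  refine ⟨(ev ψ (γ₀ ≫ j)).ofConv, fun b => ?_, fun γ a => ?_⟩
  · haveI : IsAffine G.left := by
      haveI : IsIso ψ.left := inferInstanceAs (IsIso ((Over.forget _).map ψ))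
      exact @IsAffine.of_isIso _ _ ψ.left this (inferInstanceAs (IsAffine (Spec (CommRingCat.of A))))
    obtain ⟨f, hf⟩ := (isClosedImmersion_iff_isAffineHom.1 ‹IsClosedImmersion j.left›).2 ⊤ (isAffineOpen_top _) (fn ψ' b)
    obtain ⟨a, rfl⟩ := fn_surjective ψ f
    refine ⟨a, ?_⟩
    rw [← val_fn, val_comp]
    refine (congrArg (val γ₀) hf).trans ?_
    rw [val_fn, hγ₀]
    rfl
  · have e : VecGrp.ptMap (ev ψ' γ).ofConv ≫ γ₀ = γ := by
      refine ev_injective ψ' (congrArg toConv (AlgHom.ext fun b => ?_))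
      show (ev ψ' (VecGrp.ptMap (ev ψ' γ).ofConv ≫ γ₀)).ofConv b = _
      rw [← val_fn, val_ptMap, val_fn, hγ₀]
      rfl
    conv_rhs => rw [← e]
    rw [← val_fn ψ ((_ ≫ _) ≫ j), Category.assoc, val_ptMap, val_fn]

/-- an observable subgroup of `G` is observable in any intermediate subgroup -/
theorem observable_of_comp [IsAlgClosed k] {G K H : Over (Spec (CommRingCat.of k))} [GrpObj G] [GrpObj K]
    [GrpObj H] [IsAffine G.left] [Smooth G.hom] [Smooth K.hom] [Smooth H.hom]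
    (j : K ⟶ G) [IsMonHom j] [IsClosedImmersion j.left] (i : H ⟶ K) [IsClosedImmersion i.left]
    (h : AGF.IsObservableIn k (i ≫ j)) : AGF.IsObservableIn k i := by
  haveI : IsAffine K.left := isAffine_of_isAffineHom j.left
  haveI : IsAffine H.left := isAffine_of_isAffineHom i.left
  obtain ⟨A, _, _, ψ, _, _, _, _⟩ := exists_chart G
  obtain ⟨A', _, _, ψ', _, _, _, _⟩ := exists_chart K
  obtain ⟨π, -, hπ⟩ := exists_res ψ ψ' j
  haveI : Mono j.left := inferInstance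
  haveI : Mono j := Over.mono_of_mono_left j
  rw [observable_iff ψ' i]
  intro g hg
  obtain ⟨z, hz⟩ := (observable_iff ψ (i ≫ j)).1 h (g ≫ j) fun a ha x => by
    have e := hg (π (L (ev ψ x).ofConv a)) (fun y t => by
      rw [hπ, hπ, apply_L_pt, apply_L_pt, ← ev_mul, ← ev_mul, MonObj.mul_comp, ← _root_.mul_assoc, Category.assoc]
      exact ha _ t) 1
    rw [hπ, hπ, apply_L_pt, apply_L_pt, ← ev_mul, ← ev_mul, MonObj.mul_comp, MonObj.one_comp, _root_.one_mul,
      _root_.mul_one] at e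
    exact e
  exact ⟨z, by rw [← cancel_mono j, Category.assoc]; exact hz⟩

end Groth.L25.Observable
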