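import Groth.Agent.L25.Observable.Basic
import Mathlib.RingTheory.Noetherian.Basic

/-!
# The observable hull of a subgroup on rational points
-/

set_option autoImplicit false
set_option backward.isDefEq.respectTransparency.types false

universe u

open CategoryTheory CategoryTheory.Limits MonoidalCategory CartesianMonoidalCategory MonObj AlgebraicGeometry
open scoped TensorProduct
open WithConv

noncomputable section

namespace Groth.L25.Observable

variable {k : Type u} [Field k] {G H : Over (Spec (CommRingCat.of k))}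
  {A : Type u} [CommRing A] [HopfAlgebra k A] (ψ : G ⟶ Sp k A) [GrpObj G] (i : H ⟶ G)

/-- the elements invariant under right translation by the subgroup, on rational points -/
def inv' : Submodule k A where
  carrier := {a | ∀ (x : VecGrp.pt k k ⟶ G) (h : VecGrp.pt k k ⟶ H),
    (ev ψ (x * (h ≫ i))).ofConv a = (ev ψ x).ofConv a}
  add_mem' ha hb := fun x h => by rw [map_add, map_add, ha x h, hb x h]
  zero_mem' := fun x h => by rw [map_zero, map_zero]
  smul_mem' c _ ha := fun x h => by rw [map_smul, map_smul, ha x h]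

/-- membership of the hull -/
def InHull (g : VecGrp.pt k k ⟶ G) : Prop :=
  ∀ a ∈ inv' ψ i, ∀ x : VecGrp.pt k k ⟶ G, (ev ψ (x * g)).ofConv a = (ev ψ x).ofConv a

variable [IsMonHom ψ]

theorem L_mem_inv' {a : A} (ha : a ∈ inv' ψ i) (y : VecGrp.pt k k ⟶ G) :
    L (ev ψ y).ofConv a ∈ inv' ψ i := fun x h => by
  rw [apply_L_pt, apply_L_pt, ← ev_mul, ← ev_mul, ← _root_.mul_assoc]
  exact ha _ h

section Smooth

variable [IsAlgClosed k] [IsAffine G.left] [Smooth G.hom] [IsAffine H.left] [Smooth H.hom]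

theorem mem_inv'_iff (a : A) : a ∈ inv' ψ i ↔ AGF.IsRTransInv i (fn ψ a) :=
  (isRTransInv_iff ψ i a).symm

variable [IsIso ψ]

theorem inHull_iff (g : VecGrp.pt k k ⟶ G) :
    InHull ψ i g ↔ ∀ f : Γ(G.left, ⊤), AGF.IsRTransInv i f → AGF.IsRTransInv g f := by
  refine ⟨fun hg f hf => ?_, fun hg a ha x => ?_⟩
  · obtain ⟨a, rfl⟩ := fn_surjective ψ f
    exact (isRTransInv_pt_iff ψ g a).2 (hg a ((mem_inv'_iff ψ i a).2 hf))
  · exact (isRTransInv_pt_iff ψ g a).1 (hg _ ((mem_inv'_iff ψ i a).1 ha)) x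

theorem observable_iff [GrpObj H] :
    AGF.IsObservableIn k i ↔ ∀ g, InHull ψ i g → ∃ h : VecGrp.pt k k ⟶ H, h ≫ i = g :=
  forall_congr' fun g => imp_congr_left (inHull_iff ψ i g).symm

end Smooth

/-- finitely many invariant functions cut out the hull -/
theorem exists_finset_hull [Algebra.FiniteType k A] :
    ∃ s : Finset A, ↑s ⊆ (inv' ψ i : Set A) ∧ ∀ g : VecGrp.pt k k ⟶ G,
      (∀ a ∈ s, ∀ x : VecGrp.pt k k ⟶ G, (ev ψ (x * g)).ofConv a = (ev ψ x).ofConv a) →
      InHull ψ i g := by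
  classical
  haveI : IsNoetherianRing A := Algebra.FiniteType.isNoetherianRing k A
  let D : (VecGrp.pt k k ⟶ G) → A → A := fun x a =>
    L (ev ψ x).ofConv a - algebraMap k A ((ev ψ x).ofConv a)
  have hD : ∀ (g x : VecGrp.pt k k ⟶ G) (a : A),
      (ev ψ g).ofConv (D x a) = (ev ψ (x * g)).ofConv a - (ev ψ x).ofConv a := fun g x a => by
    rw [map_sub, apply_L_pt, AlgHom.commutes, ev_mul]
    rfl
  let S : Set A := {z | ∃ a ∈ inv' ψ i, ∃ x, D x a = z}
  obtain ⟨T, hTS, hspan⟩ := Submodule.fg_span_iff_fg_span_finset_subset S |>.1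
    (IsNoetherian.noetherian (Ideal.span S))
  have hTS' : ∀ z ∈ T, ∃ a ∈ inv' ψ i, ∃ x, D x a = z := fun z hz => hTS hz
  choose a ha x hx using hTS'
  refine ⟨T.attach.image fun z => a z.1 z.2, fun b hb => ?_, fun g hg b hb y => ?_⟩
  · obtain ⟨z, -, rfl⟩ := Finset.mem_image.1 hb
    exact ha z.1 z.2
  · have hker : Ideal.span S ≤ RingHom.ker (ev ψ g).ofConv := by
      refine le_trans hspan.le (Ideal.span_le.2 fun z hz => ?_)
      show (ev ψ g).ofConv z = 0
      rw [← hx z hz, hD, hg (a z hz) (Finset.mem_image.2 ⟨⟨z, hz⟩, Finset.mem_attach _ _, rfl⟩), sub_self]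
    have h := hker (Ideal.subset_span ⟨b, hb, y, rfl⟩)
    rw [RingHom.mem_ker, hD, sub_eq_zero] at h
    exact h

/-- an observable subgroup has finitely many invariant functions separating its cosets -/
theorem exists_finset_separating [Algebra.FiniteType k A]
    (hobs : ∀ g, InHull ψ i g → ∃ h : VecGrp.pt k k ⟶ H, h ≫ i = g) :
    ∃ s : Finset A, ↑s ⊆ (inv' ψ i : Set A) ∧ ∀ g g' : VecGrp.pt k k ⟶ G,
      (∀ a ∈ s, (ev ψ g).ofConv a = (ev ψ g').ofConv a) →
        ∃ h : VecGrp.pt k k ⟶ H, g' = g * (h ≫ i) := by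
  classical
  obtain ⟨s, hs, hcut⟩ := exists_finset_hull ψ i
  choose U hfin hU using fun a : A => exists_finite_translates (k := k) a
  let W : Submodule k A := (⨆ a : s, U a.1) ⊓ inv' ψ i
  haveI : ∀ a : s, Module.Finite k (U a.1) := fun a => hfin a.1
  haveI : Module.Finite k (⨆ a : s, U a.1 : Submodule k A) := inferInstance
  haveI : Module.Finite k W := Submodule.finiteDimensional_of_le inf_le_left
  obtain ⟨t, ht⟩ := (Module.Finite.iff_fg.1 ‹Module.Finite k W› : W.FG)
  refine ⟨t, fun b hb => (ht.le (Submodule.subset_span hb)).2,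
    fun g g' hgg' => ?_⟩
  have hW : ∀ b ∈ W, (ev ψ g).ofConv b = (ev ψ g').ofConv b := by
    intro b hb
    rw [← ht] at hb
    induction hb using Submodule.span_induction with
    | mem z hz => exact hgg' z hz
    | zero => simp
    | add z w _ _ hz hw => rw [map_add, map_add, hz, hw]
    | smul c z _ hz => rw [map_smul, map_smul, hz]
  obtain ⟨h, hh⟩ := hobs (g⁻¹ * g') (hcut _ fun a ha x => by
    have hmem : L (ev ψ (x * g⁻¹)).ofConv a ∈ W :=
      ⟨(le_iSup (fun a : s => U a.1) ⟨a, ha⟩) (hU a _), L_mem_inv' ψ i (hs ha) _⟩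
    have := hW _ hmem
    rw [apply_L_pt, apply_L_pt, ← ev_mul, ← ev_mul, _root_.mul_assoc, inv_mul_cancel, _root_.mul_one,
      _root_.mul_assoc] at this
    exact this.symm)
  exact ⟨h, by rw [hh, mul_inv_cancel_left]⟩

end Groth.L25.Observable
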