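import Groth.Agent.L25.Observable.AlgAction
import Groth.Agent.L25.Observable.Hull
import Groth.Agent.L25.Observable.Translate
import Mathlib.RingTheory.FiniteType

/-!
# The transfer principle for invariants
-/

set_option autoImplicit false
set_option backward.isDefEq.respectTransparency.types false
set_option maxHeartbeats 1000000
set_option synthInstance.maxHeartbeats 100000

universe u

open CategoryTheory MonoidalCategory CartesianMonoidalCategory MonObj AlgebraicGeometry
open scoped TensorProduct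
open WithConv

noncomputable section

namespace Groth.L25.Observable

variable {k : Type u} [Field k] {G H : Over (Spec (CommRingCat.of k))}
  {A : Type u} [CommRing A] [HopfAlgebra k A] (ψ : G ⟶ Sp k A)

/-- `fn` as a ring map -/
def fnHom : A →+* Γ(G.left, ⊤) := ψ.left.appTop.hom.comp (Scheme.ΓSpecIso (CommRingCat.of A)).inv.hom

theorem fnHom_apply (a : A) : fnHom ψ a = fn ψ a := rfl

theorem fn_algebraMap [IsAlgClosed k] [IsAffine G.left] [Smooth G.hom] (c : k) :
    fn ψ (algebraMap k A c) = G.hom.appTop ((Scheme.ΓSpecIso (CommRingCat.of k)).inv c) := by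
  refine eq_of_forall_val fun x => ?_
  rw [val_fn, AlgHom.commutes]
  show _ = (Scheme.ΓSpecIso (CommRingCat.of k)).hom
    ((x.left ≫ G.hom).appTop ((Scheme.ΓSpecIso (CommRingCat.of k)).inv c))
  rw [Over.w x]
  have h := congr($(Scheme.ΓSpecIso_naturality (CommRingCat.ofHom (algebraMap k k)))
    ((Scheme.ΓSpecIso (CommRingCat.of k)).inv c))
  refine Eq.trans ?_ h.symm
  show algebraMap k k c = algebraMap k k ((Scheme.ΓSpecIso (CommRingCat.of k)).hom ((Scheme.ΓSpecIso (CommRingCat.of k)).inv c))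
  exact congrArg _ (congr($((Scheme.ΓSpecIso (CommRingCat.of k)).inv_hom_id) c)).symm

variable [GrpObj G] [IsMonHom ψ]

theorem ev_inv (x : VecGrp.pt k k ⟶ G) (f : A) :
    (ev ψ x⁻¹).ofConv f = (ev ψ x).ofConv (HopfAlgebra.antipodeAlgHom k A f) := by
  have e : ev ψ x⁻¹ = (ev ψ x)⁻¹ := eq_inv_of_mul_eq_one_left (by rw [← ev_mul, inv_mul_cancel, ev_one])
  rw [e]; rfl

/-- functions invariant on the left -/
def linv (i : H ⟶ G) : Subalgebra k A where
  carrier := {f | ∀ (x : VecGrp.pt k k ⟶ G) (h : VecGrp.pt k k ⟶ H),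
    (ev ψ ((h ≫ i) * x)).ofConv f = (ev ψ x).ofConv f}
  mul_mem' {a b} ha hb := fun x h => by rw [map_mul, map_mul, ha x h, hb x h]
  add_mem' {a b} ha hb := fun x h => by rw [map_add, map_add, ha x h, hb x h]
  algebraMap_mem' c := fun x h => by rw [AlgHom.commutes, AlgHom.commutes]

theorem mem_linv_iff [GrpObj H] [IsIso ψ] [IsAlgClosed k] [_root_.IsReduced A] [Algebra.FiniteType k A]
    (i : H ⟶ G) [IsMonHom i] (f : A) :
    (f ∈ linv ψ i → HopfAlgebra.antipodeAlgHom k A f ∈ inv' ψ i) ∧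
    (f ∈ inv' ψ i → HopfAlgebra.antipodeAlgHom k A f ∈ linv ψ i) ∧
    HopfAlgebra.antipodeAlgHom k A (HopfAlgebra.antipodeAlgHom k A f) = f := by
  refine ⟨fun hf x h => ?_, fun hf x h => ?_, eq_of_forall_ev ψ fun x => by rw [← ev_inv, ← ev_inv, inv_inv]⟩
  · rw [← ev_inv, ← ev_inv, mul_inv_rev, ← GrpObj.inv_comp]
    exact hf _ _
  · rw [← ev_inv, ← ev_inv, mul_inv_rev, ← GrpObj.inv_comp]
    exact hf _ _

section Transfer

variable [IsIso ψ] [IsAlgClosed k] [_root_.IsReduced A] [Algebra.FiniteType k A] [IsAffine G.left] [Smooth G.hom]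
  [GrpObj H] [Smooth H.hom] (i : H ⟶ G) [IsMonHom i] [IsClosedImmersion i.left]
include ψ

theorem fg_linv (h : AGF.SubringFGOver k G (AGF.rTransInv i)) : (linv ψ i).FG := by
  classical
  haveI : IsAffine H.left := isAffine_of_isAffineHom i.left
  obtain ⟨s, hs, hle⟩ := h
  choose pre hpre using fn_surjective ψ
  let S : Subalgebra k A := Algebra.adjoin k ((s.image pre : Finset A) : Set A)
  have hsinv : ∀ a ∈ s.image pre, a ∈ inv' ψ i := fun a ha => by
    obtain ⟨f, hf, rfl⟩ := Finset.mem_image.1 ha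
    rw [mem_inv'_iff, hpre]
    exact hs hf
  have hinv : ∀ a ∈ inv' ψ i, a ∈ S := by
    intro a ha
    have h1 : fn ψ a ∈ S.toSubring.map (fnHom ψ) := by
      refine Subring.closure_le.2 ?_ (hle ((mem_inv'_iff ψ i a).1 ha))
      rintro f (⟨c, rfl⟩ | hf)
      · exact ⟨algebraMap k A c, S.algebraMap_mem c, fn_algebraMap ψ c⟩
      · exact ⟨pre f, Algebra.subset_adjoin (Finset.mem_coe.2 (Finset.mem_image_of_mem _ hf)), hpre f⟩
    obtain ⟨b, hb, e⟩ := h1
    exact fn_injective ψ e ▸ hb
  let σ := HopfAlgebra.antipodeAlgHom k A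
  refine ⟨(s.image pre).image σ, le_antisymm (Algebra.adjoin_le fun a ha => ?_) fun a ha => ?_⟩
  · obtain ⟨b, hb, rfl⟩ := Finset.mem_image.1 (Finset.mem_coe.1 ha)
    exact (mem_linv_iff ψ i b).2.1 (hsinv b hb)
  · have h1 : σ (σ a) ∈ S.map σ := ⟨σ a, hinv _ ((mem_linv_iff ψ i a).1 ha), rfl⟩
    rw [show σ (σ a) = a from (mem_linv_iff ψ i a).2.2, AlgHom.map_adjoin, ← Finset.coe_image] at h1
    exact h1

theorem finiteType_fixed (hfg : VecGrp.ReductiveInvariantsFG k) (hG : VecGrp.IsReductiveGrp k G)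
    (h : AGF.SubringFGOver k G (AGF.rTransInv i)) (M : Type u) [CommRing M] [Algebra k M] [Algebra.FiniteType k M]
    (ρ : VecGrp.GMod G M) (hρ : ρ.IsMult) : Algebra.FiniteType k ↥(ρ.fixedSubalgebra hρ i) := by
  classical
  haveI : IsAffine H.left := isAffine_of_isAffineHom i.left
  obtain ⟨m, hm, hmpt⟩ := exists_regular ψ (𝟙 G)
  let C := linv ψ i
  haveI : Algebra.FiniteType k C := ⟨(Subalgebra.fg_top C).2 (fg_linv ψ i h)⟩
  have hRt : ∀ (g : VecGrp.pt k k ⟶ G) (f : A), m.ρ k g ((1 : k) ⊗ₜ[k] f) = (1 : k) ⊗ₜ[k] Rt (ev ψ g).ofConv f :=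
    fun g f => by rw [hmpt, Category.comp_id]
  have hCst : m.IsStable (𝟙 G) (Subalgebra.toSubmodule C) := by
    rw [← Submodule.ker_mkQ (Subalgebra.toSubmodule C)]
    refine isStable_ker m _ fun g f hf => ?_
    have hf' : f ∈ C := (Submodule.Quotient.mk_eq_zero _).1 hf
    rw [hRt, LinearMap.baseChange_tmul]
    have : (Subalgebra.toSubmodule C).mkQ (Rt (ev ψ g).ofConv f) = 0 := by
      refine (Submodule.Quotient.mk_eq_zero _).2 fun x t => ?_
      rw [apply_Rt, apply_Rt, ← ev_mul, ← ev_mul, _root_.mul_assoc]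
      exact hf' _ t
    rw [this, TensorProduct.tmul_zero]
  obtain ⟨mC, hmC⟩ := exists_restrict m (Subalgebra.toSubmodule C) hCst
  let ρC : VecGrp.GMod G C := mC
  have hρCv : ∀ (B : Type u) [CommRing B] [Algebra k B] (g : VecGrp.pt k B ⟶ G) (z : B ⊗[k] C),
      Algebra.TensorProduct.map (AlgHom.id B B) C.val (ρC.ρ B g z) =
        m.ρ B g (Algebra.TensorProduct.map (AlgHom.id B B) C.val z) := by
    intro B _ _ g z
    have e : ∀ z : B ⊗[k] C, Algebra.TensorProduct.map (AlgHom.id B B) C.val z =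
        (Subalgebra.toSubmodule C).subtype.baseChange B z := by
      intro z
      induction z using TensorProduct.induction_on with
      | zero => exact (map_zero _).trans (map_zero _).symm
      | add p q hp hq => exact (map_add _ p q).trans ((congrArg₂ (· + ·) hp hq).trans (map_add _ p q).symm)
      | tmul b c => rfl
    rw [e, e]; exact hmC B g z
  have hCinj : ∀ (B : Type u) [CommRing B] [Algebra k B],
      Function.Injective (Algebra.TensorProduct.map (AlgHom.id B B) C.val) := fun B _ _ =>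
    Module.Flat.lTensor_preserves_injective_linearMap (M := B) C.val.toLinearMap Subtype.val_injective
  have hρC : ρC.IsMult := fun B _ _ g => ⟨fun x y => hCinj B (by
      rw [hρCv, map_mul, (hm B g).1, map_mul, hρCv, hρCv]),
    hCinj B (by rw [hρCv, map_one, (hm B g).2])⟩
  obtain ⟨ρR, hρR, hgen⟩ := exists_tensor ρ hρ ρC hρC
  haveI : Algebra.FiniteType k (M ⊗[k] C) := Algebra.FiniteType.trans (S := M) inferInstance inferInstance
  obtain ⟨S, hS, hle⟩ := hfg G hG (M ⊗[k] C) ρR hρR inferInstance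
  -- evaluation of the tensor product
  let evx : (VecGrp.pt k k ⟶ G) → (M ⊗[k] C →ₐ[k] M) := fun x =>
    Algebra.TensorProduct.lift (AlgHom.id k M) ((Algebra.ofId k M).comp ((ev ψ x).ofConv.comp C.val))
      fun _ _ => Commute.all _ _
  have hinj : ∀ r : M ⊗[k] C, (∀ x, evx x r = 0) → r = 0 := by
    intro r hr
    let b := Module.Free.chooseBasis k M
    let bC := b.baseChange C
    refine (TensorProduct.comm k M C).injective ?_
    rw [map_zero]
    refine bC.repr.injective (Finsupp.ext fun j => Subtype.ext (eq_of_forall_ev ψ fun x => ?_))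
    have key : ∀ r : M ⊗[k] C, b.repr (evx x r) j =
        (ev ψ x).ofConv ((bC.repr (TensorProduct.comm k M C r) j : C) : A) := by
      intro r
      induction r using TensorProduct.induction_on with
      | zero => simp
      | add p q hp hq => simp only [map_add, Finsupp.add_apply, Subalgebra.coe_add, hp, hq]
      | tmul a c =>
        simp only [evx, bC, Algebra.TensorProduct.lift_tmul, AlgHom.id_apply, AlgHom.comp_apply,
          TensorProduct.comm_tmul, Module.Basis.baseChange_repr_tmul]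
        rw [mul_comm, Algebra.ofId_apply, ← Algebra.smul_def, map_smul]
        simp [mul_comm]
    rw [← key, hr x]
    simp
  let act : (VecGrp.pt k k ⟶ G) → M → M := fun g a => TensorProduct.lid k M (ρ.ρ k g ((1 : k) ⊗ₜ[k] a))
  have hactk : ∀ (g : VecGrp.pt k k ⟶ G) (a : M), ρ.ρ k g ((1 : k) ⊗ₜ[k] a) = (1 : k) ⊗ₜ[k] act g a := fun g a => by
    simp only [act]
    generalize ρ.ρ k g ((1 : k) ⊗ₜ[k] a) = z
    induction z using TensorProduct.induction_on with
    | zero => simp
    | add p q hp hq => rw [map_add, TensorProduct.tmul_add, ← hp, ← hq]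
    | tmul c w => simp [TensorProduct.smul_tmul']
  let actR : (VecGrp.pt k k ⟶ G) → (M ⊗[k] C) → (M ⊗[k] C) := fun g r =>
    TensorProduct.lid k _ (ρR.ρ k g ((1 : k) ⊗ₜ[k] r))
  have hev : ∀ (g x : VecGrp.pt k k ⟶ G) (r : M ⊗[k] C), evx x (actR g r) = act g (evx (x * g) r) := by
    intro g x r
    induction r using TensorProduct.induction_on with
    | zero => simp [actR, act]
    | add p q hp hq =>
      simp only [actR, act] at hp hq ⊢
      simp only [TensorProduct.tmul_add, map_add, hp, hq]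
    | tmul a c =>
      simp only [actR]
      rw [hgen, hactk]
      obtain ⟨c', hc'⟩ : ∃ c' : C, ρC.ρ k g ((1 : k) ⊗ₜ[k] c) = (1 : k) ⊗ₜ[k] c' := by
        generalize ρC.ρ k g ((1 : k) ⊗ₜ[k] c) = z
        induction z using TensorProduct.induction_on with
        | zero => exact ⟨0, by simp⟩
        | add p q hp hq =>
          obtain ⟨p', rfl⟩ := hp; obtain ⟨q', rfl⟩ := hq
          exact ⟨p' + q', by rw [TensorProduct.tmul_add]⟩
        | tmul r w => exact ⟨r • w, by simp [TensorProduct.smul_tmul']⟩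
      have hv : (c' : A) = Rt (ev ψ g).ofConv (c : A) := by
        have h1 := hρCv k g ((1 : k) ⊗ₜ[k] c)
        rw [hc'] at h1
        simp only [Algebra.TensorProduct.map_tmul, AlgHom.id_apply, Subalgebra.coe_val] at h1
        rw [hRt] at h1
        simpa using congrArg (TensorProduct.lid k A) h1
      rw [hc']
      simp only [Algebra.TensorProduct.map_tmul, AlgHom.id_apply, Algebra.TensorProduct.includeLeft_apply,
        Algebra.TensorProduct.includeRight_apply, Algebra.TensorProduct.tmul_mul_tmul, _root_.one_mul, _root_.mul_one,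
        TensorProduct.lid_tmul, one_smul, evx, Algebra.TensorProduct.lift_tmul, AlgHom.comp_apply, Subalgebra.coe_val]
      rw [hv, apply_Rt, ← ev_mul, mul_comm, Algebra.ofId_apply, ← Algebra.smul_def]
      conv_rhs => rw [mul_comm, ← Algebra.smul_def]
      simp [act, TensorProduct.tmul_smul]
  have hactM : ∀ (g g' : VecGrp.pt k k ⟶ G) (a : M), act g (act g' a) = act (g * g') a := fun g g' a => by
    simp only [act]
    rw [map_mul, LinearEquiv.mul_apply, hactk g' a]
    simp [act]
  -- evaluation at the identity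
  let Ψ := evx 1
  have hΨ : ∀ r ∈ ρR.fixedUnder (𝟙 G), Ψ r ∈ ρ.fixedSubalgebra hρ i := by
    intro r hr
    refine mem_fixedUnder_of_pts' i ρ _ fun γ => ?_
    rw [hactk]
    congr 1
    have h1 := hev (γ ≫ i) 1 r
    have h2 : actR (γ ≫ i) r = r := by
      have := hr k (γ ≫ i)
      rw [Category.comp_id] at this
      simp [actR, this]
    rw [h2, _root_.one_mul] at h1
    have h3 : evx (γ ≫ i) r = evx 1 r := by
      suffices evx (γ ≫ i) = evx 1 by rw [this]
      refine Algebra.TensorProduct.ext (AlgHom.ext fun a => by simp [evx]) (AlgHom.ext fun c => ?_)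
      have := c.2 1 γ
      rw [_root_.mul_one] at this
      simp [evx, this]
    rw [h3] at h1
    exact h1.symm
  refine ⟨⟨S.attach.image fun r => ⟨Ψ r.1, hΨ _ (hS r.2)⟩, eq_top_iff.2 fun a _ => ?_⟩⟩
  obtain ⟨γ₀, hγ₀⟩ := ev_surjective ψ (toConv (AlgHom.id k A))
  have hptm : ∀ x : VecGrp.pt k k ⟶ G, VecGrp.ptMap (ev ψ x).ofConv ≫ γ₀ = x := fun x => by
    refine ev_injective ψ (congrArg toConv (AlgHom.ext fun b => ?_))
    show (ev ψ (VecGrp.ptMap (ev ψ x).ofConv ≫ γ₀)).ofConv b = _
    rw [← val_fn, val_ptMap, val_fn, hγ₀]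
    rfl
  let bM := Module.Free.chooseBasis k M
  let w := (bM.baseChange A).repr (ρ.ρ A γ₀⁻¹ ((1 : A) ⊗ₜ[k] (a : M)))
  have hw : ∀ x j, (ev ψ x).ofConv (w j) = bM.repr (act x⁻¹ (a : M)) j := by
    intro x j
    have key : ∀ z : A ⊗[k] M, (ev ψ x).ofConv ((bM.baseChange A).repr z j) =
        bM.repr (TensorProduct.lid k M (VecGrp.Wmap (ev ψ x).ofConv z)) j := by
      intro z
      induction z using TensorProduct.induction_on with
      | zero => simp
      | add p q hp hq => simp only [map_add, Finsupp.add_apply, hp, hq]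
      | tmul c v => simp [VecGrp.Wmap, mul_comm]
    refine (key _).trans ?_
    rw [ρ.naturality, GrpObj.comp_inv, hptm]
    simp [act, VecGrp.Wmap]
  have hwC : ∀ j, w j ∈ C := fun j x t => by
    rw [hw, hw]
    congr 2
    rw [mul_inv_rev, ← GrpObj.inv_comp, ← hactM]
    have h1 := a.2 k t⁻¹
    rw [hactk] at h1
    rw [show act (t⁻¹ ≫ i) (a : M) = (a : M) by simpa using congrArg (TensorProduct.lid k M) h1]
  let z : M ⊗[k] C := ∑ j ∈ w.support, bM j ⊗ₜ[k] (⟨w j, hwC j⟩ : C)
  have hzev : ∀ x, evx x z = act x⁻¹ (a : M) := by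
    intro x
    refine bM.repr.injective (Finsupp.ext fun l => ?_)
    simp only [z, map_sum, evx, Algebra.TensorProduct.lift_tmul, AlgHom.id_apply, AlgHom.comp_apply,
      Subalgebra.coe_val, Finset.sum_apply', ← hw x l]
    have : ∀ j, bM.repr (bM j * (Algebra.ofId k M) ((ev ψ x).ofConv (w j))) l = (Finsupp.single j ((ev ψ x).ofConv (w j))) l := by
      intro j
      rw [mul_comm, Algebra.ofId_apply, ← Algebra.smul_def, map_smul, Module.Basis.repr_self, Finsupp.smul_single,
        smul_eq_mul, _root_.mul_one]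
    rw [Finset.sum_congr rfl fun j _ => this j]
    by_cases hl : l ∈ w.support
    · rw [Finset.sum_eq_single_of_mem l hl fun j _ hj => Finsupp.single_eq_of_ne' hj]
      simp
    · rw [Finset.sum_eq_zero fun j hj => Finsupp.single_eq_of_ne' fun e => hl (by rw [← e]; exact hj),
        Finsupp.notMem_support_iff.1 hl, map_zero]
  have hzfix : z ∈ ρR.fixedUnder (𝟙 G) := by
    refine mem_fixedUnder_of_pts' (𝟙 G) ρR z fun γ => ?_
    rw [Category.comp_id]
    have h1 : actR γ z = z := by
      refine sub_eq_zero.1 (hinj _ fun x => ?_)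
      rw [map_sub, hev, hzev, hzev, hactM, sub_eq_zero, mul_inv_rev, ← _root_.mul_assoc, mul_inv_cancel,
        _root_.one_mul]
    conv_rhs => rw [← h1]
    simp only [actR]
    generalize ρR.ρ k γ ((1 : k) ⊗ₜ[k] z) = y
    induction y using TensorProduct.induction_on with
    | zero => simp
    | add p q hp hq => rw [map_add, TensorProduct.tmul_add, ← hp, ← hq]
    | tmul c v => simp [TensorProduct.smul_tmul']
  have hzΨ : Ψ z = (a : M) := by
    show evx 1 z = _
    rw [hzev, inv_one]
    simp [act]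
  have hmap : Ψ z ∈ (Algebra.adjoin k (↑(S.attach.image fun r => (⟨Ψ r.1, hΨ _ (hS r.2)⟩ : ρ.fixedSubalgebra hρ i)) : Set (ρ.fixedSubalgebra hρ i))).map (ρ.fixedSubalgebra hρ i).val := by
    rw [AlgHom.map_adjoin]
    have h2 : Ψ z ∈ (Algebra.adjoin k (S : Set (M ⊗[k] C))).map Ψ := ⟨z, hle hzfix, rfl⟩
    rw [AlgHom.map_adjoin] at h2
    refine Algebra.adjoin_mono ?_ h2
    rintro _ ⟨r, hr, rfl⟩
    exact ⟨⟨Ψ r, hΨ _ (hS hr)⟩, Finset.mem_coe.2 (Finset.mem_image.2 ⟨⟨r, hr⟩, Finset.mem_attach _ _, rfl⟩), rfl⟩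
  obtain ⟨y, hy, hye⟩ := hmap
  rw [hzΨ] at hye
  exact (Subtype.ext hye : y = a) ▸ hy

theorem subringFG_of_finiteType
    (h : ∀ (M : Type u) [CommRing M] [Algebra k M] [Algebra.FiniteType k M] (ρ : VecGrp.GMod G M) (hρ : ρ.IsMult),
      Algebra.FiniteType k ↥(ρ.fixedSubalgebra hρ i)) :
    AGF.SubringFGOver k G (AGF.rTransInv i) := by
  classical
  haveI : IsAffine H.left := isAffine_of_isAffineHom i.left
  obtain ⟨m, hm, hmpt⟩ := exists_regular ψ (𝟙 G)
  obtain ⟨t, ht⟩ := (Subalgebra.fg_top (m.fixedSubalgebra hm i)).1 (h A m hm).out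
  have hiff : ∀ a : A, a ∈ m.fixedSubalgebra hm i ↔ a ∈ inv' ψ i := by
    intro a
    constructor
    · intro ha x γ
      have h1 := ha k γ
      rw [hmpt, Category.comp_id] at h1
      have h2 : Rt (ev ψ (γ ≫ i)).ofConv a = a := by simpa using congrArg (TensorProduct.lid k A) h1
      conv_rhs => rw [← h2]
      rw [apply_Rt, ← ev_mul]
    · intro ha
      refine mem_fixedUnder_of_pts' i m a fun γ => ?_
      rw [hmpt, Category.comp_id]
      congr 1
      exact eq_of_forall_ev ψ fun x => by rw [apply_Rt, ← ev_mul]; exact ha x γ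
  refine ⟨t.image (fn ψ), fun f hf => ?_, fun f hf => ?_⟩
  · obtain ⟨a, ha, rfl⟩ := Finset.mem_image.1 (Finset.mem_coe.1 hf)
    exact (mem_inv'_iff ψ i a).1 ((hiff a).1 (ht ▸ Algebra.subset_adjoin ha))
  · obtain ⟨a, rfl⟩ := fn_surjective ψ f
    have ha : a ∈ Algebra.adjoin k (t : Set A) := ht ▸ (hiff a).2 ((mem_inv'_iff ψ i a).2 hf)
    clear hf
    induction ha using Algebra.adjoin_induction with
    | mem y hy => exact Subring.subset_closure (Or.inr (Finset.mem_coe.2 (Finset.mem_image_of_mem _ hy)))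
    | algebraMap c => exact Subring.subset_closure (Or.inl ⟨c, (fn_algebraMap ψ c).symm⟩)
    | add y z _ _ hy hz =>
      rw [← fnHom_apply, map_add]; exact Subring.add_mem _ hy hz
    | mul y z _ _ hy hz =>
      rw [← fnHom_apply, map_mul]; exact Subring.mul_mem _ hy hz

end Transfer

end Groth.L25.Observable
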