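import Groth.Agent.L25.Observable.Extend

/-!
# Every module of an observable subgroup extends
-/

set_option autoImplicit false
set_option backward.isDefEq.respectTransparency.types false
set_option maxHeartbeats 1600000

universe u

open CategoryTheory CategoryTheory.Limits MonoidalCategory CartesianMonoidalCategory MonObj AlgebraicGeometry
open scoped TensorProduct
open WithConv

noncomputable section

namespace Groth.L25.Observable

variable {k : Type u} [Field k] {A : Type u} [CommRing A] [HopfAlgebra k A]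

/-- contraction of the comultiplication by a functional -/
def Tc (φ : A →ₗ[k] k) : A →ₗ[k] A :=
  (TensorProduct.lid k A).toLinearMap ∘ₗ φ.rTensor A ∘ₗ Coalgebra.comul

theorem apply_Tc (φ : A →ₗ[k] k) (g : A →ₐ[k] k) (a : A) : g (Tc φ a) = φ (Rt g a) := by
  rw [Tc, Rt, LinearMap.comp_apply, LinearMap.comp_apply, AlgHom.comp_apply, AlgHom.comp_apply,
    Bialgebra.comulAlgHom_apply]
  generalize Coalgebra.comul (R := k) a = z
  induction z using TensorProduct.induction_on with
  | zero => simp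
  | add p q hp hq => simp only [map_add, hp, hq]
  | tmul p q => simp [mul_comm]

theorem exists_finite_rightTranslates (a : A) :
    ∃ U : Submodule k A, Module.Finite k U ∧ ∀ g : A →ₐ[k] k, Rt g a ∈ U := by
  classical
  obtain ⟨S, hS⟩ := TensorProduct.exists_finset (Coalgebra.comul (R := k) a)
  refine ⟨Submodule.span k ↑(S.image Prod.fst), FiniteDimensional.span_finset k _, fun g => ?_⟩
  rw [Rt, AlgHom.comp_apply, AlgHom.comp_apply, Bialgebra.comulAlgHom_apply, hS, map_sum, map_sum]
  refine sum_mem fun p hp => ?_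
  simpa using Submodule.smul_mem _ _ (Submodule.subset_span (Finset.mem_image_of_mem Prod.fst hp))

variable {G H : Over (Spec (CommRingCat.of k))} [GrpObj G] (ψ : G ⟶ Sp k A) [IsMonHom ψ] [IsIso ψ]
  [IsAlgClosed k] [_root_.IsReduced A] [Algebra.FiniteType k A] [IsAffine G.left] [Smooth G.hom]
  [GrpObj H] [Smooth H.hom] (i : H ⟶ G) [IsMonHom i] [IsClosedImmersion i.left]

/-- every module of an observable subgroup maps equivariantly and injectively to finitely many copies
of the functions -/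
theorem exists_maps_of_observable (hobs : AGF.IsObservableIn k i) {V : Type u} [AddCommGroup V] [Module k V]
    [Module.Finite k V] (σ : VecGrp.GMod H V) :
    ∃ (κ : Type) (_ : Fintype κ) (_ : DecidableEq κ) (Φ : κ → V →ₗ[k] A), (∀ v, (∀ r, Φ r v = 0) → v = 0) ∧
      ∀ r (x : VecGrp.pt k k ⟶ G) (h : VecGrp.pt k k ⟶ H) (v : V),
        (ev ψ x).ofConv (Φ r (TensorProduct.lid k V (σ.ρ k h ((1 : k) ⊗ₜ[k] v)))) =
          (ev ψ (x * (h ≫ i))).ofConv (Φ r v) := by
  classical
  haveI : IsAffine H.left := isAffine_of_isAffineHom i.left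
  obtain ⟨A', _, _, ψ', _, _, _, _⟩ := exists_chart H
  obtain ⟨π, hπs, hπ⟩ := exists_res ψ ψ' i
  let act : (VecGrp.pt k k ⟶ H) → V → V := fun h v => TensorProduct.lid k V (σ.ρ k h ((1 : k) ⊗ₜ[k] v))
  -- coefficient functions
  let bV := Module.finBasis k V
  choose c hc using fun j => exists_modfun ψ' σ (bV.coord j)
  have hcR : ∀ j (h : VecGrp.pt k k ⟶ H) (v : V), Rt (ev ψ' h).ofConv (c j v) = c j (act h v) := fun j h v =>
    eq_of_forall_ev ψ' fun z => by
      rw [apply_Rt, ← ev_mul, hc, hc, map_mul, LinearEquiv.mul_apply]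
      congr 3
      simp only [act]
      generalize σ.ρ k h ((1 : k) ⊗ₜ[k] v) = w
      induction w using TensorProduct.induction_on with
      | zero => simp
      | add p q hp hq => rw [map_add, TensorProduct.tmul_add, ← hp, ← hq]
      | tmul r w => simp [TensorProduct.smul_tmul']
  have hπR : ∀ (h : VecGrp.pt k k ⟶ H) (a : A), π (Rt (ev ψ (h ≫ i)).ofConv a) = Rt (ev ψ' h).ofConv (π a) :=
    fun h a => eq_of_forall_ev ψ' fun z => by
      rw [hπ, apply_Rt, apply_Rt, ← ev_mul, ← ev_mul, hπ, MonObj.mul_comp]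
  let U : Submodule k A' := ⨆ j, LinearMap.range (c j)
  haveI : ∀ j, Module.Finite k (LinearMap.range (c j)) := fun j => Module.Finite.range _
  haveI : Module.Finite k U := inferInstanceAs (Module.Finite k (⨆ j, LinearMap.range (c j) : Submodule k A'))
  have hUR : ∀ (h : VecGrp.pt k k ⟶ H), ∀ u ∈ U, Rt (ev ψ' h).ofConv u ∈ U := by
    intro h u hu
    induction hu using Submodule.iSup_induction' with
    | mem j x hx =>
      obtain ⟨v, rfl⟩ := hx
      exact (hcR j h v).symm ▸ Submodule.mem_iSup_of_mem j ⟨_, rfl⟩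
    | zero => simp
    | add x y _ _ hx hy => rw [map_add]; exact add_mem hx hy
  -- a finite stable space of lifts
  let bU := Module.finBasis k U
  choose s hs using fun l => hπs (bU l : A')
  choose Us hUfin hUmem using fun a : A => exists_finite_rightTranslates (k := k) a
  let W₁ : Submodule k A := Submodule.span k (Set.range fun p : (VecGrp.pt k k ⟶ G) × _ => Rt (ev ψ p.1).ofConv (s p.2))
  have hW₁le : W₁ ≤ ⨆ l, Us (s l) := Submodule.span_le.2 (by
    rintro _ ⟨p, rfl⟩
    exact Submodule.mem_iSup_of_mem p.2 (hUmem _ _))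
  haveI : ∀ l, Module.Finite k (Us (s l)) := fun l => hUfin _
  haveI : Module.Finite k (⨆ l, Us (s l) : Submodule k A) := inferInstance
  haveI : Module.Finite k W₁ := Submodule.finiteDimensional_of_le hW₁le
  have hW₁R : ∀ (g : VecGrp.pt k k ⟶ G), ∀ w ∈ W₁, Rt (ev ψ g).ofConv w ∈ W₁ := by
    intro g w hw
    induction hw using Submodule.span_induction with
    | mem z hz =>
      obtain ⟨⟨g', l⟩, rfl⟩ := hz
      refine Submodule.subset_span ⟨(g * g', l), eq_of_forall_ev ψ fun x => ?_⟩
      simp only [apply_Rt, ← ev_mul, _root_.mul_assoc]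
    | zero => simp
    | add z w _ _ hz hw => rw [map_add]; exact add_mem hz hw
    | smul r z _ hz => rw [map_smul]; exact Submodule.smul_mem _ _ hz
  let W : Submodule k A := W₁ ⊓ U.comap π.toLinearMap
  have hWR : ∀ (h : VecGrp.pt k k ⟶ H), ∀ w ∈ W, Rt (ev ψ (h ≫ i)).ofConv w ∈ W := fun h w hw =>
    ⟨hW₁R _ w hw.1, show π _ ∈ U by rw [hπR]; exact hUR h _ hw.2⟩
  have hsW : ∀ l, s l ∈ W := fun l =>
    ⟨Submodule.subset_span ⟨(1, l), eq_of_forall_ev ψ fun x => by simp only [apply_Rt, ← ev_mul, _root_.mul_one]⟩,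
      show π (s l) ∈ U by rw [hs]; exact (bU l).2⟩
  let lift' : U →ₗ[k] A := bU.constr k s
  have hliftW : ∀ u, lift' u ∈ W := fun u => by
    rw [← bU.sum_repr u, map_sum]
    refine sum_mem fun l _ => ?_
    rw [map_smul, Module.Basis.constr_basis]
    exact Submodule.smul_mem _ _ (hsW l)
  have hπlift : ∀ u : U, π (lift' u) = u := fun u => by
    have e : π.toLinearMap ∘ₗ lift' = U.subtype := bU.ext fun l => by simp [lift', hs]
    exact LinearMap.congr_fun e u
  -- the kernel of the restriction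
  let N : Submodule k A := W ⊓ LinearMap.ker π.toLinearMap
  haveI : Module.Finite k W := Submodule.finiteDimensional_of_le inf_le_left
  haveI : Module.Finite k N := Submodule.finiteDimensional_of_le inf_le_left
  have hNR : ∀ (h : VecGrp.pt k k ⟶ H), ∀ w ∈ N, Rt (ev ψ (h ≫ i)).ofConv w ∈ N := fun h w hw =>
    ⟨hWR h w hw.1, show π _ = 0 by rw [hπR, show π w = 0 from hw.2, map_zero]⟩
  let RN : (VecGrp.pt k k ⟶ H) → Module.End k N := fun h =>
    ((Rt (ev ψ (h ≫ i)).ofConv).toLinearMap.restrict fun w hw => hNR h w hw)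
  let bN := Module.finBasis k N
  have hcoord : ∀ p, ∃ φ : A →ₗ[k] k, ∀ w : N, φ (w : A) = bN.coord p w := fun p => by
    obtain ⟨e, he⟩ := N.subtype.exists_leftInverse_of_injective N.ker_subtype
    exact ⟨bN.coord p ∘ₗ e, fun w => congrArg (bN.coord p) (LinearMap.congr_fun he w)⟩
  choose cp hcp using hcoord
  let C : Matrix _ _ A' := Matrix.of fun p l => π (Tc (cp p) (bN l : A))
  have hC : ∀ h : VecGrp.pt k k ⟶ H, ((ev ψ' h).ofConv).mapMatrix C = LinearMap.toMatrix bN bN (RN h) := fun h => by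
    ext p l
    rw [AlgHom.mapMatrix_apply, Matrix.map_apply, LinearMap.toMatrix_apply]
    show (ev ψ' h).ofConv (π (Tc (cp p) (bN l : A))) = _
    rw [hπ, apply_Tc, show Rt (ev ψ (h ≫ i)).ofConv (bN l : A) = ((RN h (bN l) : N) : A) from rfl, hcp]
    rfl
  have hδ : ∀ h : VecGrp.pt k k ⟶ H, (ev ψ' h).ofConv C.det = LinearMap.det (RN h) := fun h => by
    rw [AlgHom.map_det, hC, LinearMap.det_toMatrix]
  have hRN : ∀ h h' : VecGrp.pt k k ⟶ H, RN (h * h') = RN h * RN h' := fun h h' =>
    LinearMap.ext fun w => Subtype.ext (eq_of_forall_ev ψ fun x => by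
      show (ev ψ x).ofConv (Rt _ (w : A)) = (ev ψ x).ofConv (Rt _ (Rt _ (w : A)))
      rw [apply_Rt, apply_Rt, ← ev_mul, ← ev_mul, apply_Rt, ← ev_mul, MonObj.mul_comp, _root_.mul_assoc])
  have hRN1 : RN 1 = 1 := LinearMap.ext fun w => Subtype.ext (eq_of_forall_ev ψ fun x => by
      show (ev ψ x).ofConv (Rt _ (w : A)) = (ev ψ x).ofConv (w : A)
      rw [apply_Rt, ← ev_mul, MonObj.one_comp, _root_.mul_one])
  obtain ⟨χ, hχ, hχv⟩ := exists_char_of_fun (fn ψ' C.det)
    (by rw [val_fn, hδ, hRN1, map_one]) (fun z z' => by rw [val_fn, val_fn, val_fn, hδ, hδ, hδ, hRN, map_mul])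
  simp only [val_fn, hδ] at hχv
  -- determinants
  have hcol : ∀ (h : VecGrp.pt k k ⟶ H) (z : VecGrp.pt k k ⟶ G) l,
      (ev ψ (z * (h ≫ i))).ofConv (bN l : A) =
        ∑ p, (ev ψ z).ofConv (bN p : A) * LinearMap.toMatrix bN bN (RN h) p l := fun h z l => by
    rw [ev_mul, ← apply_Rt]
    show (ev ψ z).ofConv ((RN h (bN l) : N) : A) = _
    conv_lhs => rw [← bN.sum_repr (RN h (bN l))]
    rw [Submodule.coe_sum, map_sum]
    refine Finset.sum_congr rfl fun p _ => ?_
    rw [Submodule.coe_smul, map_smul, smul_eq_mul, mul_comm, LinearMap.toMatrix_apply]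
  obtain ⟨y₀, hy₀⟩ := exists_pts_det_ne_zero ψ (fun l => (bN l : A))
    (bN.linearIndependent.map' N.subtype N.ker_subtype)
  let D₀ : A := (Matrix.of fun m l => L (ev ψ (y₀ m)).ofConv (bN l : A)).det
  have hD₀v : ∀ x : VecGrp.pt k k ⟶ G,
      (ev ψ x).ofConv D₀ = (Matrix.of fun m l => (ev ψ (y₀ m * x)).ofConv (bN l : A)).det := fun x => by
    rw [AlgHom.map_det]
    congr 1
    ext m l
    simp [apply_L_pt, ev_mul]
  obtain ⟨f₀, hf₀0, hf₀⟩ := (observable_iff_semi ψ i).1 hobs χ hχ D₀
    (fun e => hy₀ (by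
      have := hD₀v 1
      rw [e, map_zero] at this
      simpa using this.symm))
    (fun x h => by
      rw [hD₀v, hD₀v, hχv, ← LinearMap.det_toMatrix bN, mul_comm, ← Matrix.det_mul]
      congr 1
      ext m l
      rw [Matrix.mul_apply, Matrix.of_apply, ← _root_.mul_assoc, hcol]
      rfl)
  obtain ⟨f', hf', hf'1⟩ := Semi.exists_normalized hf₀ hf₀0
  let d := Module.finrank k N
  let M : (Fin d ⊕ Unit → (VecGrp.pt k k ⟶ G)) → A → Matrix (Fin d ⊕ Unit) (Fin d ⊕ Unit) A := fun y w =>
    Matrix.of fun m l => L (ev ψ (y m)).ofConv (Sum.elim (fun p => (bN p : A)) (fun _ => w) l)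
  have hMadd : ∀ y w w', (M y (w + w')).det = (M y w).det + (M y w').det := fun y w w' => by
    have e : ∀ w, M y w = (M y 0).updateCol (Sum.inr ()) (fun m => L (ev ψ (y m)).ofConv w) := fun w => by
      ext m (l | l) <;> simp [M]
    rw [e, e w, e w', ← Matrix.det_updateCol_add]
    simp only [map_add]
    rfl
  have hMsmul : ∀ y (r : k) w, (M y (r • w)).det = r • (M y w).det := fun y r w => by
    have e : ∀ w, M y w = (M y 0).updateCol (Sum.inr ()) (fun m => L (ev ψ (y m)).ofConv w) := fun w => by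
      ext m (l | l) <;> simp [M]
    rw [e, e w, Algebra.smul_def r (Matrix.det _), ← Matrix.det_updateCol_smul]
    congr 2
    funext m
    show L (ev ψ (y m)).ofConv (r • w) = algebraMap k A r * L (ev ψ (y m)).ofConv w
    rw [map_smul, Algebra.smul_def]
  let D : (Fin d ⊕ Unit → (VecGrp.pt k k ⟶ G)) → A →ₗ[k] A := fun y =>
    { toFun := fun w => (M y w).det, map_add' := hMadd y, map_smul' := hMsmul y }
  have hDN : ∀ y, ∀ w ∈ N, D y w = 0 := fun y w hw => by
    have e : D y ∘ₗ N.subtype = 0 := bN.ext fun p => by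
      show (M y (bN p : A)).det = 0
      exact Matrix.det_zero_of_column_eq (i := Sum.inl p) (j := Sum.inr ()) Sum.inl_ne_inr fun m => by simp [M]
    exact LinearMap.congr_fun e ⟨w, hw⟩
  have hDv : ∀ y w (x : VecGrp.pt k k ⟶ G), (ev ψ x).ofConv (D y w) = (Matrix.of fun m l =>
      (ev ψ (y m * x)).ofConv (Sum.elim (fun p => (bN p : A)) (fun _ => w) l)).det := fun y w x => by
    show (ev ψ x).ofConv (M y w).det = _
    rw [AlgHom.map_det]
    congr 1
    ext m l
    simp [M, apply_L_pt, ev_mul]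
  have hDR : ∀ y w (x : VecGrp.pt k k ⟶ G) (h : VecGrp.pt k k ⟶ H),
      (ev ψ (x * (h ≫ i))).ofConv (D y w) =
        LinearMap.det (RN h) * (ev ψ x).ofConv (D y (Rt (ev ψ (h ≫ i)).ofConv w)) := fun y w x h => by
    have e3 : (Matrix.fromBlocks (LinearMap.toMatrix bN bN (RN h)) 0 0 (1 : Matrix Unit Unit k)).det =
        LinearMap.det (RN h) := by
      rw [Matrix.det_fromBlocks_zero₂₁, Matrix.det_one, _root_.mul_one, LinearMap.det_toMatrix]
    rw [hDv, hDv, ← e3, mul_comm, ← Matrix.det_mul]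
    congr 1
    ext m (l | l)
    · rw [Matrix.mul_apply, Matrix.of_apply, Fintype.sum_sum_type, ← _root_.mul_assoc]
      simp only [Sum.elim_inl, Matrix.fromBlocks_apply₁₁, Matrix.fromBlocks_apply₂₁, Matrix.zero_apply, mul_zero,
        Finset.sum_const_zero, add_zero, Matrix.of_apply]
      exact hcol h _ l
    · rw [Matrix.mul_apply, Matrix.of_apply, Fintype.sum_sum_type, ← _root_.mul_assoc, ev_mul, ← apply_Rt]
      simp
  let cU : ∀ j, V →ₗ[k] U := fun j => (c j).codRestrict U fun v => Submodule.mem_iSup_of_mem j ⟨v, rfl⟩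
  let Φ : (Fin d ⊕ Unit → (VecGrp.pt k k ⟶ G)) × _ → V →ₗ[k] A := fun r =>
    LinearMap.mulRight k f' ∘ₗ D r.1 ∘ₗ lift' ∘ₗ cU r.2
  have heq : ∀ r (x : VecGrp.pt k k ⟶ G) (h : VecGrp.pt k k ⟶ H) (v : V),
      (ev ψ x).ofConv (Φ r (act h v)) = (ev ψ (x * (h ≫ i))).ofConv (Φ r v) := by
    intro r x h v
    obtain ⟨hne, hinv⟩ := chiVal_inv_eq χ h
    rw [hχv] at hne hinv
    show (ev ψ x).ofConv (D r.1 (lift' (cU r.2 (act h v))) * f') =
      (ev ψ (x * (h ≫ i))).ofConv (D r.1 (lift' (cU r.2 v)) * f')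
    rw [map_mul, map_mul, hf', hinv, hDR]
    have e : D r.1 (lift' (cU r.2 (act h v))) = D r.1 (Rt (ev ψ (h ≫ i)).ofConv (lift' (cU r.2 v))) := by
      refine sub_eq_zero.1 (by
        rw [← map_sub]
        refine hDN _ _ ⟨sub_mem (hliftW _) (hWR h _ (hliftW _)), ?_⟩
        show π _ = 0
        rw [map_sub, hπR, hπlift, hπlift, sub_eq_zero]
        exact (hcR _ h v).symm)
    rw [e]
    field_simp
  -- finitely many detect every vector
  let S : Set (Module.Dual k V) := Set.range fun r => ((ev ψ (1 : VecGrp.pt k k ⟶ G)).ofConv).toLinearMap ∘ₗ Φ r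
  obtain ⟨T, hTS, hT⟩ := Submodule.fg_span_iff_fg_span_finset_subset S |>.1 (IsNoetherian.noetherian (Submodule.span k S))
  choose r hr using fun t : T => hTS t.2
  refine ⟨Fin T.card, inferInstance, inferInstance, fun t => Φ (r (T.equivFin.symm t)), fun v hv => ?_,
    fun t x h v => heq _ x h v⟩
  have hS : ∀ φ ∈ S, φ v = 0 := by
    intro φ hφ
    have hle : Submodule.span k S ≤ LinearMap.ker (Module.Dual.eval k V v) := hT.le.trans (Submodule.span_le.2
      fun t ht => by
        show t v = 0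
        have h1 := hv (T.equivFin ⟨t, ht⟩)
        simp only [Equiv.symm_apply_apply] at h1
        rw [show t = _ from (hr ⟨t, ht⟩).symm]
        show (ev ψ _).ofConv _ = 0
        rw [h1, map_zero])
    exact hle (Submodule.subset_span hφ)
  have hcz : ∀ j, c j v = 0 := by
    intro j
    by_contra hne
    have hwN : lift' (cU j v) ∉ N := fun hm => hne (by
      have := hπlift (cU j v)
      rw [show π (lift' (cU j v)) = 0 from hm.2] at this
      exact this.symm)
    have hli : LinearIndependent k (Sum.elim (fun p => (bN p : A)) fun _ : Unit => lift' (cU j v)) := by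
      refine LinearIndependent.sum_type (bN.linearIndependent.map' N.subtype N.ker_subtype)
        (linearIndependent_unique_iff.2 fun e => hwN (e ▸ N.zero_mem)) ?_
      rw [Set.range_const, Submodule.disjoint_span_singleton]
      intro hmem
      refine absurd (Submodule.span_le.2 ?_ hmem) hwN
      rintro _ ⟨p, rfl⟩
      exact (bN p).2
    let q := (finSumFinEquiv (m := d) (n := 1)).symm.trans (Equiv.sumCongr (Equiv.refl _) (Equiv.ofUnique (Fin 1) Unit))
    obtain ⟨y, hy⟩ := exists_pts_det_ne_zero ψ _ (hli.comp q q.injective)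
    apply hy
    have h1 := hS _ ⟨(fun m => y (q.symm m), j), rfl⟩
    change (ev ψ (1 : VecGrp.pt k k ⟶ G)).ofConv (D _ (lift' (cU j v)) * f') = 0 at h1
    rw [map_mul, hf'1, _root_.mul_one, hDv, ← Matrix.det_submatrix_equiv_self q] at h1
    refine Eq.trans ?_ h1
    congr 1
    ext m l
    simp
  refine bV.forall_coord_eq_zero_iff.1 fun j => ?_
  have h1 := congrArg (ev ψ' (1 : VecGrp.pt k k ⟶ H)).ofConv (hcz j)
  rw [hc, map_one, map_zero] at h1
  simpa using h1

end Groth.L25.Observable
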