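import Groth.Agent.L25.Observable.Stab
import Groth.Agent.L15.MuGL.Pts
import Groth.Agent.L19.AlgGrpBasic.NatMor
import Mathlib.RingTheory.RingHom.Smooth

/-!
# A matrix representation separates the points outside an epimorphic subgroup
-/

set_option autoImplicit false
set_option backward.isDefEq.respectTransparency.types false

universe u

open CategoryTheory CategoryTheory.Limits MonoidalCategory CartesianMonoidalCategory MonObj AlgebraicGeometry
open scoped TensorProduct
open WithConv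

noncomputable section

namespace Groth.L25.Observable

variable {k : Type u} [Field k]

theorem smooth_GLn (n : ℕ) : Smooth (CoactBr.sp k (CoordGrp.GLn n k)).hom := by
  haveI : Algebra.FiniteType k (CoordGrp.GLb n k) :=
    inferInstanceAs (Algebra.FiniteType k (MvPolynomial (CoordGrp.GLPoly.Idx n) k))
  haveI : Algebra.FiniteType k (CoordGrp.GLn n k) :=
    Algebra.FiniteType.of_surjective (CoordGrp.GLn.mk n k) Ideal.Quotient.mk_surjective
  haveI : Algebra.FinitePresentation k (CoordGrp.GLn n k) := Algebra.FinitePresentation.of_finiteType.1 inferInstance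
  haveI : Algebra.FormallySmooth k (CoordGrp.GLn n k) := by
    refine Algebra.FormallySmooth.of_comp_surjective fun B _ _ I hI φ => ?_
    obtain ⟨X, rfl⟩ := Groth.L15.MuGL.glHom_surjective k n φ
    let M : Matrix (Fin n) (Fin n) B := fun i j => (Ideal.Quotient.mk_surjective ((X : Matrix (Fin n) (Fin n) (B ⧸ I)) i j)).choose
    have hM : (Ideal.Quotient.mkₐ k I).mapMatrix M = X := by
      ext i j
      exact (Ideal.Quotient.mk_surjective ((X : Matrix (Fin n) (Fin n) (B ⧸ I)) i j)).choose_spec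
    have hdet : IsUnit M.det := by
      have h := X.isUnit.map (Matrix.detMonoidHom (n := Fin n) (R := B ⧸ I))
      simp only [Matrix.detMonoidHom, MonoidHom.coe_mk, OneHom.coe_mk, ← hM, ← AlgHom.map_det] at h
      obtain ⟨y, hy⟩ := h.exists_right_inv
      obtain ⟨c, rfl⟩ := Ideal.Quotient.mk_surjective y
      have hmem : M.det * c - 1 ∈ I := by
        rw [← Ideal.Quotient.eq_zero_iff_mem, map_sub, map_mul, map_one, sub_eq_zero]
        exact hy
      have hsq : (M.det * c - 1) * (M.det * c - 1) = 0 := by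
        rw [← Ideal.mem_bot, ← hI, pow_two]
        exact Ideal.mul_mem_mul hmem hmem
      exact IsUnit.of_mul_eq_one (c * (2 - M.det * c)) (by linear_combination -hsq)
    refine ⟨Groth.L15.MuGL.glHom k n (M.nonsingInvUnit hdet), ?_⟩
    refine CoordGrp.GLn.algHom_ext (fun i j => ?_) ?_
    · simp only [AlgHom.comp_apply, Groth.L15.MuGL.glHom, CoordGrp.GLn.pt_X]
      exact congrFun (congrFun hM i) j
    · simp only [AlgHom.comp_apply, Groth.L15.MuGL.glHom, CoordGrp.GLn.pt_Dinv]
      have e : Units.map ((Ideal.Quotient.mkₐ k I).mapMatrix : Matrix (Fin n) (Fin n) B →ₐ[k] _).toMonoidHom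
          (M.nonsingInvUnit hdet) = X := Units.ext hM
      exact (((Ideal.Quotient.mkₐ k I).map_det _)).trans (by rw [← e]; rfl)
  haveI : Algebra.Smooth k (CoordGrp.GLn n k) := ⟨inferInstance, inferInstance⟩
  show Smooth (Spec.map (CommRingCat.ofHom (algebraMap k (CoordGrp.GLn n k))))
  rw [HasRingHomProperty.Spec_iff (P := @Smooth), CommRingCat.hom_ofHom, RingHom.smooth_algebraMap]
  infer_instance

variable {A : Type u} [CommRing A] [HopfAlgebra k A]
  {G H : Over (Spec (CommRingCat.of k))} (ψ : G ⟶ Sp k A) [GrpObj G] [GrpObj H] [IsMonHom ψ]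

theorem ev_ptMap {B B' : Type u} [CommRing B] [Algebra k B] [CommRing B'] [Algebra k B'] (φ : B →ₐ[k] B')
    (g : VecGrp.pt k B ⟶ G) : ev ψ (VecGrp.ptMap φ ≫ g) = toConv (φ.comp (ev ψ g).ofConv) := by
  rw [ev, ev, Category.assoc]
  exact ComodGMod.hom_comp φ (g ≫ ψ)

open Groth.L08.Chevalley in
/-- the matrices of the points -/
theorem mat_mul {n : Type} [Fintype n] [DecidableEq n] {a : n → n → A} (h : IsComatrix (k := k) a)
    {B : Type u} [CommRing B] [Algebra k B] (g g' : VecGrp.pt k B ⟶ G) :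
    mat a (ev ψ (g * g')).ofConv = mat a (ev ψ g).ofConv * mat a (ev ψ g').ofConv := by
  ext i j
  rw [ev_mul, Matrix.mul_apply]
  simp only [mat, Matrix.of_apply, AlgHom.convMul_apply, h.comul_eq, map_sum, Algebra.TensorProduct.lift_tmul]

open Groth.L08.Chevalley in
theorem mat_one {n : Type} [Fintype n] [DecidableEq n] {a : n → n → A} (h : IsComatrix (k := k) a)
    {B : Type u} [CommRing B] [Algebra k B] :
    mat a (ev ψ (1 : VecGrp.pt k B ⟶ G)).ofConv = 1 := by
  ext i j
  rw [ev_one, mat, Matrix.of_apply, AlgHom.convOne_apply, h.counit_eq, Matrix.one_apply]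
  split_ifs <;> simp

open Groth.L08.Chevalley in
/-- two homomorphisms to `GL_n`: a matrix representation and its conjugate by a constant matrix -/
theorem exists_conjugate_homs {n : ℕ} {a : Fin n → Fin n → A} (h : IsComatrix (k := k) a)
    (U : (Matrix (Fin n) (Fin n) k)ˣ) :
    ∃ r s : G ⟶ CoactBr.sp k (CoordGrp.GLn n k), IsMonHom r ∧ IsMonHom s ∧
      ∀ g : VecGrp.pt k k ⟶ G, g ≫ r = g ≫ s ↔
        (U : Matrix (Fin n) (Fin n) k) * mat a (ev ψ g).ofConv = mat a (ev ψ g).ofConv * U := by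
  let L := Groth.L15.MuGL.glPtsSp k n
  let M : ∀ (B : Type u) [CommRing B] [Algebra k B],
      (VecGrp.pt k B ⟶ G) →* (Matrix (Fin n) (Fin n) B)ˣ := fun B _ _ =>
    MonoidHom.toHomUnits
      { toFun := fun g => mat a (ev ψ g).ofConv
        map_one' := mat_one ψ h
        map_mul' := mat_mul ψ h }
  let U' : ∀ (B : Type u) [CommRing B] [Algebra k B], (Matrix (Fin n) (Fin n) B)ˣ := fun B _ _ =>
    Units.map ((Algebra.ofId k B).mapMatrix : Matrix (Fin n) (Fin n) k →ₐ[k] _).toMonoidHom U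
  have hnat : ∀ {B B' : Type u} [CommRing B] [Algebra k B] [CommRing B'] [Algebra k B'] (φ : B →ₐ[k] B')
      (g : VecGrp.pt k B ⟶ G), M B' (VecGrp.ptMap φ ≫ g) =
        Units.map (φ.mapMatrix : Matrix (Fin n) (Fin n) B →ₐ[k] _).toMonoidHom (M B g) := by
    intro B B' _ _ _ _ φ g
    refine Units.ext (Matrix.ext fun i j => ?_)
    show (ev ψ (VecGrp.ptMap φ ≫ g)).ofConv (a i j) = φ ((ev ψ g).ofConv (a i j))
    rw [ev_ptMap]
    rfl
  have hU : ∀ {B B' : Type u} [CommRing B] [Algebra k B] [CommRing B'] [Algebra k B'] (φ : B →ₐ[k] B'),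
      Units.map (φ.mapMatrix : Matrix (Fin n) (Fin n) B →ₐ[k] _).toMonoidHom (U' B) = U' B' := by
    intro B B' _ _ _ _ φ
    refine Units.ext (Matrix.ext fun i j => ?_)
    exact φ.commutes _
  obtain ⟨r, hr⟩ := Groth.L19.AlgGrpBasic.exists_hom_of_natural (G := G) (T := CoactBr.sp k (CoordGrp.GLn n k))
    (fun B _ _ g => L.pt B (M B g)) (fun φ g => by
      have e := L.natural φ (M _ g)
      rw [← hnat] at e
      exact e)
  obtain ⟨s, hs⟩ := Groth.L19.AlgGrpBasic.exists_hom_of_natural (G := G) (T := CoactBr.sp k (CoordGrp.GLn n k))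
    (fun B _ _ g => L.pt B (U' B * M B g * (U' B)⁻¹)) (fun φ g => by
      have e := L.natural φ (U' _ * M _ g * (U' _)⁻¹)
      have hc : Units.map (φ.mapMatrix : Matrix (Fin n) (Fin n) _ →ₐ[k] _).toMonoidHom (U' _ * M _ g * (U' _)⁻¹) =
          U' _ * M _ (VecGrp.ptMap φ ≫ g) * (U' _)⁻¹ := by rw [map_mul, map_mul, map_inv, ← hnat, hU]
      rw [hc] at e
      exact e)
  refine ⟨r, s, Groth.L19.AlgGrpBasic.isMonHom_of_affinePoints r fun B _ _ x y => ?_,
    Groth.L19.AlgGrpBasic.isMonHom_of_affinePoints s fun B _ _ x y => ?_, fun g => ?_⟩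
  · rw [hr, hr, hr, map_mul]; exact map_mul (L.pt B) _ _
  · rw [hs, hs, hs, show U' B * M B (x * y) * (U' B)⁻¹ =
      (U' B * M B x * (U' B)⁻¹) * (U' B * M B y * (U' B)⁻¹) by rw [map_mul]; group]
    exact map_mul (L.pt B) _ _
  · rw [hr, hs]
    refine (L.pt k).injective.eq_iff.trans ?_
    rw [eq_mul_inv_iff_mul_eq, eq_comm, Units.ext_iff, Units.val_mul, Units.val_mul]
    have e : ((U' k : (Matrix (Fin n) (Fin n) k)ˣ) : Matrix (Fin n) (Fin n) k) = U := Matrix.ext fun i j => rfl
    rw [e]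
    exact Iff.rfl

end Groth.L25.Observable

namespace Groth.L25.Observable

variable {k : Type u} [Field k]

/-- morphisms from a smooth affine scheme to an affine scheme agreeing at rational points are equal -/
theorem hom_ext_pts [IsAlgClosed k] {X Y : Over (Spec (CommRingCat.of k))} [IsAffine X.left] [Smooth X.hom]
    [IsAffine Y.left] {f g : X ⟶ Y} (h : ∀ γ : VecGrp.pt k k ⟶ X, γ ≫ f = γ ≫ g) : f = g := by
  refine Over.OverMorphism.ext (ext_of_isAffine (CommRingCat.hom_ext (RingHom.ext fun y => ?_)))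
  refine eq_of_forall_val fun γ => ?_
  show val γ (f.left.appTop y) = val γ (g.left.appTop y)
  rw [← val_comp, ← val_comp, h γ]

/-- a vector fixed by the rational points of a smooth affine group is fixed by all its points -/
theorem mem_fixedUnder_of_pts [IsAlgClosed k] {G H : Over (Spec (CommRingCat.of k))} [GrpObj G] [GrpObj H]
    [IsAffine H.left] [Smooth H.hom] (i : H ⟶ G) {V : Type u} [AddCommGroup V] [Module k V] [Module.Finite k V]
    (m : VecGrp.GMod G V) (v : V)
    (hv : ∀ γ : VecGrp.pt k k ⟶ H, m.ρ k (γ ≫ i) ((1 : k) ⊗ₜ[k] v) = (1 : k) ⊗ₜ[k] v) :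
    v ∈ m.fixedUnder i := by
  intro B _ _ h
  obtain ⟨_, gen, _, hgen, hfac⟩ := exists_gen H
  have h0 : m.ρ _ (gen ≫ i) ((1 : Γ(H.left, ⊤)) ⊗ₜ[k] v) = (1 : Γ(H.left, ⊤)) ⊗ₜ[k] v := by
    let b := Module.finBasis k V
    refine (b.baseChange Γ(H.left, ⊤)).repr.injective (Finsupp.ext fun j => hgen _ _ ?_)
    congr 1
    refine eq_of_forall_val fun γ => ?_
    obtain ⟨φ, hφ, hval⟩ := hfac k γ
    rw [← hval, ← hval]
    have key : ∀ z : Γ(H.left, ⊤) ⊗[k] V, φ ((b.baseChange Γ(H.left, ⊤)).repr z j) =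
        (b.baseChange k).repr (VecGrp.Wmap φ z) j := by
      intro z
      induction z using TensorProduct.induction_on with
      | zero => simp
      | add x y hx hy => simp only [map_add, Finsupp.add_apply, hx, hy]
      | tmul c w => simp [VecGrp.Wmap, mul_comm]
    rw [key, key, m.naturality, ← Category.assoc, hφ,
      show VecGrp.Wmap φ ((1 : Γ(H.left, ⊤)) ⊗ₜ[k] v) = (1 : k) ⊗ₜ[k] v by simp [VecGrp.Wmap], hv γ]
  obtain ⟨φ, hφ, -⟩ := hfac B h
  have h1 := congrArg (VecGrp.Wmap φ) h0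
  rw [m.naturality, ← Category.assoc, hφ,
    show VecGrp.Wmap φ ((1 : Γ(H.left, ⊤)) ⊗ₜ[k] v) = (1 : B) ⊗ₜ[k] v by simp [VecGrp.Wmap]] at h1
  exact h1

open Groth.L08.Chevalley in
/-- an element of the coordinate ring as a vector in a matrix representation -/
theorem exists_rep {G : Over (Spec (CommRingCat.of k))} [GrpObj G] {A : Type u} [CommRing A] [HopfAlgebra k A]
    (ψ : G ⟶ Sp k A) [IsMonHom ψ] [IsIso ψ] [IsAlgClosed k] [Algebra.FiniteType k A] [_root_.IsReduced A] (c : A) :
    ∃ (d : ℕ) (a : Fin d → Fin d → A) (x : Fin d → k), IsComatrix (k := k) a ∧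
      ∀ g : VecGrp.pt k k ⟶ G, (∀ i, ∑ j, x j • (ev ψ g).ofConv (a i j) = x i) ↔
        ∀ y : VecGrp.pt k k ⟶ G, (ev ψ (y * g)).ofConv c = (ev ψ y).ofConv c := by
  classical
  obtain ⟨d, b, a, ha, hΔ, hli, hb⟩ := exists_comatrix (k := k) {c}
  obtain ⟨x, hx⟩ := hb c (Finset.mem_singleton_self c)
  refine ⟨d, a, x, ha, fun g => ?_⟩
  have hev : ∀ (y : VecGrp.pt k k ⟶ G),
      (ev ψ (y * g)).ofConv (∑ j, x j • b j) =
        (ev ψ y).ofConv (∑ i, (∑ j, x j • (ev ψ g).ofConv (a i j)) • b i) := by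
    intro y
    rw [ev_mul, map_sum, map_sum]
    simp only [map_smul, AlgHom.convMul_apply, hΔ, map_sum, Algebra.TensorProduct.lift_tmul,
      Finset.sum_smul, smul_eq_mul, Finset.mul_sum]
    rw [Finset.sum_comm]
    refine Finset.sum_congr rfl fun i _ => Finset.sum_congr rfl fun j _ => ?_
    ring
  constructor
  · intro h y
    rw [hx, hev]
    simp only [h]
  · intro hg
    have h0 : (∑ i, (∑ j, x j • (ev ψ g).ofConv (a i j)) • b i) = c := by
      refine eq_of_sub_eq_zero (GeomIrred.eq_zero_of_forall_algHom (k := k) _ fun φ => ?_)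
      obtain ⟨y, hy⟩ := ev_surjective ψ (toConv φ)
      have := hev y
      rw [← hx, hg y, hy] at this
      rw [map_sub, sub_eq_zero]
      exact this.symm
    conv_rhs at h0 => rw [hx]
    exact fun i => Fintype.linearIndependent_iff.1 hli
      (fun i => (∑ j, x j • (ev ψ g).ofConv (a i j)) - x i)
      (by simp only [sub_smul, Finset.sum_sub_distrib, h0, sub_self]) i |> sub_eq_zero.1

end Groth.L25.Observable
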