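import Groth.Agent.L25.Observable.Regular
import Groth.Prelude.Def_W4bk4grossh1223Act

/-!
# Restriction and tensor product of actions on algebras
-/

set_option autoImplicit false
set_option backward.isDefEq.respectTransparency.types false
set_option maxHeartbeats 1000000

universe u

open CategoryTheory MonoidalCategory CartesianMonoidalCategory MonObj AlgebraicGeometry
open scoped TensorProduct

noncomputable section

namespace Groth.L25.Observable

variable {k : Type u} [Field k]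

/-- invariance under a smooth affine group can be checked on rational points -/
theorem mem_fixedUnder_of_pts' [IsAlgClosed k] {G H : Over (Spec (CommRingCat.of k))} [GrpObj G] [GrpObj H]
    [IsAffine H.left] [Smooth H.hom] (i : H ⟶ G) {V : Type u} [AddCommGroup V] [Module k V]
    (m : VecGrp.GMod G V) (v : V)
    (hv : ∀ γ : VecGrp.pt k k ⟶ H, m.ρ k (γ ≫ i) ((1 : k) ⊗ₜ[k] v) = (1 : k) ⊗ₜ[k] v) :
    v ∈ m.fixedUnder i := by
  intro B _ _ h
  obtain ⟨alg, gen, _, hgen, hfac⟩ := exists_gen H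
  letI := alg
  have h0 : m.ρ _ (gen ≫ i) ((1 : Γ(H.left, ⊤)) ⊗ₜ[k] v) = (1 : Γ(H.left, ⊤)) ⊗ₜ[k] v := by
    let b := Module.Free.chooseBasis k V
    refine (b.baseChange Γ(H.left, ⊤)).repr.injective (Finsupp.ext fun j => hgen _ _ ?_)
    congr 1
    refine eq_of_forall_val fun γ => ?_
    obtain ⟨φ, hφ, hval⟩ := hfac k γ
    rw [← hval, ← hval]
    have key : ∀ z : Γ(H.left, ⊤) ⊗[k] V, φ ((b.baseChange Γ(H.left, ⊤)).repr z j) =
        (b.baseChange k).repr (VecGrp.Wmap φ z) j := by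
      intro z
      induction z using TensorProduct.induction_on with
      | zero => simp
      | add x y hx hy => simp only [map_add, Finsupp.add_apply, hx, hy]
      | tmul c w => simp [VecGrp.Wmap, mul_comm]
    rw [key, key, m.naturality, ← Category.assoc, hφ,
      show VecGrp.Wmap φ ((1 : Γ(H.left, ⊤)) ⊗ₜ[k] v) = (1 : k) ⊗ₜ[k] v by simp [VecGrp.Wmap], hv γ]
  obtain ⟨φ, hφ, -⟩ := hfac B h
  have h1 := congrArg (VecGrp.Wmap φ) h0
  rw [m.naturality, ← Category.assoc, hφ,
    show VecGrp.Wmap φ ((1 : Γ(H.left, ⊤)) ⊗ₜ[k] v) = (1 : B) ⊗ₜ[k] v by simp [VecGrp.Wmap]] at h1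
  exact h1

variable {G : Over (Spec (CommRingCat.of k))} [GrpObj G]

/-- a stable subspace is a module -/
theorem exists_restrict {V : Type u} [AddCommGroup V] [Module k V] (m : VecGrp.GMod G V) (W : Submodule k V)
    (hW : m.IsStable (𝟙 G) W) :
    ∃ mW : VecGrp.GMod G W, ∀ (B : Type u) [CommRing B] [Algebra k B] (g : VecGrp.pt k B ⟶ G) (x : B ⊗[k] W),
      W.subtype.baseChange B (mW.ρ B g x) = m.ρ B g (W.subtype.baseChange B x) := by
  classical
  have hmem : ∀ (B : Type u) [CommRing B] [Algebra k B] (g : VecGrp.pt k B ⟶ G) (x : B ⊗[k] W),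
      ∃ y, W.subtype.baseChange B y = m.ρ B g (W.subtype.baseChange B x) := by
    intro B _ _ g x
    induction x using TensorProduct.induction_on with
    | zero => exact ⟨0, by simp⟩
    | add p q hp hq =>
      obtain ⟨y, hy⟩ := hp
      obtain ⟨z, hz⟩ := hq
      exact ⟨y + z, by simp only [map_add, hy, hz]⟩
    | tmul b w =>
      have h := hW B g (w : V) w.2
      rw [Category.comp_id] at h
      obtain ⟨y, hy⟩ := h
      exact ⟨b • y, by
        rw [map_smul, hy, LinearMap.baseChange_tmul, Submodule.subtype_apply, ← map_smul, TensorProduct.smul_tmul',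
          smul_eq_mul, _root_.mul_one]⟩
  choose f hf using hmem
  have hinj : ∀ (B : Type u) [CommRing B] [Algebra k B], Function.Injective (W.subtype.baseChange B) := fun B _ _ =>
    Module.Flat.lTensor_preserves_injective_linearMap (M := B) W.subtype Subtype.val_injective
  let act : ∀ (B : Type u) [CommRing B] [Algebra k B],
      (VecGrp.pt k B ⟶ G) →* ((B ⊗[k] W) ≃ₗ[B] (B ⊗[k] W)) := fun B _ _ =>
    MonoidHom.mk' (fun g =>
      { toFun := f B g
        invFun := f B g⁻¹
        map_add' := fun x y => hinj B (by simp only [map_add, hf])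
        map_smul' := fun c x => hinj B (by simp only [map_smul, hf, RingHom.id_apply])
        left_inv := fun x => hinj B (by rw [hf, hf, ← LinearEquiv.mul_apply, ← map_mul, inv_mul_cancel, map_one]; rfl)
        right_inv := fun x => hinj B (by
          rw [hf, hf, ← LinearEquiv.mul_apply, ← map_mul, mul_inv_cancel, map_one]; rfl) })
      fun g g' => LinearEquiv.ext fun x => hinj B (by
        show W.subtype.baseChange B (f B (g * g') x) = W.subtype.baseChange B (f B g (f B g' x))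
        rw [hf, hf, hf, map_mul]; rfl)
  refine ⟨⟨act, fun {B B'} _ _ _ _ φ g x => hinj B' ?_⟩, fun B _ _ g x => hf B g x⟩
  have key : ∀ z : B ⊗[k] W, W.subtype.baseChange B' (VecGrp.Wmap φ z) = VecGrp.Wmap φ (W.subtype.baseChange B z) := by
    intro z
    induction z using TensorProduct.induction_on with
    | zero => simp
    | add p q hp hq => simp only [map_add, hp, hq]
    | tmul b w => simp [VecGrp.Wmap]
  show W.subtype.baseChange B' (VecGrp.Wmap φ (f B g x)) = W.subtype.baseChange B' (f B' _ (VecGrp.Wmap φ x))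
  rw [key, hf, hf, m.naturality, key]

variable {A C : Type u} [CommRing A] [Algebra k A] [CommRing C] [Algebra k C]

/-- the action of a point as an algebra map -/
def actHom (ρ : VecGrp.GMod G A) (hρ : ρ.IsMult) {B : Type u} [CommRing B] [Algebra k B]
    (g : VecGrp.pt k B ⟶ G) : B ⊗[k] A →ₐ[B] B ⊗[k] A :=
  AlgHom.ofLinearMap (ρ.ρ B g).toLinearMap (hρ B g).2 fun x y => (hρ B g).1 x y

theorem actHom_apply (ρ : VecGrp.GMod G A) (hρ : ρ.IsMult) {B : Type u} [CommRing B] [Algebra k B]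
    (g : VecGrp.pt k B ⟶ G) (x : B ⊗[k] A) : actHom ρ hρ g x = ρ.ρ B g x := rfl

/-- the tensor product of two actions by algebra automorphisms -/
theorem exists_tensor (ρA : VecGrp.GMod G A) (hA : ρA.IsMult) (ρC : VecGrp.GMod G C) (hC : ρC.IsMult) :
    ∃ ρ : VecGrp.GMod G (A ⊗[k] C), ρ.IsMult ∧ ∀ (B : Type u) [CommRing B] [Algebra k B] (g : VecGrp.pt k B ⟶ G) (a : A) (c : C),
      ρ.ρ B g ((1 : B) ⊗ₜ[k] (a ⊗ₜ[k] c)) =
        Algebra.TensorProduct.map (AlgHom.id B B) (Algebra.TensorProduct.includeLeft : A →ₐ[k] A ⊗[k] C)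
          (ρA.ρ B g ((1 : B) ⊗ₜ[k] a)) *
        Algebra.TensorProduct.map (AlgHom.id B B) (Algebra.TensorProduct.includeRight : C →ₐ[k] A ⊗[k] C)
          (ρC.ρ B g ((1 : B) ⊗ₜ[k] c)) := by
  let iA : ∀ (B : Type u) [CommRing B] [Algebra k B], B ⊗[k] A →ₐ[B] B ⊗[k] (A ⊗[k] C) := fun B _ _ =>
    Algebra.TensorProduct.map (AlgHom.id B B) Algebra.TensorProduct.includeLeft
  let iC : ∀ (B : Type u) [CommRing B] [Algebra k B], B ⊗[k] C →ₐ[B] B ⊗[k] (A ⊗[k] C) := fun B _ _ =>
    Algebra.TensorProduct.map (AlgHom.id B B) Algebra.TensorProduct.includeRight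
  let Φ : ∀ (B : Type u) [CommRing B] [Algebra k B] (g : VecGrp.pt k B ⟶ G),
      B ⊗[k] (A ⊗[k] C) →ₐ[B] B ⊗[k] (A ⊗[k] C) := fun B _ _ g =>
    Algebra.TensorProduct.lift (Algebra.ofId B _)
      (Algebra.TensorProduct.lift
        ((((iA B).comp (actHom ρA hA g)).restrictScalars k).comp Algebra.TensorProduct.includeRight)
        ((((iC B).comp (actHom ρC hC g)).restrictScalars k).comp Algebra.TensorProduct.includeRight)
        fun _ _ => Commute.all _ _)
      fun _ _ => Commute.all _ _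
  have hΦ : ∀ (B : Type u) [CommRing B] [Algebra k B] (g : VecGrp.pt k B ⟶ G) (a : A) (c : C),
      Φ B g ((1 : B) ⊗ₜ[k] (a ⊗ₜ[k] c)) =
        iA B (ρA.ρ B g ((1 : B) ⊗ₜ[k] a)) * iC B (ρC.ρ B g ((1 : B) ⊗ₜ[k] c)) := fun B _ _ g a c => by
    simp [Φ, actHom_apply, ← Algebra.TensorProduct.one_def]
  have hΦA : ∀ (B : Type u) [CommRing B] [Algebra k B] (g : VecGrp.pt k B ⟶ G) (x : B ⊗[k] A),
      Φ B g (iA B x) = iA B (ρA.ρ B g x) := by
    intro B _ _ g x
    induction x using TensorProduct.induction_on with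
    | zero => simp
    | add p q hp hq => simp only [map_add, hp, hq]
    | tmul b a =>
      rw [show b ⊗ₜ[k] a = b • ((1 : B) ⊗ₜ[k] a) by rw [TensorProduct.smul_tmul', smul_eq_mul, _root_.mul_one]]
      simp only [map_smul]
      congr 1
      show Φ B g ((1 : B) ⊗ₜ[k] (a ⊗ₜ[k] (1 : C))) = _
      rw [hΦ, ← Algebra.TensorProduct.one_def, (hC B g).2, map_one, _root_.mul_one]
  have hΦC : ∀ (B : Type u) [CommRing B] [Algebra k B] (g : VecGrp.pt k B ⟶ G) (x : B ⊗[k] C),
      Φ B g (iC B x) = iC B (ρC.ρ B g x) := by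
    intro B _ _ g x
    induction x using TensorProduct.induction_on with
    | zero => simp
    | add p q hp hq => simp only [map_add, hp, hq]
    | tmul b c =>
      rw [show b ⊗ₜ[k] c = b • ((1 : B) ⊗ₜ[k] c) by rw [TensorProduct.smul_tmul', smul_eq_mul, _root_.mul_one]]
      simp only [map_smul]
      congr 1
      show Φ B g ((1 : B) ⊗ₜ[k] ((1 : A) ⊗ₜ[k] c)) = _
      rw [hΦ, ← Algebra.TensorProduct.one_def, (hA B g).2, map_one, _root_.one_mul]
  have hext : ∀ (B : Type u) [CommRing B] [Algebra k B] (Θ Θ' : B ⊗[k] (A ⊗[k] C) →ₐ[B] B ⊗[k] (A ⊗[k] C)),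
      (∀ x, Θ (iA B x) = Θ' (iA B x)) → (∀ x, Θ (iC B x) = Θ' (iC B x)) → Θ = Θ' := by
    intro B _ _ Θ Θ' h1 h2
    refine Algebra.TensorProduct.ext (Subsingleton.elim _ _) (Algebra.TensorProduct.ext (AlgHom.ext fun a => ?_) (AlgHom.ext fun c => ?_))
    · exact h1 ((1 : B) ⊗ₜ a)
    · exact h2 ((1 : B) ⊗ₜ c)
  have hmul : ∀ (B : Type u) [CommRing B] [Algebra k B] (g g' : VecGrp.pt k B ⟶ G),
      Φ B (g * g') = (Φ B g).comp (Φ B g') := fun B _ _ g g' => by
    refine hext B _ _ (fun x => ?_) (fun x => ?_)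
    · rw [AlgHom.comp_apply, hΦA, hΦA, hΦA, map_mul]; rfl
    · rw [AlgHom.comp_apply, hΦC, hΦC, hΦC, map_mul]; rfl
  have hone : ∀ (B : Type u) [CommRing B] [Algebra k B], Φ B 1 = AlgHom.id B _ := fun B _ _ => by
    refine hext B _ _ (fun x => ?_) (fun x => ?_)
    · rw [hΦA, map_one]; rfl
    · rw [hΦC, map_one]; rfl
  let act : ∀ (B : Type u) [CommRing B] [Algebra k B],
      (VecGrp.pt k B ⟶ G) →* ((B ⊗[k] (A ⊗[k] C)) ≃ₗ[B] (B ⊗[k] (A ⊗[k] C))) := fun B _ _ =>
    MonoidHom.mk' (fun g => LinearEquiv.ofLinear (Φ B g).toLinearMap (Φ B g⁻¹).toLinearMap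
      (LinearMap.ext fun x => by
        show (Φ B g) (Φ B g⁻¹ x) = x
        rw [← AlgHom.comp_apply, ← hmul, mul_inv_cancel, hone]; rfl)
      (LinearMap.ext fun x => by
        show (Φ B g⁻¹) (Φ B g x) = x
        rw [← AlgHom.comp_apply, ← hmul, inv_mul_cancel, hone]; rfl))
      fun g g' => LinearEquiv.ext fun x => AlgHom.congr_fun (hmul B g g') x
  refine ⟨⟨act, fun {B B'} _ _ _ _ φ g x => ?_⟩, fun B _ _ g => ⟨fun x y => map_mul (Φ B g) x y, map_one (Φ B g)⟩,
    fun B _ _ g a c => hΦ B g a c⟩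
  show VecGrp.Wmap φ (Φ B g x) = Φ B' (VecGrp.ptMap φ ≫ g) (VecGrp.Wmap φ x)
  let Wm : B ⊗[k] (A ⊗[k] C) →ₐ[k] B' ⊗[k] (A ⊗[k] C) := Algebra.TensorProduct.map φ (AlgHom.id k _)
  have hWm : ∀ z, VecGrp.Wmap φ z = Wm z := by
    intro z
    induction z using TensorProduct.induction_on with
    | zero => simp
    | add p q hp hq => simp only [map_add, hp, hq]
    | tmul b w => simp [VecGrp.Wmap, Wm]
  have hA' : ∀ z, Wm (iA B z) = iA B' (VecGrp.Wmap φ z) := by
    intro z
    induction z using TensorProduct.induction_on with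
    | zero => simp
    | add p q hp hq => simp only [map_add, hp, hq]
    | tmul b w => simp [VecGrp.Wmap, Wm, iA]
  have hC' : ∀ z, Wm (iC B z) = iC B' (VecGrp.Wmap φ z) := by
    intro z
    induction z using TensorProduct.induction_on with
    | zero => simp
    | add p q hp hq => simp only [map_add, hp, hq]
    | tmul b w => simp [VecGrp.Wmap, Wm, iC]
  have hsm : ∀ (r : B) (z : B ⊗[k] (A ⊗[k] C)), Wm (r • z) = φ r • Wm z := fun r z => by
    rw [← hWm, ← hWm, VecGrp.Wmap_smul]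
  rw [hWm, hWm]
  induction x using TensorProduct.induction_on with
  | zero => simp
  | add p q hp hq => simp only [map_add, hp, hq]
  | tmul b w =>
    induction w using TensorProduct.induction_on with
    | zero => simp
    | add p q hp hq => rw [TensorProduct.tmul_add]; simp only [map_add, hp, hq]
    | tmul a c =>
      rw [show b ⊗ₜ[k] (a ⊗ₜ[k] c) = b • ((1 : B) ⊗ₜ[k] (a ⊗ₜ[k] c)) by
        rw [TensorProduct.smul_tmul', smul_eq_mul, _root_.mul_one], map_smul, hsm, hsm, map_smul, hΦ, map_mul,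
        hA', hC', ρA.naturality, ρC.naturality]
      rw [show VecGrp.Wmap φ ((1 : B) ⊗ₜ[k] a) = (1 : B') ⊗ₜ[k] a by simp [VecGrp.Wmap],
        show VecGrp.Wmap φ ((1 : B) ⊗ₜ[k] c) = (1 : B') ⊗ₜ[k] c by simp [VecGrp.Wmap],
        show Wm ((1 : B) ⊗ₜ[k] (a ⊗ₜ[k] c)) = (1 : B') ⊗ₜ[k] (a ⊗ₜ[k] c) by simp [Wm], hΦ]

end Groth.L25.Observable
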