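import Groth.Agent.L08.Borel.Points
import Mathlib.AlgebraicGeometry.ZariskisMainTheorem

/-!
# Maps injective on rational points are quasi-finite
-/

set_option autoImplicit false
set_option backward.isDefEq.respectTransparency.types false

universe u

open CategoryTheory CategoryTheory.Limits MonoidalCategory CartesianMonoidalCategory AlgebraicGeometry

noncomputable section

namespace Groth.L25.Observable

open Groth.L08.Borel

variable {k : Type u} [Field k] [IsAlgClosed k]

/-- every closed point is rational -/
theorem exists_pt_eq {X : Over (Spec (CommRingCat.of k))} [LocallyOfFiniteType X.hom] {z : X.left}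
    (hz : IsClosed ({z} : Set X.left)) : ∃ t : 𝟙_ (Over (Spec (CommRingCat.of k))) ⟶ X, ptOf t = z := by
  obtain ⟨t, ht⟩ := exists_pt_mem (X := X) (O := {z}) hz.isLocallyClosed ⟨z, rfl⟩
  exact ⟨t, ht⟩

/-- a morphism of algebraic schemes injective on rational points is quasi-finite -/
theorem locallyQuasiFinite_of_injective_pts {X Y : Over (Spec (CommRingCat.of k))} [LocallyOfFiniteType X.hom]
    [LocallyOfFiniteType Y.hom] (f : X ⟶ Y) [LocallyOfFiniteType f.left]
    (hf : ∀ s t : 𝟙_ (Over (Spec (CommRingCat.of k))) ⟶ X, s ≫ f = t ≫ f → s = t) :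
    LocallyQuasiFinite f.left := by
  haveI : JacobsonSpace X.left := LocallyOfFiniteType.jacobsonSpace X.hom
  rw [← Scheme.Hom.quasiFiniteLocus_eq_top_iff]
  by_contra hne
  obtain ⟨x, hxU, hx⟩ := nonempty_inter_closedPoints
    (show ((f.left.quasiFiniteLocus : Set X.left)ᶜ).Nonempty by
      rw [Set.nonempty_compl]; exact fun h => hne (SetLike.coe_injective h))
    f.left.quasiFiniteLocus.isOpen.isClosed_compl.isLocallyClosed
  apply hxU
  obtain ⟨s, rfl⟩ := exists_pt_eq hx
  show f.left.QuasiFiniteAt (ptOf s)
  rw [Scheme.Hom.quasiFiniteAt_iff_isOpen_singleton_asFiber]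
  have hS : f.left ⁻¹' {f.left (ptOf s)} = {ptOf s} := by
    have hcl : IsClosed (f.left ⁻¹' {f.left (ptOf s)}) := (isClosed_pt (s ≫ f)).preimage f.left.continuous
    refine subset_antisymm ?_ (Set.singleton_subset_iff.2 rfl)
    rw [← closure_inter_closedPoints hcl]
    refine closure_minimal ?_ (isClosed_pt s)
    rintro z ⟨hz, hzc⟩
    obtain ⟨t, rfl⟩ := exists_pt_eq hzc
    rw [hf t s (pt_ext hz)]
    rfl
  haveI : Subsingleton (f.left.fiber (f.left (ptOf s))) := by
    haveI : Subsingleton (f.left ⁻¹' {f.left (ptOf s)} : Set X.left) := by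
      rw [hS]; exact Set.subsingleton_singleton.coe_sort
    exact (f.left.fiberHomeo (f.left (ptOf s))).toEquiv.subsingleton
  exact isOpen_discrete _

end Groth.L25.Observable
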