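import Groth.Agent.L25.Observable.ExtendMain
import Groth.Agent.S12428

/-!
# Extension criterion and transitivity of observability
-/

set_option autoImplicit false
set_option backward.isDefEq.respectTransparency.types false
set_option maxHeartbeats 800000

universe u

open CategoryTheory CategoryTheory.Limits MonoidalCategory CartesianMonoidalCategory MonObj AlgebraicGeometry
open scoped TensorProduct
open WithConv

noncomputable section

namespace Groth.L25.Observable

variable {k : Type u} [Field k] [IsAlgClosed k] {G H : Over (Spec (CommRingCat.of k))} [GrpObj G] [IsAffine G.left]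
  [Smooth G.hom] [GrpObj H] [Smooth H.hom]

theorem extendsAlong_of_observable (i : H ⟶ G) [IsMonHom i] [IsClosedImmersion i.left]
    (hobs : AGF.IsObservableIn k i) {V : Type u} [AddCommGroup V] [Module k V] [Module.Finite k V]
    (σ : VecGrp.GMod H V) : σ.ExtendsAlong i := by
  haveI : IsAffine H.left := isAffine_of_isAffineHom i.left
  obtain ⟨A, _, _, ψ, _, _, _, _⟩ := exists_chart G
  obtain ⟨κ, _, _, Φ, h1, h2⟩ := exists_maps_of_observable ψ i hobs σ
  exact extendsAlong_of_maps ψ i σ Φ h1 h2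

theorem chiVal_one (χ : H ⟶ Red.Gm (Spec (CommRingCat.of k))) [hχ : IsMonHom χ] (B : Type u) [CommRing B]
    [Algebra k B] : VecGrp.chiVal χ (1 : VecGrp.pt k B ⟶ H) = 1 := by
  show (Scheme.ΓSpecIso (CommRingCat.of B)).hom
    (GmPts.unitOfPt ((1 : VecGrp.pt k B ⟶ H) ≫ χ) : Γ((VecGrp.pt k B).left, ⊤)) = 1
  have e : (1 : VecGrp.pt k B ⟶ H) ≫ χ = 1 := MonObj.one_comp χ
  rw [e, GmPts.unitOfPt_one, Units.val_one]
  exact map_one _

theorem chiVal_mul (χ : H ⟶ Red.Gm (Spec (CommRingCat.of k))) [hχ : IsMonHom χ] {B : Type u} [CommRing B]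
    [Algebra k B] (h h' : VecGrp.pt k B ⟶ H) :
    VecGrp.chiVal χ (h * h') = VecGrp.chiVal χ h * VecGrp.chiVal χ h' := by
  show (Scheme.ΓSpecIso (CommRingCat.of B)).hom (GmPts.unitOfPt ((h * h') ≫ χ) : Γ((VecGrp.pt k B).left, ⊤)) = _
  have e : (h * h') ≫ χ = (h ≫ χ) * (h' ≫ χ) := MonObj.mul_comp h h' χ
  rw [e, GmPts.unitOfPt_mul, Units.val_mul]
  exact map_mul _ _ _

/-- the one-dimensional module of a character -/
def charMod (χ : H ⟶ Red.Gm (Spec (CommRingCat.of k))) [IsMonHom χ] : VecGrp.GMod H k where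
  ρ B _ _ :=
    { toFun := fun h => LinearEquiv.smulOfUnit
        (⟨VecGrp.chiVal χ h, VecGrp.chiVal χ⁻¹ h, by rw [mul_comm]; exact chiVal_inv_mul χ h,
          chiVal_inv_mul χ h⟩ : Bˣ)
      map_one' := LinearEquiv.ext fun z => by
        show VecGrp.chiVal χ (1 : VecGrp.pt k B ⟶ H) • z = z
        rw [chiVal_one χ B, one_smul]
      map_mul' := fun h h' => LinearEquiv.ext fun z => by
        show VecGrp.chiVal χ (h * h') • z = VecGrp.chiVal χ h • VecGrp.chiVal χ h' • z
        rw [chiVal_mul χ, mul_smul] }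
  naturality φ g z := by
    show VecGrp.Wmap φ (VecGrp.chiVal χ g • z) = VecGrp.chiVal χ (VecGrp.ptMap φ ≫ g) • VecGrp.Wmap φ z
    rw [VecGrp.Wmap_smul, chiVal_natural]

theorem charMod_apply (χ : H ⟶ Red.Gm (Spec (CommRingCat.of k))) [IsMonHom χ] {B : Type u} [CommRing B] [Algebra k B]
    (h : VecGrp.pt k B ⟶ H) (z : B ⊗[k] k) : (charMod χ).ρ B h z = VecGrp.chiVal χ h • z := rfl

theorem observable_of_extendsAlong (i : H ⟶ G) [IsMonHom i] [IsClosedImmersion i.left]
    (hext : ∀ (V : Type u) [AddCommGroup V] [Module k V] [Module.Finite k V] (σ : VecGrp.GMod H V),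
      σ.ExtendsAlong i) : AGF.IsObservableIn k i := by
  refine (Groth.Agent.S11220.result k G H i).2 fun χ _ _ => ?_
  haveI : IsMonHom χ⁻¹ := by
    show IsMonHom (χ ≫ GrpObj.inv)
    infer_instance
  obtain ⟨W, _, _, _, ρ, φ, hφ, hφe⟩ := hext k (charMod χ⁻¹)
  refine ⟨W, inferInstance, inferInstance, inferInstance, ρ, φ 1, fun e => one_ne_zero (hφ (e.trans φ.map_zero.symm)),
    fun B _ _ h => ?_⟩
  have e := hφe B h ((1 : B) ⊗ₜ[k] (1 : k))
  rw [charMod_apply, map_smul, LinearMap.baseChange_tmul] at e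
  exact e.symm

theorem observable_comp {K : Over (Spec (CommRingCat.of k))} [GrpObj K] [Smooth K.hom]
    (j : K ⟶ G) [IsMonHom j] [IsClosedImmersion j.left] (i : H ⟶ K) [IsMonHom i] [IsClosedImmersion i.left]
    (hH : AGF.IsObservableIn k i) (hK : AGF.IsObservableIn k j) : AGF.IsObservableIn k (i ≫ j) := by
  haveI : IsAffine K.left := isAffine_of_isAffineHom j.left
  haveI : IsClosedImmersion (i ≫ j).left := inferInstanceAs (IsClosedImmersion (i.left ≫ j.left))
  refine observable_of_extendsAlong (i ≫ j) fun V _ _ _ σ => ?_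
  obtain ⟨W, _, _, _, ρ, φ, hφ, hφe⟩ := extendsAlong_of_observable i hH σ
  obtain ⟨W', _, _, _, ρ', φ', hφ', hφe'⟩ := extendsAlong_of_observable j hK ρ
  refine ⟨W', inferInstance, inferInstance, inferInstance, ρ', φ' ∘ₗ φ, hφ'.comp hφ, fun B _ _ h x => ?_⟩
  rw [LinearMap.baseChange_comp, LinearMap.comp_apply, LinearMap.comp_apply, hφe, hφe', Category.assoc]

/-- an open and closed subgroup is observable -/
theorem observable_of_isOpenImmersion (i : H ⟶ G) [IsMonHom i] [IsClosedImmersion i.left] [IsOpenImmersion i.left] :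
    AGF.IsObservableIn k i := by
  haveI : IsAffine H.left := isAffine_of_isAffineHom i.left
  obtain ⟨A, _, _, ψ, _, _, _, _⟩ := exists_chart G
  obtain ⟨e, -, hind⟩ := Groth.Agent.S12428.exists_indicator ψ i i.left.isClosedEmbedding.isClosed_range
  have hinv : e ∈ inv' ψ i := fun x h => by
    by_cases hx : ∃ z : VecGrp.pt k k ⟶ H, z ≫ i = x
    · rw [(hind x).1 hx, (hind _).1]
      obtain ⟨z, rfl⟩ := hx
      exact ⟨z * h, MonObj.mul_comp _ _ _⟩
    · rw [(hind x).2 hx, (hind _).2]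
      rintro ⟨z, hz⟩
      exact hx ⟨z * h⁻¹, by rw [MonObj.mul_comp, GrpObj.inv_comp, hz, mul_inv_cancel_right]⟩
  rw [observable_iff ψ i]
  intro g hg
  by_contra hne
  have h1 := hg e hinv 1
  rw [_root_.one_mul, (hind g).2 hne, (hind _).1 ⟨1, MonObj.one_comp i⟩] at h1
  exact zero_ne_one h1

end Groth.L25.Observable
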