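import Groth.Agent.L25.Observable.GL
import Groth.Agent.L08.HomSpace.Quot
import Groth.Prelude.Def_GmPts
import Mathlib.Algebra.Module.Submodule.Union

/-!
# Characters of subgroups and semi-invariant functions
-/

set_option autoImplicit false
set_option backward.isDefEq.respectTransparency.types false
set_option maxHeartbeats 800000

universe u

open CategoryTheory CategoryTheory.Limits MonoidalCategory CartesianMonoidalCategory MonObj GrpObj AlgebraicGeometry
open scoped TensorProduct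
open WithConv

noncomputable section

namespace Groth.L25.Observable

open Groth.L08 Groth.L08.HomSpace

variable {k : Type u} [Field k] {G H : Over (Spec (CommRingCat.of k))}

/-- the value of a character is the value of its coordinate function -/
theorem chiVal_eq (χ : H ⟶ Red.Gm (Spec (CommRingCat.of k))) {B : Type u} [CommRing B] [Algebra k B]
    (h : VecGrp.pt k B ⟶ H) : VecGrp.chiVal χ h = val h (GmPts.unitOfPt χ : Γ(H.left, ⊤)) := by
  show (Scheme.ΓSpecIso (CommRingCat.of B)).hom (GmPts.unitOfPt (h ≫ χ) : Γ((VecGrp.pt k B).left, ⊤)) = _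
  rw [GmPts.unitOfPt_comp]
  rfl

theorem chiVal_natural (χ : H ⟶ Red.Gm (Spec (CommRingCat.of k))) {B B' : Type u} [CommRing B] [Algebra k B]
    [CommRing B'] [Algebra k B'] (φ : B →ₐ[k] B') (h : VecGrp.pt k B ⟶ H) :
    φ (VecGrp.chiVal χ h) = VecGrp.chiVal χ (VecGrp.ptMap φ ≫ h) := by
  rw [chiVal_eq, chiVal_eq, val_ptMap]

theorem chiVal_inv_mul [GrpObj H] (χ : H ⟶ Red.Gm (Spec (CommRingCat.of k))) {B : Type u} [CommRing B]
    [Algebra k B] (h : VecGrp.pt k B ⟶ H) : VecGrp.chiVal χ⁻¹ h * VecGrp.chiVal χ h = 1 := by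
  rw [chiVal_eq, chiVal_eq, ← val_mul, GmPts.unitOfPt_inv, Units.inv_mul, val_one]

variable [GrpObj G] [GrpObj H] {A : Type u} [CommRing A] [HopfAlgebra k A] (ψ : G ⟶ Sp k A) [IsMonHom ψ]
  [IsIso ψ]

/-- a closed subgroup is the stabiliser of a line, on rational points: its character and semi-invariants -/
theorem exists_line_char [IsAlgClosed k] [Smooth H.hom] [IsAffine G.left] [Algebra.FiniteType k A]
    (i : H ⟶ G) [IsMonHom i] [IsClosedImmersion i.left] :
    ∃ χ : H ⟶ Red.Gm (Spec (CommRingCat.of k)), IsMonHom χ ∧ ∃ (n : ℕ) (f : Fin n → A),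
      (∃ j, (ev ψ (1 : VecGrp.pt k k ⟶ G)).ofConv (f j) ≠ 0) ∧
      (∀ j (x : VecGrp.pt k k ⟶ G) (h : VecGrp.pt k k ⟶ H),
        (ev ψ (x * (h ≫ i))).ofConv (f j) = VecGrp.chiVal χ h * (ev ψ x).ofConv (f j)) ∧
      ∀ (g : VecGrp.pt k k ⟶ G) (c : k),
        (∀ j, (ev ψ g).ofConv (f j) = c * (ev ψ (1 : VecGrp.pt k k ⟶ G)).ofConv (f j)) →
          ∃ h : VecGrp.pt k k ⟶ H, h ≫ i = g := by
  classical
  haveI : IsIso ψ.left := inferInstanceAs (IsIso ((Over.forget _).map ψ))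
  let i' : H ⟶ specOf k A := i ≫ ψ
  haveI : IsMonHom i' := inferInstanceAs (IsMonHom (i ≫ ψ))
  haveI : IsClosedImmersion i'.left := inferInstanceAs (IsClosedImmersion (i.left ≫ ψ.left))
  obtain ⟨I, hI, hpts⟩ := exists_hopfIdeal i'
  obtain ⟨V, _, _, _, hfin, v, hv, hrep⟩ := Chevalley.exists_line (k := k) I
  let b := Module.finBasis k V
  obtain ⟨φ₀, hφ₀⟩ : ∃ φ₀ : V →ₗ[k] k, φ₀ v = 1 := by
    obtain ⟨e, he⟩ := LinearMap.exists_leftInverse_of_injective (LinearMap.toSpanSingleton k V v)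
      (LinearMap.ker_eq_bot.2 (smul_left_injective k hv))
    exact ⟨e, by simpa using LinearMap.congr_fun he 1⟩
  let a₀ : A := ∑ j, φ₀ (b j) • coords A b v j
  -- the character of the subgroup
  let F : Γ(H.left, ⊤) := i'.left.appTop ((Scheme.ΓSpecIso (CommRingCat.of A)).inv a₀)
  have hline : ∀ (R : Type u) [CommRing R] [Algebra k R] (z : VecGrp.pt k R ⟶ H),
      ∃ g : WithConv (A →ₐ[k] R), Spec.mapMulEquiv g = z ≫ i' ∧
        ptHom V R g (1 ⊗ₜ v) = val z F • ((1 : R) ⊗ₜ[k] v) := by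
    intro R _ _ z
    obtain ⟨g, hg⟩ := (Spec.mapMulEquiv (R := k) (S := A) (T := R)).surjective (z ≫ i')
    refine ⟨g, hg, ?_⟩
    obtain ⟨c, hc⟩ := (stabilizesLine_iff v g).1 ((hrep R g.ofConv).1 ((hpts R g).1 ⟨z, hg.symm⟩))
    rw [hc]
    congr 1
    have e : val z F = g.ofConv a₀ := by
      have hev : ev ψ (z ≫ i) = g := by
        show Spec.mapMulEquiv.symm ((z ≫ i) ≫ ψ) = g
        rw [MulEquiv.symm_apply_eq, Category.assoc]
        exact hg.symm
      rw [← hev, ← val_fn]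
      rfl
    have e1 : ∀ j, g.ofConv (coords A b v j) = c * algebraMap k R (b.repr v j) := fun j => by
      rw [← repr_translate, hc, map_smul, Finsupp.smul_apply, repr_one_tmul, smul_eq_mul]
    rw [e]
    simp only [a₀, map_sum, map_mul, AlgHom.commutes, e1, Algebra.smul_def]
    calc c = c * algebraMap k R (φ₀ (∑ j, b.repr v j • b j)) := by rw [b.sum_repr, hφ₀, map_one, _root_.mul_one]
      _ = _ := by
        simp only [map_sum, map_smul, smul_eq_mul, map_mul, Finset.mul_sum]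
        exact Finset.sum_congr rfl fun j _ => by ring
  have hinj : ∀ (R : Type u) [CommRing R] [Algebra k R] (c d : R),
      c • ((1 : R) ⊗ₜ[k] v) = d • ((1 : R) ⊗ₜ[k] v) → c = d := by
    intro R _ _ c d e
    have e' := congrArg (fun x => (TensorProduct.rid k R) (LinearMap.lTensor R φ₀ x)) e
    simpa [TensorProduct.smul_tmul', hφ₀] using e'
  have hmul : ∀ (R : Type u) [CommRing R] [Algebra k R] (z z' : VecGrp.pt k R ⟶ H),
      val (z * z') F = val z F * val z' F := by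
    intro R _ _ z z'
    obtain ⟨g, hg, e⟩ := hline R z
    obtain ⟨g', hg', e'⟩ := hline R z'
    obtain ⟨g'', hg'', e''⟩ := hline R (z * z')
    have : g'' = g * g' := Spec.mapMulEquiv.injective (by rw [hg'', map_mul, hg, hg', MonObj.mul_comp]; rfl)
    subst this
    apply hinj
    rw [← e'', map_mul, Module.End.mul_apply, e', map_smul, e, smul_smul, mul_comm]
  have hone : ∀ (R : Type u) [CommRing R] [Algebra k R], val (1 : VecGrp.pt k R ⟶ H) F = 1 := by
    intro R _ _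
    obtain ⟨g, hg, e⟩ := hline R (1 : VecGrp.pt k R ⟶ H)
    have : g = 1 := Spec.mapMulEquiv.injective (by rw [hg, map_one, MonObj.one_comp]; rfl)
    subst this
    apply hinj
    rw [← e, map_one, Module.End.one_apply, one_smul]
  haveI : IsAffine H.left := isAffine_of_isAffineHom i.left
  haveI : IsAffine (H ⊗ H).left := inferInstanceAs (IsAffine (CategoryTheory.Limits.pullback H.hom H.hom))
  obtain ⟨_, pH, _, hpH, -⟩ := exists_gen H
  have hu : IsUnit F := by
    refine IsUnit.of_mul_eq_one ((ι[H]).left.appTop F) (hpH _ _ ?_)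
    have e : pH ≫ ι[H] = pH⁻¹ := rfl
    have hm : ∀ x y : Γ(H.left, ⊤), val pH (x * y) = val pH x * val pH y := fun x y =>
      (congrArg _ (map_mul pH.left.appTop.hom x y)).trans (map_mul _ _ _)
    have h0 : val pH (1 : Γ(H.left, ⊤)) = 1 := (congrArg _ (map_one pH.left.appTop.hom)).trans (map_one _)
    have e2 : val pH ((ι[H]).left.appTop F) = val (pH⁻¹) F := (val_comp pH ι[H] F).symm
    rw [hm, e2, ← hmul, mul_inv_cancel, hone, h0]
  let χ : H ⟶ Red.Gm (Spec (CommRingCat.of k)) := GmPts.ptOfUnit hu.unit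
  have hχF : ∀ {T : Over (Spec (CommRingCat.of k))} (t : T ⟶ H),
      (GmPts.unitOfPt (t ≫ χ) : Γ(T.left, ⊤)) = t.left.appTop F := fun t => by
    rw [GmPts.unitOfPt_comp, GmPts.unitOfPt_ptOfUnit]; rfl
  have hχm : IsMonHom χ := by
    have hmH : μ[H] ≫ χ = (fst H H ≫ χ) * (snd H H ≫ χ) := by
      refine (GmPts.equiv _).injective (Units.ext ?_)
      show (GmPts.unitOfPt (μ[H] ≫ χ) : Γ((H ⊗ H).left, ⊤)) =
        (GmPts.unitOfPt ((fst H H ≫ χ) * (snd H H ≫ χ)) : Γ((H ⊗ H).left, ⊤))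
      rw [GmPts.unitOfPt_mul, Units.val_mul, hχF, hχF, hχF]
      obtain ⟨_, q, _, hq, -⟩ := exists_gen (H ⊗ H)
      apply hq
      have e : q ≫ μ[H] = (q ≫ fst H H) * (q ≫ snd H H) := by
        rw [Hom.mul_def, ← comp_lift, lift_fst_snd, Category.comp_id]
      have hm : ∀ x y : Γ((H ⊗ H).left, ⊤), val q (x * y) = val q x * val q y := fun x y =>
        (congrArg _ (map_mul q.left.appTop.hom x y)).trans (map_mul _ _ _)
      rw [hm, ← val_comp q μ[H] F, ← val_comp q (fst H H) F, ← val_comp q (snd H H) F, e, hmul]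
    have hoH : η[H] ≫ χ = η[Red.Gm (Spec (CommRingCat.of k))] := by
      have e1 : (η[H] : 𝟙_ _ ⟶ H) = 1 := by simp [Hom.one_def]
      rw [e1]
      have e2 : lift (1 : 𝟙_ (Over (Spec (CommRingCat.of k))) ⟶ H) 1 ≫ μ[H] = 1 := by
        rw [← Hom.mul_def, _root_.one_mul]
      have e3 := congrArg (fun m => lift (1 : 𝟙_ (Over (Spec (CommRingCat.of k))) ⟶ H) 1 ≫ m) hmH
      simp only [MonObj.comp_mul, ← Category.assoc, lift_fst, lift_snd] at e3
      rw [e2] at e3
      rw [show η[Red.Gm (Spec (CommRingCat.of k))] = (1 : 𝟙_ _ ⟶ _) by simp [Hom.one_def]]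
      have e4 := congrArg GmPts.unitOfPt e3
      rw [GmPts.unitOfPt_mul] at e4
      exact (GmPts.equiv _).injective ((mul_eq_left.1 e4.symm).trans GmPts.unitOfPt_one.symm)
    exact ⟨hoH, by rw [hmH, Hom.mul_def, ← lift_map, reassoc_of% (lift_fst_snd (X := H) (Y := H))]⟩
  have hval : ∀ {B : Type u} [CommRing B] [Algebra k B] (h : VecGrp.pt k B ⟶ H),
      VecGrp.chiVal χ h = val h F := fun h => by
    rw [chiVal_eq, GmPts.unitOfPt_ptOfUnit]; rfl
  have hgev : ∀ (γ : VecGrp.pt k k ⟶ G) (g : WithConv (A →ₐ[k] k)),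
      Spec.mapMulEquiv g = γ ≫ ψ → ev ψ γ = g := fun γ g hg => by
    show Spec.mapMulEquiv.symm (γ ≫ ψ) = g
    rw [MulEquiv.symm_apply_eq]; exact hg.symm
  refine ⟨χ, hχm, _, fun j => coords A b v j, ?_, fun j x h => ?_, fun g c hc => ?_⟩
  · by_contra hne
    push Not at hne
    apply hv
    refine b.repr.injective (Finsupp.ext fun j => ?_)
    have := hne j
    rw [ev_one, ← repr_translate, map_one, Module.End.one_apply, repr_one_tmul] at this
    simpa using this
  · obtain ⟨gh, hh, e⟩ := hline k h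
    rw [ev_mul, hgev (h ≫ i) gh (by rw [hh, Category.assoc]), ← repr_translate, ← repr_translate, map_mul,
      Module.End.mul_apply, e, map_smul, map_smul, Finsupp.smul_apply, smul_eq_mul, hval]
  · obtain ⟨g₀, hg₀⟩ := (Spec.mapMulEquiv (R := k) (S := A) (T := k)).surjective (g ≫ ψ)
    have hvg : ptHom V k g₀ (1 ⊗ₜ v) = c • ((1 : k) ⊗ₜ[k] v) := by
      refine (b.baseChange k).repr.injective (Finsupp.ext fun j => ?_)
      have := hc j
      rw [hgev g g₀ hg₀, ev_one, ← repr_translate, ← repr_translate, map_one, Module.End.one_apply] at this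
      rw [this, map_smul, Finsupp.smul_apply, smul_eq_mul]
    obtain ⟨z, hz⟩ := (hpts k g₀).2 ((hrep k g₀.ofConv).2 ((stabilizesLine_iff v g₀).2 ⟨c, hvg⟩))
    exact ⟨z, by rw [← cancel_mono ψ, Category.assoc]; exact hz.trans hg₀⟩

end Groth.L25.Observable

namespace Groth.L25.Observable

open Groth.L08.Chevalley

variable {k : Type u} [Field k] {G H : Over (Spec (CommRingCat.of k))} [GrpObj G]
  {A : Type u} [CommRing A] [HopfAlgebra k A] (ψ : G ⟶ Sp k A) [IsMonHom ψ]

/-- an element semi-invariant under a subgroup on rational points gives a semi-invariant vector -/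
theorem exists_eigenvector [IsIso ψ] [IsAlgClosed k] [_root_.IsReduced A] [Algebra.FiniteType k A]
    [IsAffine H.left] [Smooth H.hom] (i : H ⟶ G) (χ : H ⟶ Red.Gm (Spec (CommRingCat.of k))) (f : A) (hf0 : f ≠ 0)
    (hf : ∀ (x : VecGrp.pt k k ⟶ G) (h : VecGrp.pt k k ⟶ H),
      (ev ψ (x * (h ≫ i))).ofConv f = VecGrp.chiVal χ h * (ev ψ x).ofConv f) :
    ∃ (V : Type u) (_ : AddCommGroup V) (_ : Module k V) (_ : Module.Finite k V) (ρ : VecGrp.GMod G V) (v : V),
      v ≠ 0 ∧ ∀ (B : Type u) [CommRing B] [Algebra k B] (h : VecGrp.pt k B ⟶ H),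
        ρ.ρ B (h ≫ i) ((1 : B) ⊗ₜ[k] v) = VecGrp.chiVal χ h • ((1 : B) ⊗ₜ[k] v) := by
  classical
  obtain ⟨d, b, a, ha, hΔ, hli, hb⟩ := exists_comatrix (k := k) {f}
  obtain ⟨x, hx⟩ := hb f (Finset.mem_singleton_self f)
  obtain ⟨m₀, hm₀, -⟩ := ComodGMod.exists_gmod (R := k) (A := A) (coactOf (k := k) a) (comodOf a ha).coassoc
    (comodOf a ha).counit_comp
  let m : VecGrp.GMod G (Fin d → k) := ⟨fun B _ _ => (m₀.ρ B).comp
    { toFun := fun g => g ≫ ψ
      map_one' := MonObj.one_comp ψ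
      map_mul' := fun g g' => MonObj.mul_comp g g' ψ }, fun φ g x => by
      show VecGrp.Wmap φ (m₀.ρ _ (g ≫ ψ) x) = m₀.ρ _ ((VecGrp.ptMap φ ≫ g) ≫ ψ) _
      rw [m₀.naturality, Category.assoc]⟩
  have hxne : x ≠ 0 := fun e => hf0 (by rw [hx, e]; simp)
  have hcoord : ∀ (g : VecGrp.pt k k ⟶ G) (c : k),
      (∀ y : VecGrp.pt k k ⟶ G, (ev ψ (y * g)).ofConv f = c * (ev ψ y).ofConv f) →
        ∀ i, ∑ j, x j • (ev ψ g).ofConv (a i j) = c * x i := by
    intro g c hg
    have hev : ∀ y : VecGrp.pt k k ⟶ G, (ev ψ (y * g)).ofConv (∑ j, x j • b j) =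
        (ev ψ y).ofConv (∑ i, (∑ j, x j • (ev ψ g).ofConv (a i j)) • b i) := by
      intro y
      rw [ev_mul, map_sum, map_sum]
      simp only [map_smul, AlgHom.convMul_apply, hΔ, map_sum, Algebra.TensorProduct.lift_tmul,
        Finset.sum_smul, smul_eq_mul, Finset.mul_sum]
      rw [Finset.sum_comm]
      refine Finset.sum_congr rfl fun i _ => Finset.sum_congr rfl fun j _ => ?_
      ring
    have h0 : (∑ i, (∑ j, x j • (ev ψ g).ofConv (a i j)) • b i) = c • f := by
      refine eq_of_sub_eq_zero (GeomIrred.eq_zero_of_forall_algHom (k := k) _ fun φ => ?_)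
      obtain ⟨y, hy⟩ := ev_surjective ψ (toConv φ)
      have := hev y
      rw [← hx, hg y, hy] at this
      rw [map_sub, sub_eq_zero, map_smul, smul_eq_mul]
      exact this.symm
    rw [hx, Finset.smul_sum] at h0
    exact fun i => Fintype.linearIndependent_iff.1 hli
      (fun i => (∑ j, x j • (ev ψ g).ofConv (a i j)) - c * x i)
      (by simp only [sub_smul, Finset.sum_sub_distrib, h0, mul_smul, sub_self]) i |> sub_eq_zero.1
  refine ⟨Fin d → k, inferInstance, inferInstance, inferInstance, m, x, hxne, ?_⟩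
  intro B _ _ h
  obtain ⟨_, gen, _, hgen, hfac⟩ := exists_gen H
  have h0 : m.ρ _ (gen ≫ i) ((1 : Γ(H.left, ⊤)) ⊗ₜ[k] x) = VecGrp.chiVal χ gen • ((1 : Γ(H.left, ⊤)) ⊗ₜ[k] x) := by
    let e := Pi.basisFun k (Fin d)
    refine (e.baseChange Γ(H.left, ⊤)).repr.injective (Finsupp.ext fun j => hgen _ _ ?_)
    congr 1
    refine eq_of_forall_val fun γ => ?_
    obtain ⟨φ, hφ, hval⟩ := hfac k γ
    rw [← hval, ← hval]
    have key : ∀ z : Γ(H.left, ⊤) ⊗[k] (Fin d → k), φ ((e.baseChange Γ(H.left, ⊤)).repr z j) =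
        (e.baseChange k).repr (VecGrp.Wmap φ z) j := by
      intro z
      induction z using TensorProduct.induction_on with
      | zero => simp
      | add x y hx hy => simp only [map_add, Finsupp.add_apply, hx, hy]
      | tmul c w => simp [VecGrp.Wmap, mul_comm]
    rw [key, key, m.naturality, ← Category.assoc, hφ, VecGrp.Wmap_smul, chiVal_natural, hφ,
      show VecGrp.Wmap φ ((1 : Γ(H.left, ⊤)) ⊗ₜ[k] x) = (1 : k) ⊗ₜ[k] x by simp [VecGrp.Wmap]]
    have hγ := hcoord (γ ≫ i) (VecGrp.chiVal χ γ) (fun y => hf y γ)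
    refine congrArg (fun z => (e.baseChange k).repr z j) ?_
    show m₀.ρ k ((γ ≫ i) ≫ ψ) _ = _
    rw [hm₀, ComodGMod.T_apply, TensorProduct.smul_tmul', smul_eq_mul, _root_.mul_one,
      show (VecGrp.chiVal χ γ) ⊗ₜ[k] x = (TensorProduct.comm k (Fin d → k) k) (x ⊗ₜ VecGrp.chiVal χ γ) from rfl,
      (TensorProduct.comm k (Fin d → k) k).injective.eq_iff, eq_iff_coord]
    intro l
    rw [coord_coactOf]
    show ∑ j, x j • (ev ψ (γ ≫ i)).ofConv (a l j) = _
    rw [hγ l]
    simp [mul_comm]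
  obtain ⟨φ, hφ, -⟩ := hfac B h
  have h1 := congrArg (VecGrp.Wmap φ) h0
  rw [m.naturality, ← Category.assoc, hφ, VecGrp.Wmap_smul, chiVal_natural, hφ,
    show VecGrp.Wmap φ ((1 : Γ(H.left, ⊤)) ⊗ₜ[k] x) = (1 : B) ⊗ₜ[k] x by simp [VecGrp.Wmap]] at h1
  exact h1

/-- a semi-invariant vector gives a semi-invariant element taking the value `1` at the identity -/
theorem exists_fun_of_eigenvector [IsIso ψ] [IsAffine G.left] (i : H ⟶ G)
    (χ : H ⟶ Red.Gm (Spec (CommRingCat.of k))) {V : Type u} [AddCommGroup V] [Module k V]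
    (ρ : VecGrp.GMod G V) {v : V} (hv : v ≠ 0)
    (hρ : ∀ (B : Type u) [CommRing B] [Algebra k B] (h : VecGrp.pt k B ⟶ H),
      ρ.ρ B (h ≫ i) ((1 : B) ⊗ₜ[k] v) = VecGrp.chiVal χ h • ((1 : B) ⊗ₜ[k] v)) :
    ∃ f : A, (ev ψ (1 : VecGrp.pt k k ⟶ G)).ofConv f = 1 ∧ ∀ (x : VecGrp.pt k k ⟶ G) (h : VecGrp.pt k k ⟶ H),
      (ev ψ (x * (h ≫ i))).ofConv f = VecGrp.chiVal χ h * (ev ψ x).ofConv f := by
  obtain ⟨e, he⟩ := LinearMap.exists_leftInverse_of_injective (LinearMap.toSpanSingleton k V v)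
    (LinearMap.ker_eq_bot.2 (smul_left_injective k hv))
  have hev : e v = 1 := by simpa using LinearMap.congr_fun he 1
  obtain ⟨_, gen, _, -, hfac⟩ := exists_gen G
  let co : ∀ (B : Type u) [CommRing B] [Algebra k B], B ⊗[k] V →ₗ[B] B ⊗[k] k := fun B _ _ => e.baseChange B
  let F : Γ(G.left, ⊤) := TensorProduct.rid k _ (co _ (ρ.ρ _ gen ((1 : Γ(G.left, ⊤)) ⊗ₜ[k] v)))
  obtain ⟨f, hf⟩ := fn_surjective ψ F
  have hval : ∀ γ : VecGrp.pt k k ⟶ G,
      (ev ψ γ).ofConv f = TensorProduct.rid k k (co k (ρ.ρ k γ ((1 : k) ⊗ₜ[k] v))) := by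
    intro γ
    obtain ⟨φ, h1, h2⟩ := hfac k γ
    rw [← val_fn, hf, ← h2, ← h1]
    have key : ∀ z : Γ(G.left, ⊤) ⊗[k] V, φ (TensorProduct.rid k _ (co _ z)) =
        TensorProduct.rid k k (co k (VecGrp.Wmap φ z)) := by
      intro z
      induction z using TensorProduct.induction_on with
      | zero => simp
      | add x y hx hy => simp only [map_add, hx, hy]
      | tmul c w => simp [co, VecGrp.Wmap, mul_comm]
    rw [key, ρ.naturality]
    simp [VecGrp.Wmap]
  refine ⟨f, ?_, fun x h => ?_⟩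
  · rw [hval, map_one]
    simp [co, hev]
  · rw [hval, hval, map_mul, LinearEquiv.mul_apply, hρ k h, map_smul, map_smul]
    generalize co k (ρ.ρ k x ((1 : k) ⊗ₜ[k] v)) = z
    induction z using TensorProduct.induction_on with
    | zero => simp
    | add x y hx hy => simp only [smul_add, map_add, hx, hy, mul_add]
    | tmul c w => simp [TensorProduct.smul_tmul']; ring

end Groth.L25.Observable
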