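import Groth.Agent.L25.GeomIrred
import Groth.Agent.L19.AlgGrpBasic.OrbitClosure
import Mathlib.RingTheory.Spectrum.Prime.Chevalley
import Mathlib.RingTheory.Adjoin.Tower
import Mathlib.Algebra.Module.Submodule.Union
import Mathlib.RingTheory.Ideal.MinimalPrime.Noetherian

/-!
# Functions pulled back from a quotient vanishing on a saturated hypersurface
-/

set_option autoImplicit false

universe u

open Topology

namespace Groth.L25.Observable

variable {k : Type u} [Field k] [IsAlgClosed k] {A : Type u} [CommRing A] [Algebra k A]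
  [Algebra.FiniteType k A] [IsReduced A]

/-- a point avoiding a nonzero element -/
theorem exists_algHom_ne {a : A} (ha : a ≠ 0) : ∃ φ : A →ₐ[k] k, φ a ≠ 0 := by
  by_contra h
  push Not at h
  exact ha (GeomIrred.eq_zero_of_forall_algHom (k := k) a h)

omit [IsReduced A] in
/-- a point in a closed subset -/
theorem exists_algHom_of_prime (P : Ideal A) [P.IsPrime] : ∃ φ : A →ₐ[k] k, ∀ a ∈ P, φ a = 0 := by
  by_contra h
  push Not at h
  haveI : Algebra.FiniteType k (A ⧸ P) :=
    Algebra.FiniteType.of_surjective (Ideal.Quotient.mkₐ k P) Ideal.Quotient.mk_surjective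
  have : (1 : A ⧸ P) = 0 := GeomIrred.eq_zero_of_forall_algHom (k := k) _ fun φ => by
    obtain ⟨a, ha, hne⟩ := h (φ.comp (Ideal.Quotient.mkₐ k P))
    exact absurd (by simp [Ideal.Quotient.eq_zero_iff_mem.2 ha]) hne
  exact one_ne_zero this

omit [IsReduced A] in
/-- the Nullstellensatz for a principal ideal -/
theorem mem_radical_of_forall {f b : A} (h : ∀ φ : A →ₐ[k] k, φ f = 0 → φ b = 0) :
    b ∈ (Ideal.span {f}).radical := by
  obtain ⟨J, hJ⟩ : ∃ J, (Ideal.span {f}).radical = J := ⟨_, rfl⟩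
  rw [hJ]
  haveI : Algebra.FiniteType k (A ⧸ J) :=
    Algebra.FiniteType.of_surjective (Ideal.Quotient.mkₐ k J) Ideal.Quotient.mk_surjective
  haveI : IsReduced (A ⧸ J) :=
    (Ideal.isRadical_iff_quotient_reduced J).1 (hJ ▸ Ideal.radical_isRadical _)
  have hfJ : f ∈ J := hJ ▸ Ideal.le_radical (Ideal.subset_span rfl)
  refine Ideal.Quotient.eq_zero_iff_mem.1 (GeomIrred.eq_zero_of_forall_algHom (k := k) _ fun φ => ?_)
  have := h (φ.comp (Ideal.Quotient.mkₐ k J)) (by simp [Ideal.Quotient.eq_zero_iff_mem.2 hfJ])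
  simpa using this

/-- a generic element of a space of functions without common zero component is a non-zero-divisor -/
theorem exists_nonZeroDivisor (W : Submodule k A) (hW : ∀ φ : A →ₐ[k] k, ∃ f ∈ W, φ f ≠ 0) :
    ∃ f ∈ W, ∀ h : A, h * f = 0 → h = 0 := by
  haveI : IsNoetherianRing A := Algebra.FiniteType.isNoetherianRing k A
  haveI : Finite (minimalPrimes A) := (minimalPrimes.finite_of_isNoetherianRing A).to_subtype
  haveI : Infinite k := IsAlgClosed.instInfinite
  obtain ⟨f, hf⟩ := Submodule.exists_forall_notMem_of_forall_ne_top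
    (fun P : minimalPrimes A => ((P.1.restrictScalars k).comap W.subtype : Submodule k W)) (fun P htop => by
      haveI : P.1.IsPrime := Ideal.minimalPrimes_isPrime P.2
      obtain ⟨φ, hφ⟩ := exists_algHom_of_prime (k := k) P.1
      obtain ⟨f, hfW, hne⟩ := hW φ
      have : (⟨f, hfW⟩ : W) ∈ (P.1.restrictScalars k).comap W.subtype := htop ▸ Submodule.mem_top
      exact hne (hφ f this))
  refine ⟨f.1, f.2, fun h hh => ?_⟩
  have : h ∈ nilradical A := by
    rw [nilradical, Ideal.radical_eq_sInf, Ideal.mem_sInf]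
    rintro P ⟨-, hP⟩
    haveI := hP
    obtain ⟨Q, hQ, hQP⟩ := Ideal.exists_minimalPrimes_le (I := (⊥ : Ideal A)) (J := P) bot_le
    haveI : Q.IsPrime := Ideal.minimalPrimes_isPrime hQ
    exact hQP ((Ideal.IsPrime.mem_or_mem ‹Q.IsPrime› (hh ▸ Q.zero_mem)).resolve_right (hf ⟨Q, hQ⟩))
  rwa [nilradical_eq_zero] at this

/-- If finitely many functions separate the zero set of a non-zero-divisor from its complement, some nonzero
polynomial in them vanishes on the zero set. -/
theorem exists_vanishing_ideal [Nontrivial A] (t : Finset A) (J : Ideal A)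
    (hreg : ∀ c : A, c ≠ 0 → ∃ f ∈ J, c * f ≠ 0)
    (hsat : ∀ φ φ' : A →ₐ[k] k, (∀ a ∈ t, φ a = φ' a) → (∀ c ∈ J, φ c = 0) → ∀ c ∈ J, φ' c = 0) :
    ∃ b ∈ Algebra.adjoin k (t : Set A), b ≠ 0 ∧ ∀ φ : A →ₐ[k] k, (∀ c ∈ J, φ c = 0) → φ b = 0 := by
  classical
  by_contra hcon
  push Not at hcon
  let B := Algebra.adjoin k (t : Set A)
  haveI : Algebra.FiniteType k B := ⟨(Subalgebra.fg_top _).2 ⟨t, rfl⟩⟩
  haveI : IsNoetherianRing B := Algebra.FiniteType.isNoetherianRing k B
  haveI : Algebra.FiniteType B A := Algebra.FiniteType.of_restrictScalars_finiteType k B A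
  have hfp : (algebraMap B A).FinitePresentation :=
    RingHom.finitePresentation_algebraMap.mpr (Algebra.FinitePresentation.of_finiteType.1 inferInstance)
  let π := PrimeSpectrum.comap (algebraMap B A)
  let S : Set (PrimeSpectrum B) := π '' PrimeSpectrum.zeroLocus (J : Set A)
  haveI : IsNoetherianRing A := Algebra.FiniteType.isNoetherianRing k A
  have hS : IsConstructible S := PrimeSpectrum.isConstructible_comap_image hfp (by
    rw [← compl_compl (PrimeSpectrum.zeroLocus (J : Set A))]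
    exact (IsRetrocompact.isConstructible (PrimeSpectrum.isClosed_zeroLocus _).isOpen_compl
      (fun _ _ _ => TopologicalSpace.NoetherianSpace.isCompact _)).compl)
  have hdense : closure S = Set.univ := by
    rw [← PrimeSpectrum.zeroLocus_vanishingIdeal_eq_closure, Set.eq_univ_iff_forall]
    intro P b hb
    have : b = 0 := by
      by_contra hne
      obtain ⟨φ, hφ, hφb⟩ := hcon b.1 b.2 fun e => hne (Subtype.ext e)
      refine hφb ?_
      haveI : (RingHom.ker φ).IsPrime := RingHom.ker_isPrime φ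
      exact (PrimeSpectrum.mem_vanishingIdeal _ _).1 hb (π ⟨RingHom.ker φ, inferInstance⟩)
        ⟨⟨RingHom.ker φ, inferInstance⟩, fun z hz => hφ z hz, rfl⟩
    exact this ▸ P.asIdeal.zero_mem
  obtain ⟨U, hUo, hUd, hUS⟩ := Groth.L19.AlgGrpBasic.exists_open_dense_of_constructible hS
  rw [hdense, Set.inter_univ] at hUd hUS
  obtain ⟨p, hp⟩ : U.Nonempty := by
    by_contra hne
    rw [Set.not_nonempty_iff_eq_empty] at hne
    haveI : Nontrivial B := inferInstance
    obtain ⟨q⟩ : Nonempty (PrimeSpectrum B) := inferInstance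
    simpa [hne] using hUd (Set.mem_univ q)
  obtain ⟨_, ⟨_, ⟨b₀, rfl⟩, rfl⟩, hpb, hbU⟩ :=
    PrimeSpectrum.isBasis_basic_opens.exists_subset_of_mem_open hp hUo
  have hb₀ : (b₀ : A) ≠ 0 := fun e => hpb (by
    rw [show b₀ = 0 from Subtype.ext e]; exact p.asIdeal.zero_mem)
  obtain ⟨f, hfJ, hf⟩ := hreg _ hb₀
  obtain ⟨φ, hφ⟩ := exists_algHom_ne (k := k) hf
  rw [map_mul, mul_ne_zero_iff] at hφ
  haveI : (RingHom.ker φ).IsPrime := RingHom.ker_isPrime φ
  obtain ⟨P, hP, hPq⟩ := hUS (hbU (show π ⟨RingHom.ker φ, inferInstance⟩ ∈ PrimeSpectrum.basicOpen b₀ from hφ.1))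
  obtain ⟨ψ, hψ⟩ := exists_algHom_of_prime (k := k) P.asIdeal
  refine hφ.2 (hsat ψ φ (fun a ha => ?_) (fun c hc => hψ c (hP hc)) f hfJ)
  let a' : B := ⟨a, Algebra.subset_adjoin ha⟩
  have hmem : a' - algebraMap k B (φ a) ∈ (π ⟨RingHom.ker φ, inferInstance⟩).asIdeal := by
    show φ (a - algebraMap k A (φ a)) = 0
    rw [map_sub, AlgHom.commutes]
    exact sub_self _
  rw [← hPq] at hmem
  have := hψ _ hmem
  change ψ (a - algebraMap k A (φ a)) = 0 at this
  rw [map_sub, AlgHom.commutes, sub_eq_zero] at this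
  exact this

/-- The case of a hypersurface. -/
theorem exists_vanishing [Nontrivial A] (t : Finset A) {f : A} (hreg : ∀ h : A, h * f = 0 → h = 0)
    (hsat : ∀ φ φ' : A →ₐ[k] k, (∀ a ∈ t, φ a = φ' a) → φ f = 0 → φ' f = 0) :
    ∃ b ∈ Algebra.adjoin k (t : Set A), b ≠ 0 ∧ ∀ φ : A →ₐ[k] k, φ f = 0 → φ b = 0 := by
  have key : ∀ φ : A →ₐ[k] k, (∀ c ∈ Ideal.span {f}, φ c = 0) ↔ φ f = 0 := fun φ =>
    ⟨fun h => h f (Ideal.subset_span rfl), fun h c hc => by
      obtain ⟨d, rfl⟩ := Ideal.mem_span_singleton'.1 hc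
      rw [map_mul, h, mul_zero]⟩
  obtain ⟨b, hbt, hb0, hb⟩ := exists_vanishing_ideal (k := k) t (Ideal.span {f})
    (fun c hc => ⟨f, Ideal.subset_span rfl, fun e => hc (hreg c e)⟩)
    (fun φ φ' h h' => (key φ').2 (hsat φ φ' h ((key φ).1 h')))
  exact ⟨b, hbt, hb0, fun φ h => hb φ ((key φ).2 h)⟩

omit [IsReduced A] in
/-- the Nullstellensatz -/
theorem mem_radical_of_forall_ideal {J : Ideal A} {b : A}
    (h : ∀ φ : A →ₐ[k] k, (∀ c ∈ J, φ c = 0) → φ b = 0) : b ∈ J.radical := by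
  obtain ⟨R, hR⟩ : ∃ R, J.radical = R := ⟨_, rfl⟩
  rw [hR]
  haveI : Algebra.FiniteType k (A ⧸ R) :=
    Algebra.FiniteType.of_surjective (Ideal.Quotient.mkₐ k R) Ideal.Quotient.mk_surjective
  haveI : IsReduced (A ⧸ R) :=
    (Ideal.isRadical_iff_quotient_reduced R).1 (hR ▸ Ideal.radical_isRadical _)
  refine Ideal.Quotient.eq_zero_iff_mem.1 (GeomIrred.eq_zero_of_forall_algHom (k := k) _ fun φ => ?_)
  have := h (φ.comp (Ideal.Quotient.mkₐ k R)) fun c hc => by
    simp [Ideal.Quotient.eq_zero_iff_mem.2 (hR ▸ Ideal.le_radical hc)]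
  simpa using this

end Groth.L25.Observable
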