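import Groth.Agent.L25.Observable.Translate
import Groth.Agent.L25.Observable.Vanishing
import Mathlib.LinearAlgebra.LinearIndependent.Lemmas
import Mathlib.LinearAlgebra.FreeModule.PID
import Mathlib.Algebra.MonoidAlgebra.Basic
import Mathlib.RingTheory.FiniteType
import Mathlib.Algebra.Polynomial.Roots

/-!
# A character trivial on a common kernel of characters is a root of a product of them
-/

set_option autoImplicit false
set_option backward.isDefEq.respectTransparency.types false

universe u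

open Topology CategoryTheory MonoidalCategory CartesianMonoidalCategory MonObj AlgebraicGeometry
open WithConv

noncomputable section

namespace Groth.L25.Observable

variable {k : Type u} [Field k] [IsAlgClosed k]

/-- points of a finitely generated subalgebra of a domain extend on a nonempty basic open set -/
theorem exists_extend {S A : Type u} [CommRing S] [IsDomain S] [Algebra k S] [Algebra.FiniteType k S] [CommRing A]
    [IsDomain A] [Algebra k A] [Algebra.FiniteType k A] (ι' : S →ₐ[k] A) (hinj : Function.Injective ι') :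
    ∃ b : S, b ≠ 0 ∧ ∀ φ : S →ₐ[k] k, φ b ≠ 0 → ∃ ψ : A →ₐ[k] k, ψ.comp ι' = φ := by
  haveI : IsNoetherianRing S := Algebra.FiniteType.isNoetherianRing k S
  letI : Algebra S A := ι'.toRingHom.toAlgebra
  haveI : IsScalarTower k S A := IsScalarTower.of_algebraMap_eq fun r => (ι'.commutes r).symm
  haveI : Algebra.FiniteType S A := Algebra.FiniteType.of_restrictScalars_finiteType k S A
  have hfp : (algebraMap S A).FinitePresentation :=
    RingHom.finitePresentation_algebraMap.mpr (Algebra.FinitePresentation.of_finiteType.1 inferInstance)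
  let T : Set (PrimeSpectrum S) := PrimeSpectrum.comap (algebraMap S A) '' Set.univ
  have hT : IsConstructible T := PrimeSpectrum.isConstructible_comap_image hfp (by
    rw [← compl_compl (Set.univ : Set (PrimeSpectrum A)), Set.compl_univ]
    exact (IsRetrocompact.isConstructible isOpen_empty (fun _ _ _ => by simp)).compl)
  have hgen : (⟨⊥, Ideal.isPrime_bot⟩ : PrimeSpectrum S) ∈ T :=
    ⟨⟨⊥, Ideal.isPrime_bot⟩, trivial, PrimeSpectrum.ext (Ideal.comap_bot_of_injective _ hinj)⟩
  have hdense : closure T = Set.univ := by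
    rw [Set.eq_univ_iff_forall]
    intro p
    have h1 : p ∈ closure {(⟨⊥, Ideal.isPrime_bot⟩ : PrimeSpectrum S)} := by
      rw [PrimeSpectrum.closure_singleton, PrimeSpectrum.mem_zeroLocus]
      intro a ha
      rw [show a = 0 from ha]; exact p.asIdeal.zero_mem
    exact closure_mono (Set.singleton_subset_iff.2 hgen) h1
  obtain ⟨U, hUo, hUd, hUS⟩ := Groth.L19.AlgGrpBasic.exists_open_dense_of_constructible hT
  rw [hdense, Set.inter_univ] at hUd hUS
  obtain ⟨p, hp⟩ : U.Nonempty := by
    by_contra hne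
    rw [Set.not_nonempty_iff_eq_empty] at hne
    simpa [hne] using hUd (Set.mem_univ (⟨⊥, Ideal.isPrime_bot⟩ : PrimeSpectrum S))
  obtain ⟨_, ⟨_, ⟨b, rfl⟩, rfl⟩, hpb, hbU⟩ := PrimeSpectrum.isBasis_basic_opens.exists_subset_of_mem_open hp hUo
  refine ⟨b, fun e => hpb (by rw [e]; exact p.asIdeal.zero_mem), fun φ hφ => ?_⟩
  haveI : (RingHom.ker φ).IsPrime := RingHom.ker_isPrime φ
  obtain ⟨P, -, hPq⟩ := hUS (hbU (show (⟨RingHom.ker φ, inferInstance⟩ : PrimeSpectrum S) ∈ PrimeSpectrum.basicOpen b from hφ))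
  obtain ⟨ψ, hψ⟩ := exists_algHom_of_prime (k := k) P.asIdeal
  refine ⟨ψ, AlgHom.ext fun a => ?_⟩
  have hmem : a - algebraMap k S (φ a) ∈ (⟨RingHom.ker φ, inferInstance⟩ : PrimeSpectrum S).asIdeal := by
    show φ _ = 0
    rw [map_sub, AlgHom.commutes]
    exact sub_self _
  rw [← hPq] at hmem
  have := hψ _ hmem
  change ψ (ι' (a - algebraMap k S (φ a))) = 0 at this
  rw [map_sub, AlgHom.commutes, map_sub, AlgHom.commutes, sub_eq_zero] at this
  exact this

/-- a homomorphism of an abelian group to `kˣ` detecting an element of infinite order modulo a subgroup -/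
theorem exists_hom_units {Λ : Type u} [CommGroup Λ] [Group.FG Λ] (N : Subgroup Λ) (c : Λ)
    (hc : ∀ n : ℕ, 0 < n → c ^ n ∉ N) : ∃ θ : Λ →* kˣ, (∀ x ∈ N, θ x = 1) ∧ θ c ≠ 1 := by
  classical
  haveI : Group.FG (Λ ⧸ N) := Group.fg_of_surjective (f := QuotientGroup.mk' N) (QuotientGroup.mk'_surjective N)
  let M := Additive (Λ ⧸ N)
  haveI : Module.Finite ℤ M := Module.Finite.iff_addGroup_fg.2 (GroupFG.iff_add_fg.1 ‹Group.FG (Λ ⧸ N)›)
  let x : M := Additive.ofMul (QuotientGroup.mk c : Λ ⧸ N)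
  let Q := M ⧸ Submodule.torsion ℤ M
  haveI : Module.Free ℤ Q := Module.free_of_finite_type_torsion_free'
  have hx : Submodule.Quotient.mk (p := Submodule.torsion ℤ M) x ≠ 0 := by
    intro e
    obtain ⟨⟨a, ha⟩, hax⟩ := (Submodule.Quotient.mk_eq_zero _).1 e
    have hane : a ≠ 0 := nonZeroDivisors.ne_zero ha
    have h1 : ((QuotientGroup.mk c : Λ ⧸ N)) ^ a = 1 := hax
    rw [← QuotientGroup.mk_zpow, QuotientGroup.eq_one_iff] at h1
    refine hc a.natAbs (Int.natAbs_pos.2 hane) ?_
    obtain ⟨n, rfl | rfl⟩ := Int.eq_nat_or_neg a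
    · simpa [zpow_natCast] using h1
    · simpa [zpow_neg, zpow_natCast] using h1
  let bQ := Module.Free.chooseBasis ℤ Q
  obtain ⟨j, hj⟩ : ∃ j, bQ.repr (Submodule.Quotient.mk x) j ≠ 0 := by
    by_contra h
    push Not at h
    exact hx (bQ.repr.injective (Finsupp.ext fun j => by rw [h, map_zero, Finsupp.zero_apply]))
  obtain ⟨m, hm⟩ : ∃ m, bQ.repr (Submodule.Quotient.mk x) j = m := ⟨_, rfl⟩
  obtain ⟨ζ, hζ⟩ : ∃ ζ : kˣ, ζ ^ m ≠ 1 := by
    by_contra h
    push Not at h
    have hn : m.natAbs ≠ 0 := fun e => hj (hm.trans (Int.natAbs_eq_zero.1 e))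
    have hall : ∀ r : k, r ≠ 0 → r ^ m.natAbs = 1 := fun r hr => by
      have h0 := h (Units.mk0 r hr)
      have h2 : (Units.mk0 r hr) ^ m.natAbs = 1 := by
        rcases Int.natAbs_eq m with e | e
        · rwa [e, zpow_natCast] at h0
        · rwa [e, zpow_neg, zpow_natCast, inv_eq_one] at h0
      simpa using congrArg Units.val h2
    haveI : Infinite k := IsAlgClosed.instInfinite
    have hp : ((Polynomial.X ^ m.natAbs - 1) * Polynomial.X : Polynomial k) = 0 :=
      Polynomial.funext fun r => by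
        rcases eq_or_ne r 0 with rfl | hr
        · simp
        · simp [hall r hr]
    exact (mul_ne_zero (Polynomial.X_pow_sub_C_ne_zero (Nat.pos_of_ne_zero hn) (1 : k)) Polynomial.X_ne_zero)
      (by simpa using hp)
  let θ : Λ →* kˣ := ((zpowersHom kˣ ζ).comp
    (AddMonoidHom.toMultiplicative ((Finsupp.applyAddHom j).comp
      (bQ.repr.toLinearMap ∘ₗ (Submodule.torsion ℤ M).mkQ).toAddMonoidHom))).comp
        ((MulEquiv.multiplicativeAdditive (Λ ⧸ N)).symm.toMonoidHom.comp (QuotientGroup.mk' N))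
  refine ⟨θ, fun a ha => ?_, ?_⟩
  · have e : QuotientGroup.mk' N a = 1 := (QuotientGroup.eq_one_iff a).2 ha
    show _ = (1 : kˣ)
    simp only [θ, MonoidHom.comp_apply, e, map_one]
  · show ζ ^ (bQ.repr (Submodule.Quotient.mk x) j) ≠ 1
    rwa [hm]

variable {H : Over (Spec (CommRingCat.of k))} [GrpObj H] {A : Type u} [CommRing A] [IsDomain A] [HopfAlgebra k A]
  [Algebra.FiniteType k A] (ψ : H ⟶ Sp k A) [IsMonHom ψ] [IsIso ψ]

/-- A character trivial on the common kernel of finitely many characters of a connected group has a positive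
power in the subgroup they generate. -/
theorem exists_pow_mem_closure (s : Finset Aˣ) (c : Aˣ)
    (hs : ∀ u ∈ insert c (s : Set Aˣ), ∀ x y : VecGrp.pt k k ⟶ H,
      (ev ψ (x * y)).ofConv (u : A) = (ev ψ x).ofConv (u : A) * (ev ψ y).ofConv (u : A))
    (hker : ∀ x : VecGrp.pt k k ⟶ H, (∀ u ∈ s, (ev ψ x).ofConv (u : A) = 1) → (ev ψ x).ofConv (c : A) = 1) :
    ∃ n : ℕ, 0 < n ∧ c ^ n ∈ Subgroup.closure (s : Set Aˣ) := by
  classical
  by_contra hcon
  push Not at hcon
  let Λ := Subgroup.closure (insert c (s : Set Aˣ))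
  haveI : Group.FG Λ := (Group.fg_iff_subgroup_fg Λ).2 ⟨insert c s, by simp [Λ]⟩
  let ptHom : (VecGrp.pt k k ⟶ H) → Aˣ →* k := fun x =>
    ((ev ψ x).ofConv : A →* k).comp (Units.coeHom A)
  have hmult : ∀ u ∈ Λ, ∀ x y : VecGrp.pt k k ⟶ H, ptHom (x * y) u = ptHom x u * ptHom y u := by
    intro u hu
    induction hu using Subgroup.closure_induction with
    | mem z hz => exact fun x y => hs z hz x y
    | one => intro x y; simp only [map_one, _root_.one_mul]
    | mul z w _ _ hz hw => intro x y; rw [map_mul, hz, hw, map_mul, map_mul]; ring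
    | inv z _ hz =>
      intro x y
      refine mul_left_cancel₀ (b := ptHom (x * y) z⁻¹) (a := ptHom (x * y) z) ?_ ?_
      · exact left_ne_zero_of_mul (b := ptHom (x * y) z⁻¹) (by rw [← map_mul, mul_inv_cancel, map_one]; exact one_ne_zero)
      · conv_rhs => rw [hz, _root_.mul_mul_mul_comm, ← map_mul, ← map_mul, mul_inv_cancel, map_one, map_one, _root_.one_mul]
        rw [← map_mul, mul_inv_cancel, map_one]
  have hone : ∀ u ∈ Λ, ptHom 1 u = 1 := fun u hu => by
    have h := hmult u hu 1 1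
    rw [_root_.one_mul] at h
    refine (mul_eq_left₀ ?_).1 h.symm
    exact left_ne_zero_of_mul (b := ptHom 1 u⁻¹) (by rw [← map_mul, mul_inv_cancel, map_one]; exact one_ne_zero)
  let em : Λ →* A := (Units.coeHom A).comp Λ.subtype
  let Φ : MonoidAlgebra k Λ →ₐ[k] A := MonoidAlgebra.lift k A Λ em
  have hΦ : Function.Injective Φ := by
    have hli : LinearIndependent k (fun u : Λ => ((u : Aˣ) : A)) := by
      let χs : Λ → ((VecGrp.pt k k ⟶ H) →* k) := fun u =>
        { toFun := fun x => ptHom x u, map_one' := hone u u.2, map_mul' := hmult u u.2 }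
      have hinj : Function.Injective χs := fun u v e => Subtype.ext (Units.ext (eq_of_forall_ev ψ fun x =>
        (DFunLike.congr_fun e x : ptHom x u = ptHom x v)))
      have h := (linearIndependent_monoidHom (VecGrp.pt k k ⟶ H) k).comp χs hinj
      exact LinearIndependent.of_comp
        ({ toFun := fun a x => (ev ψ x).ofConv a
           map_add' := fun a b => funext fun x => map_add _ a b
           map_smul' := fun r a => funext fun x => map_smul _ r a } : A →ₗ[k] ((VecGrp.pt k k ⟶ H) → k)) h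
    intro p q hpq
    have hl : ∀ z : MonoidAlgebra k Λ, Φ z = Finsupp.linearCombination k (fun u : Λ => ((u : Aˣ) : A)) z.coeff := by
      intro z
      induction z using MonoidAlgebra.induction_linear with
      | zero => simp
      | add a b ha hb => rw [map_add, ha, hb, MonoidAlgebra.coeff_add, map_add]
      | single u r => simp [Φ, em]
    rw [hl, hl] at hpq
    exact MonoidAlgebra.coeff_injective (hli hpq)
  haveI : IsDomain (MonoidAlgebra k Λ) := hΦ.isDomain Φ.toRingHom
  haveI : Algebra.FiniteType k (MonoidAlgebra k Λ) := MonoidAlgebra.finiteType_iff_group_fg.2 inferInstance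
  obtain ⟨b, hb, hext⟩ := exists_extend Φ hΦ
  obtain ⟨θ, hθN, hθc⟩ := exists_hom_units (k := k) (Subgroup.comap Λ.subtype (Subgroup.closure (s : Set Aˣ)))
    (⟨c, Subgroup.subset_closure (Set.mem_insert c _)⟩ : Λ) (fun n hn h => hcon n hn h)
  let tw : (Λ →* kˣ) → (MonoidAlgebra k Λ →ₐ[k] MonoidAlgebra k Λ) := fun θ =>
    MonoidAlgebra.lift k (MonoidAlgebra k Λ) Λ
      { toFun := fun u => MonoidAlgebra.single u (θ u : k)
        map_one' := by simp [MonoidAlgebra.one_def]
        map_mul' := fun u v => by simp [MonoidAlgebra.single_mul_single] }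
  have htw : tw θ b ≠ 0 := by
    intro e
    refine hb ?_
    have h2 : (tw θ⁻¹).comp (tw θ) = AlgHom.id k _ := by
      refine MonoidAlgebra.algHom_ext (fun u => ?_) ?_
      · simp [tw]
      · ext r
    have := congrArg (tw θ⁻¹) e
    rw [map_zero, ← AlgHom.comp_apply, h2] at this
    exact this
  obtain ⟨φ, hφ⟩ : ∃ φ : MonoidAlgebra k Λ →ₐ[k] k, φ (b * tw θ b) ≠ 0 := exists_algHom_ne (mul_ne_zero hb htw)
  rw [map_mul, mul_ne_zero_iff] at hφ
  obtain ⟨φ₁, h₁⟩ := hext φ hφ.1
  obtain ⟨φ₂, h₂⟩ := hext (φ.comp (tw θ)) hφ.2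
  obtain ⟨x₁, hx₁⟩ := ev_surjective ψ (toConv φ₁)
  obtain ⟨x₂, hx₂⟩ := ev_surjective ψ (toConv φ₂)
  have hval : ∀ u : Λ, ptHom (x₁⁻¹ * x₂) u = (θ u : k) := by
    intro u
    have e1 : φ₁ ((u : Aˣ) : A) = φ (MonoidAlgebra.single u 1) := by
      rw [← h₁, AlgHom.comp_apply]; simp [Φ, em]
    have e2 : φ₂ ((u : Aˣ) : A) = φ₁ ((u : Aˣ) : A) * θ u := by
      have h := DFunLike.congr_fun h₂ (MonoidAlgebra.single u 1)
      rw [AlgHom.comp_apply, AlgHom.comp_apply] at h
      have e3 : tw θ (MonoidAlgebra.single u 1) = (θ u : k) • MonoidAlgebra.single u 1 := by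
        simp [tw, MonoidAlgebra.smul_single']
      rw [e3, map_smul, ← e1] at h
      rw [mul_comm]
      simpa [Φ, em] using h
    have hne : φ₁ ((u : Aˣ) : A) ≠ 0 := (IsUnit.map φ₁ (u : Aˣ).isUnit).ne_zero
    have h := hmult u u.2 x₁ (x₁⁻¹ * x₂)
    rw [mul_inv_cancel_left] at h
    change (ev ψ x₂).ofConv ((u : Aˣ) : A) = (ev ψ x₁).ofConv ((u : Aˣ) : A) * _ at h
    rw [hx₁, hx₂] at h
    change φ₂ _ = φ₁ _ * _ at h
    rw [e2] at h
    exact (mul_left_cancel₀ hne h).symm
  refine hθc (Units.ext ?_)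
  rw [← hval, Units.val_one]
  refine hker _ fun u hu => ?_
  have h := hval ⟨u, Subgroup.subset_closure (Set.mem_insert_of_mem _ hu)⟩
  rw [hθN ⟨u, _⟩ (Subgroup.subset_closure hu), Units.val_one] at h
  exact h

end Groth.L25.Observable
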