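import Groth.Agent.L25.Observable.Consequences
import Groth.Agent.L19.AlgGrpBasic.OpenSubgroup

/-!
# Observability passes to overgroups of finite index
-/

set_option autoImplicit false
set_option backward.isDefEq.respectTransparency.types false
set_option maxHeartbeats 800000

universe u

open CategoryTheory CategoryTheory.Limits MonoidalCategory CartesianMonoidalCategory MonObj AlgebraicGeometry
open scoped TensorProduct
open WithConv

noncomputable section

namespace Groth.L25.Observable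

variable {k : Type u} [Field k] [IsAlgClosed k] {G H H₁ : Over (Spec (CommRingCat.of k))} [GrpObj G] [IsAffine G.left]
  [Smooth G.hom] [GrpObj H] [Smooth H.hom] [GrpObj H₁]

theorem observable_of_finiteIndex (i : H ⟶ G) [IsMonHom i] [IsClosedImmersion i.left] (a : H₁ ⟶ H) [IsMonHom a]
    [IsClosedImmersion a.left] [IsOpenImmersion a.left] (hobs : AGF.IsObservableIn k (a ≫ i)) :
    AGF.IsObservableIn k i := by
  classical
  haveI : IsAffine H.left := isAffine_of_isAffineHom i.left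
  haveI : Smooth H₁.hom := by rw [← Over.w a]; infer_instance
  haveI : IsClosedImmersion (a ≫ i).left := inferInstanceAs (IsClosedImmersion (a.left ≫ i.left))
  obtain ⟨A, _, _, ψ, _, _, _, _⟩ := exists_chart G
  obtain ⟨F₀, hF₀⟩ := Groth.L19.AlgGrpBasic.exists_cosets (k := k) k a
  let S : Subgroup (VecGrp.pt k k ⟶ H) :=
    ((MonoidHom.mk' (fun x : VecGrp.pt k k ⟶ H₁ => x ≫ a) fun x y => MonObj.mul_comp x y a)).range
  haveI : Finite ((VecGrp.pt k k ⟶ H) ⧸ S) := by
    refine Finite.of_surjective (fun c : F₀ => ((c.1 : VecGrp.pt k k ⟶ H) : (VecGrp.pt k k ⟶ H) ⧸ S)) fun q => ?_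
    induction q using QuotientGroup.induction_on with
    | H h =>
      obtain ⟨c, hc, x, hx⟩ := hF₀ h
      exact ⟨⟨c, hc⟩, QuotientGroup.eq.2 ⟨x, by show x ≫ a = c⁻¹ * h; rw [hx, inv_mul_cancel_left]⟩⟩
  haveI := Fintype.ofFinite ((VecGrp.pt k k ⟶ H) ⧸ S)
  refine observable_of_negPow ψ i fun χ hχ f hf0 hf => ?_
  have haχ : IsMonHom (a ≫ χ) := inferInstanceAs (IsMonHom (a ≫ χ))
  have hca : ∀ z : VecGrp.pt k k ⟶ H₁, VecGrp.chiVal (a ≫ χ) z = VecGrp.chiVal χ (z ≫ a) := fun z => by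
    show _ = (Scheme.ΓSpecIso (CommRingCat.of k)).hom (Red.gmFn ((z ≫ a) ≫ χ))
    rw [Category.assoc]
    rfl
  have hfa : Semi ψ (a ≫ i) (VecGrp.chiVal (a ≫ χ)) f := fun x z => by
    rw [hca, ← Category.assoc]; exact hf x _
  obtain ⟨f₀, hf₀0, hf₀⟩ := (observable_iff_semi ψ (a ≫ i)).1 hobs (a ≫ χ) haχ f hf0 hfa
  obtain ⟨f₁, hf₁, hf₁1⟩ := hf₀.exists_normalized hf₀0
  let W : Submodule k A := Submodule.span k (Set.range fun y : VecGrp.pt k k ⟶ G => L (ev ψ y).ofConv f₁)
  have hW : ∀ w ∈ W, Semi ψ (a ≫ i) (VecGrp.chiVal (a ≫ χ)⁻¹) w := by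
    intro w hw
    induction hw using Submodule.span_induction with
    | mem z hz => obtain ⟨y, rfl⟩ := hz; exact hf₁.translate y
    | zero => intro x z; simp
    | add z w _ _ hz hw => intro x t; rw [map_add, map_add, hz, hw, mul_add]
    | smul c z _ hz => intro x t; rw [map_smul, map_smul, hz, smul_eq_mul, smul_eq_mul]; ring
  obtain ⟨F, hFW, hreg⟩ := exists_nonZeroDivisor W (fun φ => by
    obtain ⟨g, hg⟩ := ev_surjective ψ (toConv φ)
    refine ⟨_, Submodule.subset_span ⟨g⁻¹, rfl⟩, ?_⟩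
    have e : φ (L (ev ψ g⁻¹).ofConv f₁) = (ev ψ (g⁻¹ * g)).ofConv f₁ := by
      rw [ev_mul, ← apply_L_pt, hg]
    rw [e, inv_mul_cancel, hf₁1]
    exact one_ne_zero)
  let P : A := ∏ r : (VecGrp.pt k k ⟶ H) ⧸ S, Rt (ev ψ (r.out ≫ i)).ofConv F
  have hP : ∀ x, (ev ψ x).ofConv P = ∏ r : (VecGrp.pt k k ⟶ H) ⧸ S, (ev ψ (x * (r.out ≫ i))).ofConv F := fun x => by
    rw [map_prod]
    exact Finset.prod_congr rfl fun r _ => by rw [apply_Rt, ← ev_mul]
  have hPreg : ∀ c : A, c * P = 0 → c = 0 := by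
    have key : ∀ (g : VecGrp.pt k k ⟶ G) (c : A), c * Rt (ev ψ g).ofConv F = 0 → c = 0 := by
      intro g c hc
      have h1 : Rt (ev ψ g⁻¹).ofConv c * F = 0 := eq_of_forall_ev ψ fun x => by
        have := congrArg (ev ψ (x * g⁻¹)).ofConv hc
        rw [map_mul, apply_Rt, ← ev_mul, inv_mul_cancel_right, map_zero] at this
        rw [map_mul, apply_Rt, ← ev_mul, map_zero]
        exact this
      have h2 := hreg _ h1
      refine eq_of_forall_ev ψ fun x => ?_
      have := congrArg (ev ψ (x * g)).ofConv h2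
      rw [apply_Rt, ← ev_mul, mul_inv_cancel_right, map_zero] at this
      rw [this, map_zero]
    intro c hc
    suffices h : ∀ s : Finset ((VecGrp.pt k k ⟶ H) ⧸ S), ∀ c : A,
        c * ∏ r ∈ s, Rt (ev ψ (r.out ≫ i)).ofConv F = 0 → c = 0 from h Finset.univ c hc
    intro s
    induction s using Finset.induction_on with
    | empty => intro c hc; simpa using hc
    | insert r s hr ih =>
      intro c hc
      rw [Finset.prod_insert hr, ← _root_.mul_assoc] at hc
      exact key _ _ (ih _ hc)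
  refine ⟨Fintype.card ((VecGrp.pt k k ⟶ H) ⧸ S), P, Fintype.card_pos, fun e => hf0 (hPreg f (by rw [e, mul_zero])),
    fun x h => ?_⟩
  let σ : Equiv.Perm ((VecGrp.pt k k ⟶ H) ⧸ S) := MulAction.toPerm h
  have hu : ∀ r : (VecGrp.pt k k ⟶ H) ⧸ S, ∃ z : VecGrp.pt k k ⟶ H₁, h * r.out = (σ r).out * (z ≫ a) := by
    intro r
    have e : ((h * r.out : VecGrp.pt k k ⟶ H) : (VecGrp.pt k k ⟶ H) ⧸ S) = ((σ r).out : VecGrp.pt k k ⟶ H) := by
      rw [QuotientGroup.out_eq']
      show _ = h • r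
      conv_rhs => rw [← QuotientGroup.out_eq' r]
      rfl
    obtain ⟨z, hz⟩ := QuotientGroup.eq.1 e.symm
    exact ⟨z, by rw [show z ≫ a = _ from hz, mul_inv_cancel_left]⟩
  choose z hz using hu
  have hχne : ∀ t : VecGrp.pt k k ⟶ H, VecGrp.chiVal χ t ≠ 0 := fun t => (chiVal_inv_eq χ t).1
  have hpow : VecGrp.chiVal χ h ^ Fintype.card ((VecGrp.pt k k ⟶ H) ⧸ S) = ∏ r, VecGrp.chiVal χ (z r ≫ a) := by
    have e := congrArg (fun g : _ → (VecGrp.pt k k ⟶ H) => ∏ r, VecGrp.chiVal χ (g r)) (funext hz)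
    simp only [chiVal_mul χ, Finset.prod_mul_distrib, Finset.prod_const, Finset.card_univ] at e
    rw [Equiv.prod_comp σ fun r => VecGrp.chiVal χ r.out, mul_comm] at e
    exact mul_left_cancel₀ (Finset.prod_ne_zero_iff.2 fun r _ => hχne _) e
  beta_reduce
  rw [hP, hP, inv_pow, hpow, ← Finset.prod_inv_distrib, ← Equiv.prod_comp σ fun r => (ev ψ (x * (r.out ≫ i))).ofConv F,
    ← Finset.prod_mul_distrib]
  refine Finset.prod_congr rfl fun r _ => ?_
  rw [_root_.mul_assoc, ← MonObj.mul_comp, hz, MonObj.mul_comp, ← _root_.mul_assoc, Category.assoc, hW F hFW,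
    (chiVal_inv_eq (a ≫ χ) _).2, hca]

end Groth.L25.Observable
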