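import Groth.Agent.L25.Observable.Hull
import Groth.Agent.L25.Observable.Regular
import Mathlib.RingTheory.Spectrum.Prime.Chevalley
import Mathlib.RingTheory.Spectrum.Prime.Jacobson
import Mathlib.RingTheory.Jacobson.Ring
import Mathlib.RingTheory.FinitePresentation
import Mathlib.RingTheory.Ideal.Height
import Mathlib.RingTheory.Ideal.MinimalPrime.Noetherian
import Mathlib.RingTheory.Ideal.MinimalPrime.Localization

/-!
# The orbit in the spectrum of the invariant functions
-/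

set_option autoImplicit false
set_option backward.isDefEq.respectTransparency.types false
set_option maxHeartbeats 1000000

universe u

open CategoryTheory MonoidalCategory CartesianMonoidalCategory MonObj AlgebraicGeometry
open WithConv PrimeSpectrum

noncomputable section

namespace Groth.L25.Observable

/-- a constructible set which contains the generic point of a component contains an open set -/
theorem exists_basicOpen_subset {R : Type u} [CommRing R] [IsNoetherianRing R] [_root_.IsReduced R]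
    {s : Set (PrimeSpectrum R)} (hs : Topology.IsConstructible s) (gp : PrimeSpectrum R)
    (hgp : gp.asIdeal ∈ minimalPrimes R) (hgps : gp ∈ s) :
    ∃ c : R, gp ∈ basicOpen c ∧ (basicOpen c : Set (PrimeSpectrum R)) ⊆ s := by
  classical
  obtain ⟨D, hD⟩ := exists_constructibleSetData_iff.2 hs
  rw [← hD, ConstructibleSetData.toSet, Set.mem_iUnion₂] at hgps
  obtain ⟨C, hC, hg, hf⟩ := hgps
  let T := (minimalPrimes.finite_of_isNoetherianRing R).toFinset.erase gp.asIdeal
  have hT : ∀ q ∈ T, ∃ c ∈ q, c ∉ gp.asIdeal := by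
    intro q hq
    obtain ⟨hne, hq⟩ := Finset.mem_erase.1 hq
    have hq' : q ∈ minimalPrimes R := (Set.Finite.mem_toFinset _).1 hq
    exact SetLike.not_le_iff_exists.1 fun hle => hne (le_antisymm hle (hgp.2 ⟨hq'.isPrime, bot_le⟩ hle))
  choose c hc hcgp using hT
  have hd : (∏ q ∈ T.attach, c q.1 q.2) ∉ gp.asIdeal := fun h => by
    obtain ⟨q, -, hq⟩ := (Ideal.IsPrime.prod_mem_iff (hp := gp.2)).1 h
    exact hcgp _ _ hq
  have hfgp : C.f ∉ gp.asIdeal := fun h => hf (Set.singleton_subset_iff.2 h)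
  refine ⟨(∏ q ∈ T.attach, c q.1 q.2) * C.f, fun h => (gp.2.mem_or_mem h).elim hd hfgp, fun P hP => ?_⟩
  rw [← hD, ConstructibleSetData.toSet]
  refine Set.mem_iUnion₂.2 ⟨C, hC, fun a ha => ?_, fun h => hP ?_⟩
  · obtain ⟨q, hq, hqP⟩ := Ideal.exists_minimalPrimes_le (bot_le : (⊥ : Ideal R) ≤ P.asIdeal)
    by_cases hqgp : q = gp.asIdeal
    · exact hqP (hqgp ▸ hg ha)
    · exfalso
      have hqT : q ∈ T := Finset.mem_erase.2 ⟨hqgp, (Set.Finite.mem_toFinset _).2 hq⟩
      refine hP (P.asIdeal.mul_mem_right _ ?_)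
      rw [← Finset.mul_prod_erase _ _ (Finset.mem_attach T ⟨q, hqT⟩)]
      exact P.asIdeal.mul_mem_right _ (hqP (hc q hqT))
  · exact P.asIdeal.mul_mem_left _ (Set.singleton_subset_iff.1 h)

variable {k : Type u} [Field k] [IsAlgClosed k] {G H : Over (Spec (CommRingCat.of k))} [GrpObj G]
  {A : Type u} [CommRing A] [HopfAlgebra k A] [_root_.IsReduced A] [Algebra.FiniteType k A]
  (ψ : G ⟶ Sp k A) [IsMonHom ψ] [IsIso ψ]

omit [IsMonHom ψ] [_root_.IsReduced A] in
/-- maximal ideals are the kernels of evaluation at points -/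
theorem exists_pt_of_isMaximal (m : Ideal A) [hm : m.IsMaximal] :
    ∃ x : VecGrp.pt k k ⟶ G, RingHom.ker (ev ψ x).ofConv = m := by
  letI : Field (A ⧸ m) := Ideal.Quotient.field m
  haveI : Module.Finite k (A ⧸ m) := finite_of_finite_type_of_isJacobsonRing k (A ⧸ m)
  let e : k ≃ₐ[k] A ⧸ m := AlgEquiv.ofBijective (Algebra.ofId k (A ⧸ m))
    (IsAlgClosed.algebraMap_bijective_of_isIntegral (k := k) (K := A ⧸ m))
  obtain ⟨x, hx⟩ := ev_surjective ψ (toConv (e.symm.toAlgHom.comp (Ideal.Quotient.mkₐ k m)))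
  refine ⟨x, ?_⟩
  rw [hx]
  ext a
  rw [RingHom.mem_ker]
  show e.symm (Ideal.Quotient.mk m a) = 0 ↔ _
  rw [map_eq_zero_iff _ e.symm.injective, Ideal.Quotient.eq_zero_iff_mem]

/-- the image of a group in the spectrum of its invariant functions is open, with small complement -/
theorem isOpen_range_and_height (i : H ⟶ G) (S : Subalgebra k A) (hS : ∀ a, a ∈ S ↔ a ∈ inv' ψ i)
    (hfg : S.FG) :
    IsOpen (Set.range (comap S.val.toRingHom)) ∧
      ∀ p : PrimeSpectrum S, p ∉ Set.range (comap S.val.toRingHom) → (2 : ℕ∞) ≤ p.asIdeal.height := by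
  classical
  haveI : Algebra.FiniteType k S := ⟨(Subalgebra.fg_top S).2 hfg⟩
  haveI : IsNoetherianRing S := Algebra.FiniteType.isNoetherianRing k S
  haveI : IsNoetherianRing A := Algebra.FiniteType.isNoetherianRing k A
  haveI : IsJacobsonRing S := isJacobsonRing_of_finiteType (A := k) (B := S)
  haveI : IsJacobsonRing A := isJacobsonRing_of_finiteType (A := k) (B := A)
  haveI : _root_.IsReduced S := isReduced_of_injective S.val Subtype.val_injective
  let φ : S →+* A := S.val.toRingHom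
  have hfp : φ.FinitePresentation := by
    letI := φ.toAlgebra
    haveI : IsScalarTower k S A := IsScalarTower.of_algebraMap_eq fun c => rfl
    haveI : Algebra.FiniteType S A := Algebra.FiniteType.of_restrictScalars_finiteType k S A
    exact Algebra.FinitePresentation.of_finiteType.1 inferInstance
  have hcons : Topology.IsConstructible (Set.range (comap φ)) := isConstructible_range_comap hfp
  -- translations
  let τ : (VecGrp.pt k k ⟶ G) → (S →+* S) := fun g =>
    ((Lt (ev ψ g).ofConv).toRingHom.comp φ).codRestrict S.toSubring fun a => (hS _).2 fun x h => by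
      show (ev ψ (x * (h ≫ i))).ofConv (Lt (ev ψ g).ofConv (a : A)) = (ev ψ x).ofConv (Lt (ev ψ g).ofConv (a : A))
      rw [apply_Lt, apply_Lt, ← ev_mul, ← ev_mul, ← _root_.mul_assoc]
      exact (hS _).1 a.2 _ h
  let pX : (VecGrp.pt k k ⟶ G) → PrimeSpectrum A := fun x => ⟨RingHom.ker (ev ψ x).ofConv, RingHom.ker_isPrime _⟩
  have hτ : ∀ g x, comap (τ g) (comap φ (pX x)) = comap φ (pX (g * x)) := by
    intro g x
    refine PrimeSpectrum.ext (Ideal.ext fun a => ?_)
    show (ev ψ x).ofConv (Lt (ev ψ g).ofConv (a : A)) = 0 ↔ (ev ψ (g * x)).ofConv (a : A) = 0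
    rw [apply_Lt, ← ev_mul]
  have hτA : ∀ g, comap (τ g) ∘ comap φ = comap φ ∘ comap (Lt (ev ψ g).ofConv).toRingHom := fun g =>
    funext fun P => PrimeSpectrum.ext (Ideal.ext fun a => Iff.rfl)
  have hopen : IsOpen (Set.range (comap φ)) := by
    rcases subsingleton_or_nontrivial S with hS0 | hS0
    · exact (Set.range (comap φ)).eq_empty_of_isEmpty ▸ isOpen_empty
    obtain ⟨m, hm⟩ := Ideal.exists_maximal S
    haveI := hm.isPrime
    obtain ⟨q, hq, -⟩ := Ideal.exists_minimalPrimes_le (bot_le : (⊥ : Ideal S) ≤ m)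
    obtain ⟨Q, hQ, hQq⟩ := Ideal.exists_comap_eq_of_mem_minimalPrimes_of_injective
      (f := φ) Subtype.val_injective q hq
    obtain ⟨c, hgpc, hc⟩ := exists_basicOpen_subset hcons ⟨q, hq.isPrime⟩ hq ⟨⟨Q, hQ⟩, PrimeSpectrum.ext hQq⟩
    -- a rational point in the open piece
    obtain ⟨P₀, hP₀, hP₀c⟩ : ∃ P : PrimeSpectrum A, P ∈ closedPoints (PrimeSpectrum A) ∧ comap φ P ∈ basicOpen c := by
      obtain ⟨P, hP⟩ := hc hgpc
      obtain ⟨P', hP'1, hP'2⟩ := nonempty_inter_closedPoints (X := PrimeSpectrum A)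
        (Z := comap φ ⁻¹' (basicOpen c : Set (PrimeSpectrum S))) ⟨P, show comap φ P ∈ _ from hP.symm ▸ hgpc⟩
        (((basicOpen c).isOpen.preimage (PrimeSpectrum.continuous_comap φ)).isLocallyClosed)
      exact ⟨P', hP'2, hP'1⟩
    obtain ⟨x₀, hx₀⟩ := @exists_pt_of_isMaximal _ _ _ G _ A _ _ _ ψ _ P₀.asIdeal
      ((isClosed_singleton_iff_isMaximal _).1 hP₀)
    have hx₀' : pX x₀ = P₀ := PrimeSpectrum.ext hx₀
    let O : Set (PrimeSpectrum S) := ⋃ g : VecGrp.pt k k ⟶ G, comap (τ g) ⁻¹' (basicOpen c : Set (PrimeSpectrum S))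
    have hO : IsOpen O := isOpen_iUnion fun g => (basicOpen c).isOpen.preimage (PrimeSpectrum.continuous_comap _)
    suffices hrange : Set.range (comap φ) = O by rw [hrange]; exact hO
    refine Set.Subset.antisymm ?_ ?_
    · rintro _ ⟨P, rfl⟩
      by_contra hP
      obtain ⟨P', hP'1, hP'2⟩ := nonempty_inter_closedPoints (X := PrimeSpectrum A)
        (Z := comap φ ⁻¹' Oᶜ) ⟨P, hP⟩ ((hO.isClosed_compl.preimage (PrimeSpectrum.continuous_comap φ)).isLocallyClosed)
      obtain ⟨x, hx⟩ := @exists_pt_of_isMaximal _ _ _ G _ A _ _ _ ψ _ P'.asIdeal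
        ((isClosed_singleton_iff_isMaximal _).1 hP'2)
      refine hP'1 (Set.mem_iUnion.2 ⟨x₀ * x⁻¹, ?_⟩)
      show comap (τ (x₀ * x⁻¹)) (comap φ P') ∈ (basicOpen c : Set (PrimeSpectrum S))
      rw [← show pX x = P' from PrimeSpectrum.ext hx, hτ, inv_mul_cancel_right, hx₀']
      exact hP₀c
    · intro y hy
      obtain ⟨g, hg⟩ := Set.mem_iUnion.1 hy
      obtain ⟨P, hP⟩ := hc hg
      refine ⟨comap (Lt (ev ψ g⁻¹).ofConv).toRingHom P, ?_⟩
      rw [← Function.comp_apply (f := comap φ), ← hτA, Function.comp_apply, hP,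
        ← PrimeSpectrum.comap_comp_apply,
        show (τ g).comp (τ g⁻¹) = RingHom.id S from RingHom.ext fun a => Subtype.ext (eq_of_forall_ev ψ fun x => ?_),
        PrimeSpectrum.comap_id]
      · show (ev ψ x).ofConv (Lt (ev ψ g).ofConv (Lt (ev ψ g⁻¹).ofConv (a : A))) = _
        rw [apply_Lt, apply_Lt, ← ev_mul, ← ev_mul, inv_mul_cancel_left]
        rfl
  refine ⟨hopen, fun p hp => ?_⟩
  by_contra hlt
  rw [not_le] at hlt
  have hle : p.asIdeal.height ≤ 1 := Order.le_of_lt_succ (by simpa [ENat.succ_coe, one_add_one_eq_two] using hlt)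
  -- an element cutting out the point
  obtain ⟨s, hsp, hsmin⟩ : ∃ s ∈ p.asIdeal, p.asIdeal ∈ (Ideal.span {s}).minimalPrimes := by
    by_cases h0 : p.asIdeal ∈ minimalPrimes S
    · exact ⟨0, p.asIdeal.zero_mem, by rw [Ideal.span_singleton_eq_bot.2 rfl]; exact h0⟩
    obtain ⟨s, hs, hsq⟩ : ∃ s ∈ p.asIdeal, ∀ q ∈ minimalPrimes S, q ≤ p.asIdeal → s ∉ q := by
      by_contra hcon
      push Not at hcon
      let T := (minimalPrimes.finite_of_isNoetherianRing S).toFinset.filter (· ≤ p.asIdeal)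
      have hsub : (p.asIdeal : Set S) ⊆ ⋃ q ∈ (↑T : Set (Ideal S)), (q : Set S) := fun s hs => by
        obtain ⟨q, hq, hqp, hsq⟩ := hcon s hs
        exact Set.mem_iUnion₂.2 ⟨q, Finset.mem_filter.2 ⟨(Set.Finite.mem_toFinset _).2 hq, hqp⟩, hsq⟩
      obtain ⟨q, hq, hpq⟩ := (Ideal.subset_union_prime (f := fun q : Ideal S => q) ⊥ ⊥ fun q hq _ _ =>
        ((Set.Finite.mem_toFinset _).1 (Finset.mem_filter.1 hq).1).isPrime).1 hsub
      obtain ⟨hq1, hq2⟩ := Finset.mem_filter.1 hq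
      exact h0 (le_antisymm hpq hq2 ▸ (Set.Finite.mem_toFinset _).1 hq1)
    refine ⟨s, hs, ⟨p.2, (Ideal.span_singleton_le_iff_mem _).2 hs⟩, fun q ⟨hq, hsq'⟩ hqp => ?_⟩
    by_contra hne
    haveI := hq
    haveI : p.asIdeal.FiniteHeight := ⟨Or.inr (ne_top_of_le_ne_top (by simp) hle)⟩
    haveI := Ideal.finiteHeight_of_le hqp p.2.ne_top
    have h1 : q.height < 1 := (Ideal.height_strict_mono_of_isPrime (lt_of_le_of_ne hqp fun e => hne e.ge)).trans_le hle
    exact hsq q (Ideal.height_eq_zero_iff.1 (Order.lt_one_iff.1 h1)) hqp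
      ((Ideal.span_singleton_le_iff_mem _).1 hsq')
  obtain ⟨t, htp, ht⟩ : ∃ t ∉ p.asIdeal, ∀ q ∈ (Ideal.span {s}).minimalPrimes, q ≠ p.asIdeal → t ∈ q := by
    let T := ((Ideal.span {s}).finite_minimalPrimes_of_isNoetherianRing S).toFinset.erase p.asIdeal
    have hT : ∀ q ∈ T, ∃ c ∈ q, c ∉ p.asIdeal := by
      intro q hq
      obtain ⟨hne, hq⟩ := Finset.mem_erase.1 hq
      have hq' := (Set.Finite.mem_toFinset _).1 hq
      exact SetLike.not_le_iff_exists.1 fun hle' => hne (le_antisymm hle' (hsmin.2 hq'.1 hle'))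
    choose c hc hcp using hT
    refine ⟨∏ q ∈ T.attach, c q.1 q.2, fun h => ?_, fun q hq hqp => ?_⟩
    · obtain ⟨q, -, hq⟩ := (Ideal.IsPrime.prod_mem_iff (hp := p.2)).1 h
      exact hcp _ _ hq
    · have hqT : q ∈ T := Finset.mem_erase.2 ⟨hqp, (Set.Finite.mem_toFinset _).2 hq⟩
      rw [← Finset.mul_prod_erase _ _ (Finset.mem_attach T ⟨q, hqT⟩)]
      exact q.mul_mem_right _ (hc q hqT)
  have hrad : (t : A) ∈ (Ideal.span {(s : A)}).radical := by
    rw [Ideal.radical_eq_sInf, Ideal.mem_sInf]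
    rintro Q ⟨hsQ, hQ⟩
    by_contra htQ
    have hy : comap φ ⟨Q, hQ⟩ ∈ Set.range (comap φ) := ⟨_, rfl⟩
    obtain ⟨q, hq, hqy⟩ := Ideal.exists_minimalPrimes_le (I := Ideal.span {s}) (J := (comap φ ⟨Q, hQ⟩).asIdeal)
      ((Ideal.span_singleton_le_iff_mem _).2 ((Ideal.span_singleton_le_iff_mem Q).1 hsQ : (s : A) ∈ Q))
    by_cases hqp : q = p.asIdeal
    · subst hqp
      exact hp (hopen.stableUnderGeneralization ((PrimeSpectrum.le_iff_specializes p _).1 hqy) hy)
    · exact htQ (hqy (ht q hq hqp))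
  obtain ⟨n, hn⟩ := hrad
  obtain ⟨F, hF⟩ := Ideal.mem_span_singleton'.1 hn
  have hF' : F * (t : A) ∈ S := by
    refine (hS _).2 fun x h => ?_
    have hs1 := (hS _).1 s.2 x h
    have ht1 := (hS _).1 t.2 x h
    have e1 := congrArg (ev ψ x).ofConv hF
    have e2 := congrArg (ev ψ (x * (h ≫ i))).ofConv hF
    rw [map_mul, map_pow] at e1 e2
    rw [hs1, ht1] at e2
    rw [map_mul, map_mul, ht1]
    rcases eq_or_ne ((ev ψ x).ofConv (s : A)) 0 with h0 | h0
    · rw [h0, mul_zero] at e1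
      rw [eq_zero_of_pow_eq_zero e1.symm, mul_zero, mul_zero]
    · rw [mul_right_cancel₀ h0 (e2.trans e1.symm)]
  have hmem : t ^ (n + 1) ∈ p.asIdeal := by
    have e : t ^ (n + 1) = s * ⟨F * (t : A), hF'⟩ := Subtype.ext (by
      show (t : A) ^ (n + 1) = (s : A) * (F * (t : A))
      rw [pow_succ, ← hF]; ring)
    rw [e]
    exact p.asIdeal.mul_mem_right _ hsp
  exact htp (p.2.mem_of_pow_mem _ hmem)

end Groth.L25.Observable
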