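import Groth.Agent.L25.Observable.Translate
import Groth.Agent.L08.Flag
import Mathlib.RingTheory.HopfAlgebra.Quotient

/-!
# Eigenvalues of unipotent translations
-/

set_option autoImplicit false
set_option backward.isDefEq.respectTransparency.types false

universe u

open scoped TensorProduct
open WithConv

noncomputable section

namespace Groth.L25.Observable

open Groth.L08

variable {k : Type u} [Field k] {A : Type u} [CommRing A] [HopfAlgebra k A]

/-- an eigenvalue of translation by a point of a unipotent quotient is `1` -/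
theorem eq_one_of_eigen (J : Ideal A) [J.IsHopfIdeal k] (hU : HopfRep.IsUnipotent k (A ⧸ J)) (x : A →ₐ[k] k)
    (hx : ∀ a ∈ J, x a = 0) (c : k) (f : A) (hf : f ∉ J) (he : Rt x f = c • f) : c = 1 := by
  let q : A →ₐc[k] A ⧸ J := Bialgebra.Quotient.mkBialgHom (R := k) J
  let xb : A ⧸ J →ₐ[k] k := Ideal.Quotient.liftₐ J x hx
  have hxq : ∀ a, xb (q a) = x a := fun a => rfl
  have hact : fAct (A ⧸ J) xb.toLinearMap (q f) = c • q f := by
    rw [fAct_apply]
    have key : ∀ z : A ⊗[k] A, TensorProduct.rid k (A ⧸ J)
        (xb.toLinearMap.lTensor (A ⧸ J) (TensorProduct.map (q : A →ₗc[k] A ⧸ J).toLinearMap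
          (q : A →ₗc[k] A ⧸ J).toLinearMap z)) =
        q ((Algebra.TensorProduct.rid k k A) (Algebra.TensorProduct.map (AlgHom.id k A) x z)) := by
      intro z
      induction z using TensorProduct.induction_on with
      | zero => simp
      | add a b ha hb => simp only [map_add, ha, hb]
      | tmul a b =>
        simp only [TensorProduct.map_tmul, LinearMap.lTensor_tmul, TensorProduct.rid_tmul,
          Algebra.TensorProduct.map_tmul, Algebra.TensorProduct.rid_tmul, AlgHom.id_apply]
        rw [map_smul]
        rfl
    have e : Coalgebra.comul (R := k) (q f) =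
        TensorProduct.map (q : A →ₗc[k] A ⧸ J).toLinearMap (q : A →ₗc[k] A ⧸ J).toLinearMap (Coalgebra.comul f) :=
      (CoalgHomClass.map_comp_comul_apply q f).symm
    show TensorProduct.rid k (A ⧸ J) (xb.toLinearMap.lTensor (A ⧸ J) (Coalgebra.comul (R := k) (q f))) = _
    rw [e, key, show (Algebra.TensorProduct.rid k k A) (Algebra.TensorProduct.map (AlgHom.id k A) x
      (Coalgebra.comul f)) = Rt x f from rfl, he, map_smul]
  have hne : q f ≠ 0 := fun e => hf (Ideal.Quotient.eq_zero_iff_mem.1 e)
  obtain ⟨m, F, h0, hm, hstep⟩ := hasFlag_of_isUnipotent hU (q f)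
  by_contra hc
  have hdown : ∀ i, q f ∈ F i → False := by
    intro i
    induction i with
    | zero => intro hi; rw [h0] at hi; exact hne hi
    | succ i ih =>
      intro hi
      obtain ⟨g, rfl, hs⟩ := hstep i
      have h1 := hs (q f) hi xb.toLinearMap
      rw [hact, show xb.toLinearMap (1 : A ⧸ J) = 1 from map_one xb, one_smul,
        show c • q f - q f = (c - 1) • q f by rw [sub_smul, one_smul]] at h1
      exact ih ((Submodule.smul_mem_iff _ (sub_ne_zero.2 hc)).1 h1)
  exact hdown m hm

end Groth.L25.Observable
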