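import Groth.Agent.L25.Observable.CharPow
import Groth.Agent.L25.Observable.UnipEigen
import Groth.Agent.L25.Observable.Consequences
import Groth.Agent.S3266
import Groth.Agent.S7967
import Groth.Agent.L01.Unip.SepTrig
import Mathlib.RingTheory.FiniteType

/-!
# Connected subgroups of connected solvable groups are observable
-/

set_option autoImplicit false
set_option backward.isDefEq.respectTransparency.types false
set_option maxHeartbeats 800000

universe u

open CategoryTheory CategoryTheory.Limits MonoidalCategory CartesianMonoidalCategory MonObj AlgebraicGeometry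
open scoped TensorProduct
open WithConv

noncomputable section

namespace Groth.L25.Observable

variable {k : Type u} [Field k] [IsAlgClosed k]

/-- the diagonalisable quotient of a connected solvable group -/
theorem exists_diag_quotient {A : Type u} [CommRing A] [HopfAlgebra k A] [Algebra.FiniteType k A] [_root_.IsReduced A]
    (hconn : ∀ e : A, IsIdempotentElem e → e = 0 ∨ e = 1) [Group.IsSolvable (WithConv (A →ₐ[k] k))] :
    ∃ (B : Type u) (_ : CommRing B) (_ : HopfAlgebra k B) (ψ : B →ₐc[k] A) (J : Ideal A) (_ : J.IsHopfIdeal k)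
      (M : Type u) (_ : CommGroup M) (_ : Group.FG M),
      J = Ideal.map (ψ : B →+* A) (RingHom.ker (Bialgebra.counitAlgHom k B)) ∧
      HopfRep.IsUnipotent k (A ⧸ J) ∧ Nonempty (B ≃ₐc[k] MonoidAlgebra k M) := by
  obtain ⟨B, iB1, iB2, ψ, J, iJ, hψ, hdiag, hJ, hU⟩ :=
    (Groth.Agent.S7967.result k A).1 (Groth.Agent.S3266.result k A hconn)
  obtain ⟨M, iM, ⟨e⟩⟩ := Groth.L01.SepTrig.isDiag_of_isDiagonalizable hdiag
  haveI : Algebra.FiniteType k B := Groth.L01.SepTrig.finiteType_of_injective ψ hψ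
  have : Group.FG M :=
    MonoidAlgebra.finiteType_iff_group_fg.1
      (Algebra.FiniteType.equiv (inferInstance : Algebra.FiniteType k B) e.toAlgEquiv)
  exact ⟨B, iB1, iB2, ψ, J, iJ, M, iM, this, hJ, hU, ⟨e⟩⟩

theorem observable_of_connected_solvable {G H : Over (Spec (CommRingCat.of k))} [GrpObj G] [IsAffine G.left]
    [Smooth G.hom] [ConnectedSpace G.left] [GrpObj H] [Smooth H.hom] [ConnectedSpace H.left]
    (i : H ⟶ G) [IsMonHom i] [IsClosedImmersion i.left] (hs : Red.IsSolvableGrp G) : AGF.IsObservableIn k i := by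
  classical
  haveI : IsAffine H.left := isAffine_of_isAffineHom i.left
  obtain ⟨A, _, _, ψ, _, _, _, _⟩ := exists_chart G
  obtain ⟨A', _, _, ψ', _, _, _, _⟩ := exists_chart H
  obtain ⟨π, -, hπ⟩ := exists_res ψ ψ' i
  haveI : IsDomain A := isDomain ψ
  haveI : IsDomain A' := isDomain ψ'
  haveI : Group.IsSolvable (WithConv (A →ₐ[k] k)) := by
    obtain ⟨n, hn⟩ := hs
    haveI : Group.IsSolvable (VecGrp.pt k k ⟶ G) := ⟨⟨n, hn _⟩⟩
    let Φ : (VecGrp.pt k k ⟶ G) →* WithConv (A →ₐ[k] k) :=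
      { toFun := ev ψ, map_one' := ev_one ψ, map_mul' := ev_mul ψ }
    exact Group.isSolvable_of_surjective (f := Φ) (ev_surjective ψ)
  have hconn : ∀ e : A, IsIdempotentElem e → e = 0 ∨ e = 1 := fun e he => IsIdempotentElem.iff_eq_zero_or_one.1 he
  obtain ⟨B, _, _, ψB, J, iJ, M, _, hfg, hJ, hU, ⟨e⟩⟩ := exists_diag_quotient (k := k) hconn
  obtain ⟨S, hS⟩ := hfg.out
  -- the lattice of characters of the big group
  let gl : M →* A :=
    ((ψB : B →ₐ[k] A) : B →* A).comp
      (((e.symm : MonoidAlgebra k (M) →ₐc[k] B) : _ →* B).comp (MonoidAlgebra.of k _))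
  have hgl : ∀ (mm : M) (x y : VecGrp.pt k k ⟶ G),
      (ev ψ (x * y)).ofConv (gl mm) = (ev ψ x).ofConv (gl mm) * (ev ψ y).ofConv (gl mm) := fun mm x y => by
    have hg : IsGroupLikeElem k (gl mm) :=
      ((MonoidAlgebra.isGroupLikeElem_of mm).map
        (e.symm : MonoidAlgebra k (M) →ₐc[k] B)).map ψB
    rw [ev_mul, AlgHom.convMul_apply, hg.comul_eq_tmul_self, Algebra.TensorProduct.lift_tmul]
  let gU : M →* Aˣ := gl.toHomUnits
  let πU : Aˣ →* A'ˣ := Units.map (π : A →* A')
  let s : Finset A'ˣ := S.image fun l => πU (gU l)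
  refine observable_of_negPow ψ i fun χ hχ f hf0 hf => ?_
  obtain ⟨f₁, hf₁, hf₁1⟩ := hf.exists_normalized hf0
  -- the coordinate function of the character
  obtain ⟨c₀, hc₀⟩ := fn_surjective ψ' (GmPts.unitOfPt χ : Γ(H.left, ⊤))
  obtain ⟨c₁, hc₁⟩ := fn_surjective ψ' (GmPts.unitOfPt χ⁻¹ : Γ(H.left, ⊤))
  have hc₀v : ∀ x : VecGrp.pt k k ⟶ H, (ev ψ' x).ofConv c₀ = VecGrp.chiVal χ x := fun x => by
    rw [← val_fn, hc₀, chiVal_eq]
  have hc₁v : ∀ x : VecGrp.pt k k ⟶ H, (ev ψ' x).ofConv c₁ = VecGrp.chiVal χ⁻¹ x := fun x => by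
    rw [← val_fn, hc₁, chiVal_eq]
  have hcu : c₀ * c₁ = 1 := eq_of_forall_ev ψ' fun x => by
    rw [map_mul, map_one, hc₀v, hc₁v, mul_comm]; exact chiVal_inv_mul χ x
  let c : A'ˣ := Units.mkOfMulEqOne c₀ c₁ hcu
  have hk : ∀ x : VecGrp.pt k k ⟶ H, (∀ u ∈ s, (ev ψ' x).ofConv (u : A') = 1) → (ev ψ' x).ofConv (c : A') = 1 := by
    intro x hx
    show (ev ψ' x).ofConv c₀ = 1
    rw [hc₀v]
    let g : A →ₐ[k] k := (ev ψ (x ≫ i)).ofConv
    have hg1 : ∀ mm, g (gl mm) = 1 := by
      intro mm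
      let φ : M →* kˣ :=
        (Units.map (g : A →* k)).comp gU
      suffices h : φ = 1 from congrArg Units.val (DFunLike.congr_fun h mm)
      refine MonoidHom.eq_of_eqOn_dense hS fun l hl => Units.ext ?_
      exact (hπ x _).symm.trans (hx _ (Finset.mem_image_of_mem _ hl))
    have hgB : ∀ b : B, g (ψB b) = Coalgebra.counit (R := k) b := by
      intro b
      obtain ⟨z, rfl⟩ : ∃ z, e.symm z = b := ⟨e b, e.symm_apply_apply b⟩
      induction z using MonoidAlgebra.induction_linear with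
      | zero => simp
      | add z w hz hw => simp only [map_add, hz, hw]
      | single mm r =>
        rw [show MonoidAlgebra.single mm r = r • MonoidAlgebra.of k _ mm by simp [MonoidAlgebra.of_apply],
          map_smul, map_smul, map_smul, map_smul]
        congr 1
        refine (hg1 mm).trans (Eq.symm ?_)
        exact ((MonoidAlgebra.isGroupLikeElem_of mm).map
          (e.symm : MonoidAlgebra k (M) →ₐc[k] B)).counit_eq_one
    have hgJ : ∀ a ∈ J, g a = 0 := by
      have hle : J ≤ RingHom.ker g := by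
        rw [hJ]
        refine Ideal.map_le_iff_le_comap.2 fun b hb => ?_
        rw [Ideal.mem_comap, RingHom.mem_ker]
        exact (hgB b).trans hb
      exact fun a ha => hle ha
    have hfJ : f₁ ∉ J := by
      have hJ1 : J ≤ RingHom.ker ((ev ψ (1 : VecGrp.pt k k ⟶ G)).ofConv) := by
        rw [hJ]
        refine Ideal.map_le_iff_le_comap.2 fun b hb => ?_
        rw [Ideal.mem_comap, RingHom.mem_ker, ev_one, AlgHom.convOne_def]
        show algebraMap k k (Coalgebra.counit (R := k) (ψB b)) = 0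
        rw [CoalgHomClass.counit_comp_apply, show Coalgebra.counit (R := k) b = 0 from hb, map_zero]
      intro h
      have h1 := hJ1 h
      rw [RingHom.mem_ker, hf₁1] at h1
      exact one_ne_zero h1
    refine eq_one_of_eigen J hU g hgJ _ f₁ hfJ (eq_of_forall_ev ψ fun y => ?_)
    rw [apply_Rt, ← ev_mul, map_smul, smul_eq_mul]
    exact hf₁ y x
  obtain ⟨m, hm, hmem⟩ := exists_pow_mem_closure ψ' s c (fun u hu x y => by
    rcases hu with rfl | hu
    · show (ev ψ' (x * y)).ofConv c₀ = (ev ψ' x).ofConv c₀ * (ev ψ' y).ofConv c₀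
      rw [hc₀v, hc₀v, hc₀v]
      exact chiVal_mul χ x y
    · obtain ⟨l, -, rfl⟩ := Finset.mem_image.1 hu
      show (ev ψ' (x * y)).ofConv (π (gl _)) = (ev ψ' x).ofConv (π (gl _)) * (ev ψ' y).ofConv (π (gl _))
      rw [hπ, hπ, hπ, MonObj.mul_comp, hgl]) hk
  have hclo : Subgroup.closure (s : Set A'ˣ) ≤ gU.range.map πU := by
    refine (Subgroup.closure_le _).2 fun u hu => ?_
    obtain ⟨l, -, rfl⟩ := Finset.mem_image.1 hu
    exact ⟨_, ⟨_, rfl⟩, rfl⟩
  obtain ⟨_, ⟨mm, rfl⟩, hv⟩ := hclo hmem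
  refine ⟨m, gl mm⁻¹, hm, (gU mm⁻¹).isUnit.ne_zero, fun x h => ?_⟩
  rw [hgl, mul_comm]
  congr 1
  have h1 : (ev ψ' h).ofConv (π (gl mm)) = VecGrp.chiVal χ h ^ m := by
    rw [← hc₀v, ← map_pow]
    exact congrArg (fun u : A'ˣ => (ev ψ' h).ofConv (u : A')) hv
  rw [hπ] at h1
  beta_reduce
  rw [inv_pow, ← h1]
  refine eq_inv_of_mul_eq_one_left ?_
  rw [← map_mul, ← map_mul, inv_mul_cancel, map_one, map_one]

end Groth.L25.Observable
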