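import Groth.Agent.L25.Observable.Hull
import Groth.Agent.L08.Chevalley

/-!
# The hull as the stabiliser of a vector
-/

set_option autoImplicit false
set_option backward.isDefEq.respectTransparency.types false

universe u

open CategoryTheory CategoryTheory.Limits MonoidalCategory CartesianMonoidalCategory MonObj AlgebraicGeometry
open scoped TensorProduct
open WithConv

noncomputable section

namespace Groth.L25.Observable

open Groth.L08.Chevalley

variable {k : Type u} [Field k] {A : Type u} [CommRing A] [HopfAlgebra k A]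

/-- the comatrix of a finite-dimensional subcomodule containing given elements -/
theorem exists_comatrix (s : Finset A) :
    ∃ (d : ℕ) (b : Fin d → A) (a : Fin d → Fin d → A), IsComatrix (k := k) a ∧
      (∀ j, Coalgebra.comul (R := k) (b j) = ∑ i, b i ⊗ₜ[k] a i j) ∧ LinearIndependent k b ∧
      ∀ f ∈ s, ∃ x : Fin d → k, f = ∑ j, x j • b j := by
  classical
  obtain ⟨V0, hfin, hsub, hV0⟩ := Groth.L08.exists_finite_subcomod_of_finset (k := k) (A := A) (V := A) s
  let b := Module.finBasis k V0
  have hc : ∀ j, ∃ y : V0 ⊗[k] A, V0.subtype.rTensor A y = Coalgebra.comul (b j : A) := fun j => hV0 _ (b j).2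
  choose y hy using hc
  let a : _ → _ → A := fun i j => TensorProduct.lid k A ((b.coord i).rTensor A (y j))
  have hsum : ∀ j, y j = ∑ i, b i ⊗ₜ[k] a i j := by
    intro j
    have : ∀ z : V0 ⊗[k] A, z = ∑ i, b i ⊗ₜ[k] TensorProduct.lid k A ((b.coord i).rTensor A z) := by
      intro z
      induction z using TensorProduct.induction_on with
      | zero => simp
      | add x y hx hy =>
        simp only [map_add, TensorProduct.tmul_add, Finset.sum_add_distrib]
        rw [← hx, ← hy]
      | tmul x c =>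
        simp only [LinearMap.rTensor_tmul, TensorProduct.lid_tmul, Module.Basis.coord_apply,
          ← TensorProduct.smul_tmul]
        rw [← TensorProduct.sum_tmul, b.sum_repr]
    exact this _
  have hΔ : ∀ j, Coalgebra.comul (R := k) (b j : A) = ∑ i, (b i : A) ⊗ₜ[k] a i j := fun j => by
    rw [← hy, hsum]; simp
  obtain ⟨l, hl⟩ := V0.subtype.exists_leftInverse_of_injective V0.ker_subtype
  have hl' : ∀ x : V0, l (x : A) = x := fun x => LinearMap.congr_fun hl x
  refine ⟨_, fun j => (b j : A), a, ⟨fun i j => ?_, fun i j => ?_⟩, hΔ,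
    b.linearIndependent.map' V0.subtype V0.ker_subtype, fun f hf => ⟨b.repr ⟨f, hsub hf⟩, ?_⟩⟩
  · have h1 := Coalgebra.coassoc_apply (R := k) (b j : A)
    rw [hΔ] at h1
    simp only [map_sum, LinearMap.rTensor_tmul, LinearMap.lTensor_tmul, hΔ, TensorProduct.sum_tmul,
      TensorProduct.assoc_tmul] at h1
    have h2 := congrArg (fun z => TensorProduct.lid k (A ⊗[k] A) ((b.coord i ∘ₗ l).rTensor (A ⊗[k] A) z)) h1
    simp only [map_sum, LinearMap.rTensor_tmul, TensorProduct.lid_tmul, LinearMap.comp_apply, hl',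
      Module.Basis.coord_apply, Module.Basis.repr_self, Finsupp.single_apply, ite_smul, one_smul, zero_smul,
      Finset.sum_ite_eq', Finset.mem_univ, if_true] at h2
    exact h2.symm
  · have h1 := Coalgebra.lTensor_counit_comul (R := k) (b j : A)
    rw [hΔ] at h1
    have h2 := congrArg (fun z => TensorProduct.lid k k ((b.coord i ∘ₗ l).rTensor k z)) h1
    simp only [map_sum, LinearMap.lTensor_tmul, LinearMap.rTensor_tmul, TensorProduct.lid_tmul, LinearMap.comp_apply, hl',
      Module.Basis.coord_apply, Module.Basis.repr_self, Finsupp.single_apply, ite_smul, one_smul, zero_smul,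
      Finset.sum_ite_eq', Finset.mem_univ, if_true, smul_eq_mul, _root_.mul_one, ite_mul, _root_.one_mul, zero_mul] at h2
    rw [h2]
    simp [eq_comm]
  · have := congrArg V0.subtype (b.sum_repr ⟨f, hsub hf⟩)
    simp only [map_sum, map_smul, Submodule.subtype_apply] at this
    exact this.symm

theorem eq_iff_coord {n : Type} [Fintype n] [DecidableEq n] (z w : (n → k) ⊗[k] k) :
    z = w ↔ ∀ i, TensorProduct.lid k k ((LinearMap.proj i : (n → k) →ₗ[k] k).rTensor k z) =
      TensorProduct.lid k k ((LinearMap.proj i : (n → k) →ₗ[k] k).rTensor k w) := by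
  have key : ∀ (z : (n → k) ⊗[k] k) i, TensorProduct.lid k k ((LinearMap.proj i : (n → k) →ₗ[k] k).rTensor k z) =
      TensorProduct.rid k (n → k) z i := by
    intro z i
    induction z using TensorProduct.induction_on with
    | zero => simp
    | add x y hx hy => simp [hx, hy]
    | tmul x c => simp [mul_comm]
  simp only [key, ← funext_iff]
  exact (TensorProduct.rid k (n → k)).injective.eq_iff.symm

/-- a module over the group with the given coaction, transported to `G` -/
theorem exists_gmod_of_comatrix {G : Over (Spec (CommRingCat.of k))} [GrpObj G] (ψ : G ⟶ Sp k A) [IsMonHom ψ]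
    {n : Type} [Fintype n] [DecidableEq n] (a : n → n → A) (h : IsComatrix (k := k) a) :
    ∃ m : VecGrp.GMod G (n → k), ∀ (g : VecGrp.pt k k ⟶ G) (v : n → k),
      m.ρ k g ((1 : k) ⊗ₜ[k] v) = (1 : k) ⊗ₜ[k] v ↔ ∀ i, ∑ j, v j • (ev ψ g).ofConv (a i j) = v i := by
  obtain ⟨m, hm, -⟩ := ComodGMod.exists_gmod (R := k) (A := A) (coactOf (k := k) a) (comodOf a h).coassoc
    (comodOf a h).counit_comp
  refine ⟨⟨fun B _ _ => (m.ρ B).comp
    { toFun := fun g => g ≫ ψ
      map_one' := MonObj.one_comp ψ
      map_mul' := fun g g' => MonObj.mul_comp g g' ψ }, fun φ g x => ?_⟩, fun g v => ?_⟩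
  · show VecGrp.Wmap φ (m.ρ _ (g ≫ ψ) x) = m.ρ _ ((VecGrp.ptMap φ ≫ g) ≫ ψ) _
    rw [m.naturality, Category.assoc]
  · show m.ρ k (g ≫ ψ) _ = _ ↔ _
    rw [hm, ComodGMod.T_apply, ← TensorProduct.comm_tmul k (n → k) k v 1,
      (TensorProduct.comm k (n → k) k).injective.eq_iff, eq_iff_coord]
    refine forall_congr' fun i => ?_
    rw [coord_coactOf]
    simp [ev]

theorem isComatrix_block {n σ : Type} [Fintype n] [DecidableEq n] [Fintype σ] [DecidableEq σ]
    {a : n → n → A} (h : IsComatrix (k := k) a) :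
    IsComatrix (k := k) (fun p q : σ × n => if p.1 = q.1 then a p.2 q.2 else 0) := by
  refine ⟨fun p q => ?_, fun p q => ?_⟩
  · simp only [Fintype.sum_prod_type]
    split_ifs with e
    · rw [h.comul_eq, Finset.sum_eq_single_of_mem p.1 (Finset.mem_univ _)
        (fun t _ ht => Finset.sum_eq_zero fun l _ => by rw [if_neg (Ne.symm ht), TensorProduct.zero_tmul])]
      simp [e]
    · rw [map_zero]
      refine (Finset.sum_eq_zero fun t _ => Finset.sum_eq_zero fun l _ => ?_).symm
      by_cases ht : p.1 = t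
      · subst ht; rw [if_neg e, TensorProduct.tmul_zero]
      · rw [if_neg ht, TensorProduct.zero_tmul]
  · by_cases e : p.1 = q.1
    · rw [if_pos e, h.counit_eq]
      simp [Prod.ext_iff, e]
    · rw [if_neg e, map_zero, if_neg fun hpq : p = q => e (congrArg Prod.fst hpq)]

variable {G H : Over (Spec (CommRingCat.of k))} (ψ : G ⟶ Sp k A) [GrpObj G] [IsMonHom ψ] [IsIso ψ]
  (i : H ⟶ G)

/-- the hull is the stabiliser of a vector -/
theorem exists_vector [Algebra.FiniteType k A] [_root_.IsReduced A] [IsAlgClosed k] :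
    ∃ (n : Type) (_ : Fintype n) (_ : DecidableEq n) (m : VecGrp.GMod G (n → k)) (v : n → k),
      ∀ g : VecGrp.pt k k ⟶ G, m.ρ k g ((1 : k) ⊗ₜ[k] v) = (1 : k) ⊗ₜ[k] v ↔ InHull ψ i g := by
  classical
  obtain ⟨s, hs, hcut⟩ := exists_finset_hull ψ i
  obtain ⟨d, b, a, ha, hΔ, hli, hb⟩ := exists_comatrix (k := k) s
  choose x hx using hb
  obtain ⟨e⟩ : Nonempty (Fin s.card ≃ s) := ⟨s.equivFin.symm⟩
  let v : Fin s.card × Fin d → k := fun p => x (e p.1).1 (e p.1).2 p.2
  obtain ⟨m, hm⟩ := exists_gmod_of_comatrix ψ _ (isComatrix_block (σ := Fin s.card) ha)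
  refine ⟨_, inferInstance, inferInstance, m, v, fun g => ?_⟩
  rw [hm]
  have hev : ∀ (y : VecGrp.pt k k ⟶ G) (c : Fin d → k),
      (ev ψ (y * g)).ofConv (∑ j, c j • b j) =
        (ev ψ y).ofConv (∑ i, (∑ j, c j • (ev ψ g).ofConv (a i j)) • b i) := by
    intro y c
    rw [ev_mul, map_sum, map_sum]
    simp only [map_smul, AlgHom.convMul_apply, hΔ, map_sum, Algebra.TensorProduct.lift_tmul,
      Finset.sum_smul, smul_eq_mul, Finset.mul_sum]
    rw [Finset.sum_comm]
    refine Finset.sum_congr rfl fun i _ => Finset.sum_congr rfl fun j _ => ?_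
    ring
  have hcrit : (∀ p : Fin s.card × Fin d, ∑ q : Fin s.card × Fin d,
        v q • (ev ψ g).ofConv (if p.1 = q.1 then a p.2 q.2 else 0) = v p) ↔
      ∀ t i, ∑ j, x (e t).1 (e t).2 j • (ev ψ g).ofConv (a i j) = x (e t).1 (e t).2 i := by
    simp only [Prod.forall, Fintype.sum_prod_type]
    refine forall_congr' fun t => forall_congr' fun i => ?_
    rw [Finset.sum_eq_single_of_mem t (Finset.mem_univ _)
      (fun t' _ ht => Finset.sum_eq_zero fun l _ => by rw [if_neg (Ne.symm ht), map_zero, smul_zero])]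
    simp [v]
  rw [hcrit]
  constructor
  · intro h
    refine hcut g fun f hf y => ?_
    obtain ⟨t, ht⟩ := e.surjective ⟨f, hf⟩
    have hxf := hx f hf
    have h' := fun i => h t i
    simp only [ht] at h'
    conv_lhs => rw [hxf, hev]
    simp only [h', ← hxf]
  · intro hg t
    have h0 : (∑ i, (∑ j, x (e t).1 (e t).2 j • (ev ψ g).ofConv (a i j)) • b i) = (e t).1 := by
      refine eq_of_sub_eq_zero (GeomIrred.eq_zero_of_forall_algHom (k := k) _ fun φ => ?_)
      obtain ⟨y, hy⟩ := ev_surjective ψ (toConv φ)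
      have := hev y (x (e t).1 (e t).2)
      rw [← hx, hg _ (hs (e t).2) y, hy] at this
      rw [map_sub, sub_eq_zero]
      exact this.symm
    conv_rhs at h0 => rw [hx (e t).1 (e t).2]
    exact fun i => Fintype.linearIndependent_iff.1 hli
      (fun i => (∑ j, x (e t).1 (e t).2 j • (ev ψ g).ofConv (a i j)) - x (e t).1 (e t).2 i)
      (by simp only [sub_smul, Finset.sum_sub_distrib, h0, sub_self]) i |> sub_eq_zero.1

end Groth.L25.Observable
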